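import Cfsg.Agent.Lib.Invol.TwelveType.LocalFacts

/-! Automorphisms of the normal eight group normalised by the Sylow subgroup. -/

set_option autoImplicit false
set_option maxRecDepth 100000

namespace Cfsg.Agent.Invol.TwelveType

/-- The fours in the normal eight group. -/
def planeP : List (Fin 64) := [0, 2, 8, 10]

/-- The extension of images of the basis to the eight group. -/
def ext8 (a b c : Fin 64) (n : Fin 64) : Fin 64 :=
  if n == 10 then a else if n == 2 then b else if n == 16 then c else if n == 8 then mulI a b
  else if n == 26 then mulI a c else if n == 18 then mulI b c else if n == 24 then mulI (mulI a b) c else 0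

/-- A product of two automorphisms and one conjugation fixing `z` and moving `t` outside the plane. -/
def goodWord (f : Fin 64 → Fin 64) : Bool :=
  (f 10 == 10 && !planeP.contains (f 2)) ||
  (s64 fun h =>
    (f (conjI h (f 10)) == 10 && !planeP.contains (f (conjI h (f 2)))) ||
    (eightI.any fun y => !planeP.contains y && conjI h (f 10) == f 10 && conjI h (f 2) == f y) ||
    (eightI.any fun x => f x == 10 && eightI.any fun w => f w == 2 &&
      ((f (conjI h x) == 10 && !planeP.contains (f (conjI h w))) ||
        (f 10 == conjI h x && eightI.any fun y => !planeP.contains y && f y == conjI h w))))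

theorem good_word : eightI.all (fun a => eightI.all fun b => eightI.all fun c =>
    !((eightI.map (ext8 a b c)).all (fun x => eightI.contains x) && decide (eightI.map (ext8 a b c)).Nodup &&
      planeP.any (fun p => !planeP.contains (ext8 a b c p))) || goodWord (ext8 a b c)) = true := by decide +kernel

theorem pure_all : zList.all (fun a => zList.all fun b =>
    !((genList a b).all (fun x => x == 0 || zList.contains x) && comI a b && decide (genList a b).Nodup) ||
    sameSet (genList a b) eightI || sameSet (genList a b) eightU || sameSet (genList a b) eightU') = true := by
  decide +kernel

theorem moves_plane : eightU.all (fun a => eightU.all fun b =>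
    !(!(a == 0) && !(b == 0) && !(a == b) && !(a == 10) && !(b == 10) && !(mulI a b == 10)) ||
    s64 (fun n => decide (n.val < 32) &&
      (!([0, a, b, mulI a b].contains (conjI n a)) || !([0, a, b, mulI a b].contains (conjI n b))))) = true := by
  decide +kernel

theorem ext8_id : eightI.all (fun n => ext8 10 2 16 n == n) = true := by decide +kernel

end Cfsg.Agent.Invol.TwelveType
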