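import Cfsg.Agent.Lib.Invol.TwelveType.Shape

/-! The quotient of the centraliser by its 2-core is `S₃`, acting fixed point freely. -/

set_option autoImplicit false
set_option linter.style.haveILetI false
set_option linter.unusedSectionVars false

namespace Cfsg.Agent.Invol.TwelveType

open Subgroup Cfsg.Agent.Grp

universe u

theorem perm3_no_two : ∀ y : Equiv.Perm (Fin 3), y ≠ 1 → y * y = 1 →
    ∃ w : Equiv.Perm (Fin 3), w * y * w⁻¹ * y ≠ 1 ∧ (w * y * w⁻¹ * y) ^ 3 = 1 := by decide +kernel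

theorem perm3_moves : ∀ y : Equiv.Perm (Fin 3), y ^ 3 = 1 → y ≠ 1 →
    (∀ i, y i ≠ i) ∧ ∀ i j, y i = j ∨ y (y i) = j ∨ i = j := by decide +kernel

theorem perm3_comm : ∀ y w : Equiv.Perm (Fin 3), y ^ 3 = 1 → y ≠ 1 → w * y = y * w → w ^ 3 = 1 := by decide +kernel

/-- The representative of a class. -/
def rep3 : Fin 3 → Fin 64 := ![2, 16, 18]

theorem rep3_ok : ∀ i, rep3 i ∈ eightI ∧ rep3 i ≠ 0 ∧ rep3 i ≠ 10 ∧ cls3 (rep3 i) = i := by decide +kernel

theorem cls3_eq {a b : Fin 64} (ha : a ∈ eightI) (hb : b ∈ eightI) (ha0 : a ≠ 0 ∧ a ≠ 10) (hb0 : b ≠ 0 ∧ b ≠ 10)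
    (h : cls3 a = cls3 b) : b = a ∨ b = mulI 10 a := by
  have := List.all_eq_true.1 cls3_ok.1 a ha
  simp only [beq_eq_false_iff_ne.2 ha0.1, beq_eq_false_iff_ne.2 ha0.2, Bool.false_or, List.all_eq_true] at this
  simpa [hb0.1, hb0.2, h] using this b hb

theorem cls3_z {a : Fin 64} (ha : a ∈ eightI) (ha0 : a ≠ 0 ∧ a ≠ 10) : cls3 (mulI 10 a) = cls3 a := by
  simpa [ha0.1, ha0.2] using List.all_eq_true.1 cls3_ok.2.1 a ha

variable {X : Type u} [Group X] [Finite X]

namespace QuotHyp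

variable {q : QuotHyp X}

theorem exists_im (x : X) {a : Fin 64} (ha : a ∈ eightI) (ha0 : a ≠ 0 ∧ a ≠ 10) :
    ∃ b, (b ∈ eightI ∧ b ≠ 0 ∧ b ≠ 10) ∧ q.co.el b = x * q.co.el a * x⁻¹ := by
  obtain ⟨b, hb, e⟩ := E_normal (q := q) x ha
  refine ⟨b, ⟨hb, fun h => ?_, fun h => ?_⟩, e⟩
  · rw [h, q.co.el_zero, eq_comm, conj_eq_one_iff, q.co.el_eq_one] at e
    exact ha0.1 e
  · rw [h, show q.co.el 10 = x * q.co.el 10 * x⁻¹ by rw [q.central x]; group, mul_left_inj, mul_right_inj] at e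
    exact ha0.2 (q.co.inj e).symm

/-- The image of a representative. -/
noncomputable def img (q : QuotHyp X) (x : X) (i : Fin 3) : Fin 64 :=
  Classical.choose (exists_im (q := q) x (rep3_ok i).1 ⟨(rep3_ok i).2.1, (rep3_ok i).2.2.1⟩)

theorem img_spec (x : X) (i : Fin 3) :
    (q.img x i ∈ eightI ∧ q.img x i ≠ 0 ∧ q.img x i ≠ 10) ∧ q.co.el (q.img x i) = x * q.co.el (rep3 i) * x⁻¹ :=
  Classical.choose_spec (exists_im (q := q) x (rep3_ok i).1 ⟨(rep3_ok i).2.1, (rep3_ok i).2.2.1⟩)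

/-- The class of the image only depends on the class. -/
theorem cls_conj (x : X) {a b : Fin 64} (ha : a ∈ eightI) (ha0 : a ≠ 0 ∧ a ≠ 10)
    (hb : q.co.el b = x * q.co.el a * x⁻¹) : cls3 b = cls3 (q.img x (cls3 a)) := by
  obtain ⟨hi, hie⟩ := img_spec (q := q) x (cls3 a)
  rcases cls3_eq (rep3_ok (cls3 a)).1 ha ⟨(rep3_ok _).2.1, (rep3_ok _).2.2.1⟩ ha0 (rep3_ok (cls3 a)).2.2.2
    with e | e
  · rw [← e] at hie
    rw [q.co.inj (hb.trans hie.symm)]
  · have h1 : q.co.el b = q.co.el (mulI 10 (q.img x (cls3 a))) := by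
      rw [hb]
      nth_rewrite 1 [e]
      rw [← q.co.mul, ← q.co.mul, hie,
        show x * (q.co.el 10 * q.co.el (rep3 (cls3 a))) * x⁻¹ =
          (x * q.co.el 10 * x⁻¹) * (x * q.co.el (rep3 (cls3 a)) * x⁻¹) by group, q.central x, mul_inv_cancel_right]
    rw [q.co.inj h1, cls3_z hi.1 hi.2]

/-- The permutation of the three classes. -/
noncomputable def act (q : QuotHyp X) : X →* Equiv.Perm (Fin 3) :=
  MonoidHom.toHomPerm
    { toFun := fun x i => cls3 (q.img x i)
      map_one' := funext fun i => by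
        have h := (img_spec (q := q) 1 i).2
        rw [one_mul, inv_one, mul_one] at h
        show cls3 (q.img 1 i) = i
        rw [q.co.inj h, (rep3_ok i).2.2.2]
      map_mul' := fun x y => funext fun i => by
        obtain ⟨hy, hye⟩ := img_spec (q := q) y i
        show cls3 (q.img (x * y) i) = cls3 (q.img x (cls3 (q.img y i)))
        refine cls_conj (q := q) x hy.1 hy.2 ?_
        rw [(img_spec (q := q) (x * y) i).2, hye]
        group }

theorem act_apply (x : X) (i : Fin 3) : q.act x i = cls3 (q.img x i) := rfl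

theorem act_cls (x : X) {a b : Fin 64} (ha : a ∈ eightI) (ha0 : a ≠ 0 ∧ a ≠ 10)
    (hb : q.co.el b = x * q.co.el a * x⁻¹) : cls3 b = q.act x (cls3 a) :=
  (cls_conj (q := q) x ha ha0 hb).trans (act_apply x _).symm

theorem ker_act : q.act.ker = q.Qx := by
  ext x
  constructor
  · intro hx a ha
    have haa : q.co.el a * q.co.el a = 1 := by rw [q.co.mul, (eight_ops' ha ha).2.2.2, q.co.el_zero]
    by_cases h0 : a = 0
    · left; rw [h0, q.co.el_zero]; group
    by_cases h10 : a = 10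
    · left; rw [h10, q.central x, mul_inv_cancel_right, ← h10]; exact haa
    obtain ⟨b, hb, hbe⟩ := exists_im (q := q) x ha ⟨h0, h10⟩
    have hc := act_cls (q := q) x ha ⟨h0, h10⟩ hbe
    rw [MonoidHom.mem_ker.1 hx, Equiv.Perm.one_apply] at hc
    rw [← hbe]
    rcases cls3_eq ha hb.1 ⟨h0, h10⟩ hb.2 hc.symm with e | e <;> rw [e]
    · exact Or.inl haa
    · right; rw [← q.co.mul, mul_assoc, haa, mul_one]
  · intro hx
    refine MonoidHom.mem_ker.2 (Equiv.ext fun i => ?_)
    obtain ⟨hi, hie⟩ := img_spec (q := q) x i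
    have haa : q.co.el (rep3 i) * q.co.el (rep3 i) = 1 := by
      rw [q.co.mul, (eight_ops' (rep3_ok i).1 (rep3_ok i).1).2.2.2, q.co.el_zero]
    have e : x * q.co.el (rep3 i) * x⁻¹ =
        (x * q.co.el (rep3 i) * x⁻¹ * q.co.el (rep3 i)) * q.co.el (rep3 i) := by
          rw [mul_assoc (x * q.co.el (rep3 i) * x⁻¹), haa, mul_one]
    show q.act x i = i
    rw [act_apply]
    rcases hx _ (rep3_ok i).1 with e1 | e1 <;> rw [e1] at e
    · rw [one_mul] at e
      rw [q.co.inj (hie.trans e), (rep3_ok i).2.2.2]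
    · rw [q.co.mul] at e
      rw [q.co.inj (hie.trans e), cls3_z (rep3_ok i).1 ⟨(rep3_ok i).2.1, (rep3_ok i).2.2.1⟩, (rep3_ok i).2.2.2]

variable (hmove : ∃ x : X, ∀ b, q.co.el b = x * q.co.el 2 * x⁻¹ → b ∉ planeP)
include hmove

theorem card_X : Nat.card X = 192 := by
  haveI : Fact (Nat.Prime 2) := ⟨Nat.prime_two⟩
  have h1 := (q.T : Subgroup X).card_mul_index
  have h2 := q.E.card_mul_index
  have h3 : ¬ 2 ∣ (q.T : Subgroup X).index := q.T.not_dvd_index
  have h4 := index_le (q := q)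
  rw [card_T q] at h1
  rw [card_E] at h2
  have hne : (q.T : Subgroup X).index ≠ 1 := by
    intro h
    obtain ⟨x, hx⟩ := hmove
    obtain ⟨n, rfl⟩ := (q.co.mem x).1 ((index_eq_one.1 h) ▸ mem_top x)
    have := of_t64 fix_plane n
    exact hx (conjI n 2) (q.co.el_conj n 2) (List.contains_iff_mem.1 this)
  omega

theorem act_surj : Function.Surjective q.act := by
  have h1 := q.act.ker.card_mul_index
  rw [Subgroup.index_ker, ker_act, card_Qx, card_X hmove] at h1
  rw [← MonoidHom.range_eq_top]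
  refine Subgroup.eq_top_of_card_eq _ ?_
  rw [Nat.card_eq_fintype_card (α := Equiv.Perm (Fin 3)), Fintype.card_perm, Fintype.card_fin]
  show _ = 6
  omega

/-- The 2-core. -/
theorem pCore_eq : Cfsg.pCore 2 X = q.Qx := by
  haveI : Fact (Nat.Prime 2) := ⟨Nat.prime_two⟩
  refine le_antisymm (fun x hx => ?_) (Grp.le_pCore Qx_normal Qx_pgroup)
  rw [← ker_act, MonoidHom.mem_ker]
  haveI := Grp.pCore_isNormal (p := 2) (G := X)
  by_contra hne
  obtain ⟨k, hk⟩ := (Grp.pCore_isPGroup (p := 2) (G := X)).map q.act ⟨q.act x, x, hx, rfl⟩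
  have hk' : q.act x ^ 2 ^ k = 1 := congrArg Subtype.val hk
  have h6 : q.act x ^ 6 = 1 := by
    have := pow_card_eq_one' (x := q.act x)
    rwa [Nat.card_eq_fintype_card, Fintype.card_perm, Fintype.card_fin] at this
  have h2 : orderOf (q.act x) ∣ 2 := by
    have hd := Nat.dvd_gcd (orderOf_dvd_of_pow_eq_one h6) (orderOf_dvd_of_pow_eq_one hk')
    refine hd.trans ?_
    rcases k with _ | k
    · simp
    · rw [pow_succ', show (6 : ℕ) = 2 * 3 from rfl, Nat.gcd_mul_left]
      rw [(Nat.Coprime.pow_right k (by norm_num) : Nat.Coprime 3 (2 ^ k)).gcd_eq_one]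
  obtain ⟨w, hw1, hw3⟩ := perm3_no_two (q.act x) hne (by rw [← pow_two]; exact orderOf_dvd_iff_pow_eq_one.1 h2)
  obtain ⟨v, rfl⟩ := act_surj hmove w
  have hmem : v * x * v⁻¹ * x ∈ Cfsg.pCore 2 X :=
    Subgroup.mul_mem _ (Subgroup.Normal.conj_mem inferInstance x hx v) hx
  obtain ⟨j, hj⟩ := (Grp.pCore_isPGroup (p := 2) (G := X)).map q.act ⟨_, _, hmem, rfl⟩
  have hj' : q.act (v * x * v⁻¹ * x) ^ 2 ^ j = 1 := congrArg Subtype.val hj
  refine hw1 ?_
  rw [← map_inv, ← map_mul, ← map_mul, ← map_mul] at hw3 ⊢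
  exact orderOf_eq_one_iff.1 (Nat.eq_one_of_dvd_coprimes (Nat.Coprime.pow_right j (by norm_num : Nat.Coprime 3 2))
    (orderOf_dvd_of_pow_eq_one hw3) (orderOf_dvd_of_pow_eq_one hj'))

omit hmove in
/-- An element of order three fixes only `⟨z⟩` in the 2-core. -/
theorem fix_trivial {x : X} (hx3 : x ^ 3 = 1) (hx : x ∉ q.Qx) {u : X} (hu : u ∈ q.Qx) (hxu : x * u = u * x) :
    u = 1 ∨ u = q.co.el 10 := by
  have hne : q.act x ≠ 1 := fun e => hx (ker_act (q := q) ▸ MonoidHom.mem_ker.2 e)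
  obtain ⟨hmv, htr⟩ := perm3_moves _ (by rw [← map_pow, hx3, map_one]) hne
  obtain ⟨n, rfl⟩ := (q.co.mem u).1 (Qx_le hu)
  have hstep : ∀ a ∈ eightI, a ≠ 0 → a ≠ 10 → ∀ b, q.co.el b = x * q.co.el a * x⁻¹ → comI n b = comI n a := by
    intro a _ _ _ b hb
    refine Bool.eq_iff_iff.2 ?_
    rw [q.co.com_iff, q.co.com_iff, hb]
    constructor
    · intro h
      calc q.co.el n * q.co.el a = x⁻¹ * ((x * q.co.el n) * q.co.el a * x⁻¹) * x := by group
        _ = x⁻¹ * (q.co.el n * (x * q.co.el a * x⁻¹)) * x := by rw [hxu]; group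
        _ = x⁻¹ * ((x * q.co.el a * x⁻¹) * q.co.el n) * x := by rw [h]
        _ = q.co.el a * x⁻¹ * (q.co.el n * x) := by group
        _ = _ := by rw [← hxu]; group
    · intro h
      calc q.co.el n * (x * q.co.el a * x⁻¹) = (q.co.el n * x) * q.co.el a * x⁻¹ := by group
        _ = x * (q.co.el n * q.co.el a) * x⁻¹ := by rw [← hxu]; group
        _ = x * (q.co.el a * q.co.el n) * x⁻¹ := by rw [h]
        _ = x * q.co.el a * x⁻¹ * ((x * q.co.el n) * x⁻¹) := by group
        _ = _ := by rw [hxu]; group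
  have hclass : ∀ a b, a ∈ eightI → b ∈ eightI → (a ≠ 0 ∧ a ≠ 10) → (b ≠ 0 ∧ b ≠ 10) → cls3 a = cls3 b →
      comI n a = comI n b := by
    intro a b ha hb ha0 hb0 h
    rcases cls3_eq ha hb ha0 hb0 h with e | e <;> rw [e]
    refine Bool.eq_iff_iff.2 ?_
    rw [q.co.com_iff, q.co.com_iff, ← q.co.mul]
    have hc : Commute (q.co.el n) (q.co.el 10) := q.central _
    exact ⟨fun h => (hc.mul_right h).eq, fun h => by
      have := ((hc.inv_right).mul_right h).eq
      simpa using this⟩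
  have hnext : ∀ i, comI n (rep3 (q.act x i)) = comI n (rep3 i) := fun i => by
    obtain ⟨hi, hie⟩ := img_spec (q := q) x i
    rw [← hstep _ (rep3_ok i).1 (rep3_ok i).2.1 (rep3_ok i).2.2.1 _ hie]
    exact hclass _ _ (rep3_ok _).1 hi.1 ⟨(rep3_ok _).2.1, (rep3_ok _).2.2.1⟩ hi.2
      (by rw [(rep3_ok _).2.2.2, act_apply])
  have hall : ∀ i j, comI n (rep3 i) = comI n (rep3 j) := fun i j => by
    rcases htr i j with e | e | e
    · rw [← e, hnext]
    · rw [← e, hnext, hnext]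
    · rw [e]
  have hnE : n ∈ eightI := by
    have := of_t64 equal_defect n
    have e1 : comI n 2 = comI n 16 := hall 0 1
    have e2 : comI n 16 = comI n 18 := hall 1 2
    simpa [mem_Qx.1 hu, e1, e2] using this
  by_contra hcon
  push Not at hcon
  have hn0 : n ≠ 0 := fun e => hcon.1 (by rw [e, q.co.el_zero])
  have hn10 : n ≠ 10 := fun e => hcon.2 (by rw [e])
  have hfix := act_cls (q := q) x hnE ⟨hn0, hn10⟩ (b := n) (by rw [hxu]; group)
  exact hmv _ hfix.symm

/-- A subgroup of odd order normalised by an elementary group of order eight is trivial. -/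
theorem odd_trivial {A U : Subgroup X} (hA : IsPGroup 2 A) (hAc : ∀ a ∈ A, ∀ b ∈ A, a * b = b * a)
    (hAcard : 8 ≤ Nat.card A) (hUo : Odd (Nat.card U)) (hAU : A ≤ normalizer (U : Set X)) : U = ⊥ := by
  haveI : Fact (Nat.Prime 2) := ⟨Nat.prime_two⟩
  by_contra hne
  obtain ⟨⟨x, hxU⟩, hx1⟩ := U.ne_bot_iff_exists_ne_one.1 hne
  have hx1' : x ≠ 1 := fun e => hx1 (Subtype.ext e)
  have hQU : ∀ y ∈ U, y ∈ q.Qx → y = 1 := fun y hy hyQ => by
    obtain ⟨j, hj⟩ := Qx_pgroup (q := q) ⟨y, hyQ⟩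
    exact orderOf_eq_one_iff.1 (Nat.eq_one_of_dvd_coprimes (Nat.Coprime.pow_right j hUo.coprime_two_right)
      (Subgroup.orderOf_dvd_natCard _ hy) (orderOf_dvd_of_pow_eq_one (congrArg Subtype.val hj)))
  have hU3 : ∀ y ∈ U, y ^ 3 = 1 := fun y hy => by
    have h1 : q.act y ^ 6 = 1 := by
      have := pow_card_eq_one' (x := q.act y)
      rwa [Nat.card_eq_fintype_card, Fintype.card_perm, Fintype.card_fin] at this
    have h2 : y ^ 6 = 1 := hQU _ (U.pow_mem hy 6) (by rw [← ker_act, MonoidHom.mem_ker, map_pow, h1])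
    have hd : orderOf y ∣ 6 := orderOf_dvd_of_pow_eq_one h2
    have hc : (orderOf y).Coprime 2 := hUo.coprime_two_right.coprime_dvd_left (Subgroup.orderOf_dvd_natCard _ hy)
    exact orderOf_dvd_iff_pow_eq_one.1 (hc.dvd_of_dvd_mul_left (show orderOf y ∣ 2 * 3 from hd))
  have hxQ : x ∉ q.Qx := fun h => hx1' (hQU x hxU h)
  have himg : ∀ y ∈ U, q.act y = 1 ∨ q.act y = q.act x ∨ q.act y = (q.act x) * (q.act x) := by
    intro y hy
    have key : ∀ a b : Equiv.Perm (Fin 3), a ^ 3 = 1 → b ^ 3 = 1 → a ≠ 1 → b = 1 ∨ b = a ∨ b = a * a := by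
      decide +kernel
    exact key _ _ (by rw [← map_pow, hU3 x hxU, map_one]) (by rw [← map_pow, hU3 y hy, map_one])
      (fun e => hxQ (ker_act (q := q) ▸ MonoidHom.mem_ker.2 e))
  have hUx : ∀ y ∈ U, y = 1 ∨ y = x ∨ y = x * x := fun y hy => by
    have hk : ∀ w ∈ U, q.act w = q.act y → w = y := fun w hw e => by
      have := hQU _ (U.mul_mem (U.inv_mem hw) hy) (by rw [← ker_act, MonoidHom.mem_ker, map_mul, map_inv, e, inv_mul_cancel])
      exact inv_mul_eq_one.1 this
    rcases himg y hy with e | e | e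
    · exact Or.inl (hk 1 U.one_mem (by rw [map_one, e])).symm
    · exact Or.inr (Or.inl (hk x hxU e.symm).symm)
    · exact Or.inr (Or.inr (hk _ (U.mul_mem hxU hxU) (by rw [map_mul, e])).symm)
  -- the part of `A` centralising `x` has order at most two
  set B := A ⊓ centralizer ({x} : Set X) with hB
  have hBQ : ∀ b ∈ B, b = 1 ∨ b = q.co.el 10 := by
    rintro b ⟨hbA, hbx⟩
    have hcomm : b * x = x * b := mem_centralizer_singleton_iff.1 hbx
    refine fix_trivial (q := q) (hU3 x hxU) hxQ ?_ hcomm.symm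
    rw [← ker_act, MonoidHom.mem_ker]
    obtain ⟨j, hj⟩ := hA ⟨b, hbA⟩
    have hb3 := perm3_comm (q.act x) (q.act b) (by rw [← map_pow, hU3 x hxU, map_one])
      (fun e => hxQ (ker_act (q := q) ▸ MonoidHom.mem_ker.2 e)) (by rw [← map_mul, ← map_mul, hcomm])
    exact orderOf_eq_one_iff.1 (Nat.eq_one_of_dvd_coprimes (Nat.Coprime.pow_right j (by norm_num : Nat.Coprime 3 2))
      (orderOf_dvd_of_pow_eq_one hb3) ((orderOf_map_dvd q.act b).trans
        (orderOf_dvd_of_pow_eq_one (congrArg Subtype.val hj))))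
  have hB2 : Nat.card B ≤ 2 := by
    classical
    let f : ↥B → Bool := fun b => if (b : X) = 1 then true else false
    refine (Nat.card_le_card_of_injective f fun b c e => Subtype.ext ?_).trans (by simp)
    have hne : q.co.el 10 ≠ 1 := fun h => absurd (q.co.el_eq_one.1 h) (by decide)
    have e' : (b : X) = 1 ↔ (c : X) = 1 := by
      by_cases hb : (b : X) = 1 <;> by_cases hc : (c : X) = 1 <;> simp only [f, hb, hc, if_true, if_false] at e ⊢ <;>
        exact absurd e (by decide)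
    rcases hBQ b b.2 with e1 | e1 <;> rcases hBQ c c.2 with e2 | e2
    · exact e1.trans e2.symm
    · exact absurd (e2.symm.trans (e'.1 e1)) hne
    · exact absurd (e1.symm.trans (e'.2 e2)) hne
    · exact e1.trans e2.symm
  have h2B : Nat.card A ≤ 2 * Nat.card B := by
    classical
    have hcase : ∀ a ∈ A, a * x * a⁻¹ = x ∨ a * x * a⁻¹ = x * x := fun a ha => by
      rcases hUx _ (mem_conj_normalizer (hAU ha) hxU) with e | e | e
      exacts [absurd (conj_eq_one_iff.1 e) hx1', Or.inl e, Or.inr e]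
    by_cases hex : ∃ a ∈ A, a * x * a⁻¹ = x * x
    · obtain ⟨a0, ha0, he0⟩ := hex
      have hmemB : ∀ a ∈ A, a * x * a⁻¹ = x * x → a⁻¹ * a0 ∈ B := fun a ha he =>
        ⟨A.mul_mem (A.inv_mem ha) ha0, mem_centralizer_singleton_iff.2 (by
          have : a0 * x * a0⁻¹ = a * x * a⁻¹ := he0.trans he.symm
          calc a⁻¹ * a0 * x = a⁻¹ * (a0 * x * a0⁻¹) * a0 := by group
            _ = a⁻¹ * (a * x * a⁻¹) * a0 := by rw [this]
            _ = _ := by group)⟩
      let f : ↥A → Bool × ↥B := fun a =>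
        if h : (a : X) * x * (a : X)⁻¹ = x then (true, ⟨a, a.2, mem_centralizer_singleton_iff.2 (mul_inv_eq_iff_eq_mul.1 h)⟩)
        else (false, ⟨(a : X)⁻¹ * a0, hmemB a a.2 ((hcase a a.2).resolve_left h)⟩)
      refine (Nat.card_le_card_of_injective f fun a c e => ?_).trans (by simp [Nat.card_prod])
      by_cases h : (a : X) * x * (a : X)⁻¹ = x <;> by_cases h' : (c : X) * x * (c : X)⁻¹ = x
      · simp only [f, dif_pos h, dif_pos h'] at e
        exact Subtype.ext (congrArg (fun p : Bool × ↥B => ((p.2 : ↥B) : X)) e)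
      · simp only [f, dif_pos h, dif_neg h'] at e
        exact absurd (congrArg Prod.fst e) Bool.noConfusion
      · simp only [f, dif_neg h, dif_pos h'] at e
        exact absurd (congrArg Prod.fst e) Bool.noConfusion
      · simp only [f, dif_neg h, dif_neg h'] at e
        exact Subtype.ext (inv_injective (mul_right_cancel (congrArg (fun p : Bool × ↥B => ((p.2 : ↥B) : X)) e)))
    · push Not at hex
      refine le_trans (Subgroup.card_le_of_le fun a ha => ?_) (Nat.le_mul_of_pos_left _ two_pos)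
      exact ⟨ha, mem_centralizer_singleton_iff.2 (mul_inv_eq_iff_eq_mul.1 ((hcase a ha).resolve_right (hex a ha)))⟩
  omega

end QuotHyp

end Cfsg.Agent.Invol.TwelveType
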