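import Cfsg.Agent.Lib.Invol.TwelveType.Mover
import Cfsg.Agent.Lib.Invol.TwelveType.ShapeTop
import Cfsg.Agent.Lib.Grp.PComponents
import Cfsg.Agent.S1250

/-! The centraliser of the central involution modulo its odd core. -/

set_option autoImplicit false
set_option linter.style.haveILetI false
set_option linter.unusedSectionVars false

namespace Cfsg.Agent.Invol.TwelveType

open Subgroup Cfsg.Agent.Grp

universe u

variable {G : Type u} [Group G] [Finite G]

namespace Setting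

variable (d : Setting G)

/-- The odd core of the centraliser. -/
abbrev O : Subgroup ↥d.C := Cfsg.pPrimeCore 2 ↥d.C

/-- An element of the Sylow subgroup as an element of the centraliser. -/
def elC (n : Fin 64) : ↥d.C := ⟨d.co.el n, el_mem_C n⟩

theorem elC_mem_O {n : Fin 64} (h : d.elC n ∈ d.O) : n = 0 := by
  obtain ⟨j, hj⟩ := d.P.isPGroup' ⟨d.co.el n, d.co.mem_el n⟩
  have h1 : d.elC n ^ 2 ^ j = 1 := Subtype.ext (by simpa [elC] using congrArg Subtype.val hj)
  refine d.co.el_eq_one.1 (congrArg Subtype.val (show d.elC n = 1 from ?_))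
  exact orderOf_eq_one_iff.1 (Nat.eq_one_of_dvd_coprimes (Nat.Coprime.pow_right j pPrimeCore_coprime)
    (Subgroup.orderOf_dvd_natCard _ h) (orderOf_dvd_of_pow_eq_one h1))

theorem elC_mul (n m : Fin 64) : d.elC n * d.elC m = d.elC (mulI n m) := Subtype.ext (d.co.mul n m)

variable (hk : IsConj (d.co.el 32) (d.co.el 21))

/-- The data of the quotient. -/
noncomputable def quot : QuotHyp (↥d.C ⧸ d.O) :=
  haveI : Fact (Nat.Prime 2) := ⟨Nat.prime_two⟩
  haveI : d.O.Normal := pPrimeCore_isNormal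
  { T := (d.P.subtype P_le_C).mapSurjective (QuotientGroup.mk'_surjective d.O)
    co :=
      { el := fun n => (d.elC n : ↥d.C ⧸ d.O)
        inj := fun n m e => by
          have h1 : (d.elC n)⁻¹ * d.elC m ∈ d.O := (QuotientGroup.eq).1 e
          have h2 : d.elC (mulI (invI n) m) ∈ d.O := by
            rw [← d.elC_mul, show d.elC (invI n) = (d.elC n)⁻¹ from Subtype.ext (d.co.el_inv n)]
            exact h1
          have h3 := congrArg d.co.el (d.elC_mem_O h2)
          rw [d.co.el_zero, ← d.co.mul, d.co.el_inv, inv_mul_eq_one] at h3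
          exact d.co.inj h3
        mul := fun n m => by rw [← QuotientGroup.mk_mul, d.elC_mul]
        mem := fun g => by
          rw [Sylow.coe_mapSurjective, Subgroup.mem_map]
          constructor
          · rintro ⟨x, hx, rfl⟩
            obtain ⟨n, hn⟩ := (d.co.mem _).1 (mem_subgroupOf.1 hx)
            exact ⟨n, congrArg QuotientGroup.mk (Subtype.ext hn)⟩
          · rintro ⟨n, rfl⟩
            exact ⟨d.elC n, mem_subgroupOf.2 (d.co.mem_el n), rfl⟩ }
    core := pPrimeCore_quotient_bot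
    central := fun x => by
      obtain ⟨y, rfl⟩ := QuotientGroup.mk_surjective x
      rw [← QuotientGroup.mk_mul, ← QuotientGroup.mk_mul]
      exact congrArg QuotientGroup.mk (Subtype.ext (mem_C.1 y.2))
    closed := fun a ha g n hgn => by
      have hops : ∀ {a b}, a ∈ eightI → b ∈ eightI → mulI a b ∈ eightI := fun ha hb => (eight_ops' ha hb).1
      let A : Subgroup ↥d.C :=
        { carrier := {x | ∃ a ∈ eightI, d.elC a = x}
          one_mem' := ⟨0, by decide, Subtype.ext d.co.el_zero⟩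
          mul_mem' := by
            rintro _ _ ⟨a, ha, rfl⟩ ⟨b, hb, rfl⟩
            exact ⟨_, hops ha hb, (d.elC_mul a b).symm⟩
          inv_mem' := by
            rintro _ ⟨a, ha, rfl⟩
            exact ⟨a, ha, Subtype.ext (by
              show d.co.el a = (d.co.el a)⁻¹
              rw [← d.co.el_inv, (eight_ops' ha ha).2.2.1])⟩ }
      have hA : Cfsg.IsStronglyClosed A (d.P.subtype P_le_C : Subgroup ↥d.C) := by
        refine ⟨?_, ?_⟩
        · rintro _ ⟨a, -, rfl⟩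
          exact mem_subgroupOf.2 (d.co.mem_el a)
        rintro _ ⟨a, ha, rfl⟩ x hx
        obtain ⟨m, hm⟩ := (d.co.mem _).1 (mem_subgroupOf.1 hx)
        exact ⟨m, closed hk x.2 ha hm, Subtype.ext hm⟩
      obtain ⟨g, rfl⟩ := QuotientGroup.mk_surjective g
      have hgn' : (d.elC n : ↥d.C ⧸ d.O) = (g : ↥d.C ⧸ d.O) * (d.elC a : ↥d.C ⧸ d.O) * (g : ↥d.C ⧸ d.O)⁻¹ := hgn
      obtain ⟨_, ⟨b, hb, rfl⟩, hbe⟩ := (S1250.result (d.P.subtype P_le_C) A hA d.O).2 _
        ⟨d.elC a, ⟨a, ha, rfl⟩, rfl⟩ (g : ↥d.C ⧸ d.O)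
        (by
          show (g : ↥d.C ⧸ d.O) * (d.elC a : ↥d.C ⧸ d.O) * (g : ↥d.C ⧸ d.O)⁻¹ ∈ _
          rw [← hgn']
          exact ⟨d.elC n, mem_subgroupOf.2 (d.co.mem_el n), rfl⟩)
      have hbe' : (d.elC b : ↥d.C ⧸ d.O) = d.elC n := hbe.trans hgn'.symm
      have h1 : d.elC (mulI (invI b) n) ∈ d.O := by
        rw [← d.elC_mul, show d.elC (invI b) = (d.elC b)⁻¹ from Subtype.ext (d.co.el_inv b)]
        exact (QuotientGroup.eq).1 hbe'
      have h3 := congrArg d.co.el (d.elC_mem_O h1)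
      rw [d.co.el_zero, ← d.co.mul, d.co.el_inv, inv_mul_eq_one] at h3
      exact d.co.inj h3 ▸ hb }

theorem quot_el (n : Fin 64) : (d.quot hk).co.el n = (d.elC n : ↥d.C ⧸ d.O) := rfl

theorem quot_move : ∃ x, ∀ b, (d.quot hk).co.el b = x * (d.quot hk).co.el 2 * x⁻¹ → b ∉ planeP := by
  obtain ⟨g, hg, hgI, hgP⟩ := exists_mover hk
  refine ⟨((⟨g, hg⟩ : ↥d.C) : ↥d.C ⧸ d.O), fun b hb => ?_⟩
  obtain ⟨b', hb', he⟩ := hgI 2 (by decide)
  have h1 : (d.quot hk).co.el b' = ((⟨g, hg⟩ : ↥d.C) : ↥d.C ⧸ d.O) * (d.quot hk).co.el 2 *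
      ((⟨g, hg⟩ : ↥d.C) : ↥d.C ⧸ d.O)⁻¹ := by
    rw [quot_el, quot_el, ← QuotientGroup.mk_inv, ← QuotientGroup.mk_mul, ← QuotientGroup.mk_mul]
    exact congrArg QuotientGroup.mk (Subtype.ext he)
  exact (d.quot hk).co.inj (hb.trans h1.symm) ▸ hgP b' he

include hk in
/-- An odd subgroup of the centraliser normalised by an eight group lies in its odd core. -/
theorem odd_le_O {A U : Subgroup G} (hA : IsPGroup 2 A) (hAc : ∀ a ∈ A, ∀ b ∈ A, a * b = b * a)
    (hAcard : 8 ≤ Nat.card A) (hAC : A ≤ d.C) (hUC : U ≤ d.C) (hUo : Odd (Nat.card U))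
    (hAU : A ≤ normalizer (U : Set G)) : U ≤ d.O.map d.C.subtype := by
  haveI : Fact (Nat.Prime 2) := ⟨Nat.prime_two⟩
  haveI : d.O.Normal := pPrimeCore_isNormal
  set π : ↥d.C →* ↥d.C ⧸ d.O := QuotientGroup.mk' d.O
  set A' := (A.subgroupOf d.C).map π
  set U' := (U.subgroupOf d.C).map π
  have h1 : U' = ⊥ := by
    refine QuotHyp.odd_trivial (q := d.quot hk) (quot_move d hk) (A := A')
      ((hA.comap_of_injective _ d.C.subtype_injective).map _) ?_ ?_ ?_ ?_
    · rintro _ ⟨a, ha, rfl⟩ _ ⟨b, hb, rfl⟩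
      rw [← map_mul, ← map_mul]
      exact congrArg π (Subtype.ext (hAc _ (mem_subgroupOf.1 ha) _ (mem_subgroupOf.1 hb)))
    · refine hAcard.trans (le_of_eq ?_)
      rw [← Nat.card_congr (Subgroup.subgroupOfEquivOfLe hAC).toEquiv]
      refine (Nat.card_congr (Equiv.ofBijective (fun a : ↥(A.subgroupOf d.C) => (⟨π a, ⟨a, a.2, rfl⟩⟩ : ↥A'))
        ⟨fun a b e => ?_, ?_⟩))
      · have h2 : ((a : ↥d.C))⁻¹ * b ∈ d.O := (QuotientGroup.eq).1 (congrArg Subtype.val e)
        have h3 : (a : ↥d.C)⁻¹ * b ∈ A.subgroupOf d.C := Subgroup.mul_mem _ (Subgroup.inv_mem _ a.2) b.2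
        obtain ⟨j, hj⟩ := hA.comap_of_injective d.C.subtype d.C.subtype_injective ⟨_, h3⟩
        exact Subtype.ext (inv_mul_eq_one.1 (orderOf_eq_one_iff.1 (Nat.eq_one_of_dvd_coprimes
          (Nat.Coprime.pow_right j pPrimeCore_coprime) (Subgroup.orderOf_dvd_natCard _ h2)
          (orderOf_dvd_of_pow_eq_one (congrArg Subtype.val hj)))))
      · rintro ⟨_, a, ha, rfl⟩
        exact ⟨⟨a, ha⟩, rfl⟩
    · refine Odd.of_dvd_nat (n := Nat.card (U.subgroupOf d.C)) ?_ (Subgroup.card_map_dvd _ _)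
      rwa [Nat.card_congr (Subgroup.subgroupOfEquivOfLe hUC).toEquiv]
    · rintro _ ⟨a, ha, rfl⟩
      refine mem_normalizer_fintype ?_
      rintro _ ⟨u, hu, rfl⟩
      exact ⟨a * u * a⁻¹, mem_subgroupOf.2 (mem_conj_normalizer (hAU (mem_subgroupOf.1 ha)) (mem_subgroupOf.1 hu)),
        by rw [map_mul, map_mul, map_inv]⟩
  intro x hx
  have h2 : π ⟨x, hUC hx⟩ ∈ U' := ⟨⟨x, hUC hx⟩, mem_subgroupOf.2 hx, rfl⟩
  rw [h1, mem_bot] at h2
  exact ⟨⟨x, hUC hx⟩, (QuotientGroup.eq_one_iff _).1 h2, rfl⟩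

end Setting

end Cfsg.Agent.Invol.TwelveType
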