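import Cfsg.Agent.Lib.Invol.TwelveType.Local

/-! Conclusion of the local fusion argument. -/

set_option autoImplicit false
set_option linter.style.haveILetI false
set_option linter.unusedSectionVars false

namespace Cfsg.Agent.Invol.TwelveType

open Subgroup Cfsg.Agent.Grp

universe u

variable {G : Type u} [Group G] [Finite G]

namespace Setting

variable {d : Setting G}

/-- The elements of `C` acting trivially on the eight group of `x i` modulo the central involution. -/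
def triv (d : Setting G) : Subgroup G where
  carrier := {h | h ∈ d.C ∧ ∀ e ∈ eightU, h * d.co.el e * h⁻¹ = d.co.el e ∨ h * d.co.el e * h⁻¹ = d.co.el (mulI 10 e)}
  one_mem' := ⟨one_mem _, fun e _ => Or.inl (by group)⟩
  mul_mem' := by
    rintro a b ⟨ha, ha'⟩ ⟨hb, hb'⟩
    refine ⟨d.C.mul_mem ha hb, fun e he => ?_⟩
    have h10 : a * d.co.el 10 * a⁻¹ = d.co.el 10 := by rw [mem_C.1 ha]; group
    have hz : d.co.el 10 * d.co.el 10 = 1 := by rw [d.co.mul, show mulI 10 10 = 0 from rfl, d.co.el_zero]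
    rw [show a * b * d.co.el e * (a * b)⁻¹ = a * (b * d.co.el e * b⁻¹) * a⁻¹ by group]
    rcases hb' e he with e1 | e1 <;> rw [e1]
    · exact ha' e he
    · rw [← d.co.mul, show a * (d.co.el 10 * d.co.el e) * a⁻¹ =
        (a * d.co.el 10 * a⁻¹) * (a * d.co.el e * a⁻¹) by group, h10]
      rcases ha' e he with e2 | e2 <;> rw [e2]
      · exact Or.inr rfl
      · left; rw [← d.co.mul, ← mul_assoc, hz, one_mul]
  inv_mem' := by
    rintro a ⟨ha, ha'⟩
    refine ⟨d.C.inv_mem ha, fun e he => ?_⟩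
    have h10 : a⁻¹ * d.co.el 10 * a = d.co.el 10 := by rw [mul_assoc, ← mem_C.1 ha]; group
    have hz : d.co.el 10 * d.co.el 10 = 1 := by rw [d.co.mul, show mulI 10 10 = 0 from rfl, d.co.el_zero]
    rw [inv_inv]
    rcases ha' e he with e1 | e1
    · left
      conv_lhs => rw [← e1]
      group
    · right
      rw [← d.co.mul]
      have e2 : a⁻¹ * (a * d.co.el e * a⁻¹) * a = d.co.el e := by group
      rw [e1, ← d.co.mul, show a⁻¹ * (d.co.el 10 * d.co.el e) * a =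
        (a⁻¹ * d.co.el 10 * a) * (a⁻¹ * d.co.el e * a) by group, h10] at e2
      conv_rhs => rw [← e2, ← mul_assoc, hz, one_mul]

theorem triv_le_NU : d.triv ≤ d.NU := fun h hh => mem_NU_of hh.1 fun e he => by
  have h10e : mulI 10 e ∈ eightU := (eightU_ops (by decide) he).1
  rcases hh.2 e he with e1 | e1
  exacts [⟨e, he, e1.symm⟩, ⟨_, h10e, e1.symm⟩]

theorem two_mul_dvd_card {K H : Subgroup G} (hKH : K ≤ H) {x : G} (hx : x ∈ H) (hxK : x ∉ K)
    (h2 : ∀ a ∈ H, a ∉ K → a⁻¹ * x ∈ K) : 2 * Nat.card K ∣ Nat.card H := by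
  have hidx : K.relIndex H ≤ 2 := by
    let f : Bool → ↥H ⧸ K.subgroupOf H := fun b => if b then QuotientGroup.mk ⟨x, hx⟩ else QuotientGroup.mk 1
    refine (Nat.card_le_card_of_surjective f fun q => ?_).trans (by simp)
    obtain ⟨⟨a, ha⟩, rfl⟩ := QuotientGroup.mk_surjective q
    by_cases haK : a ∈ K
    · exact ⟨false, (QuotientGroup.eq (s := K.subgroupOf H)).2 (by simpa [mem_subgroupOf] using haK)⟩
    · refine ⟨true, Eq.symm ((QuotientGroup.eq (s := K.subgroupOf H)).2 ?_)⟩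
      simpa [mem_subgroupOf] using h2 a ha haK
  have h1 : K.relIndex H ≠ 1 := fun h => hxK (relIndex_eq_one.1 h hx)
  have h0 : K.relIndex H ≠ 0 := Subgroup.index_ne_zero_of_finite (H := K.subgroupOf H)
  have h3 := Subgroup.relIndex_mul_relIndex ⊥ K H bot_le hKH
  rw [relIndex_bot_left, relIndex_bot_left, show K.relIndex H = 2 by omega, mul_comm] at h3
  exact h3.dvd

theorem dvd_card_triv {g : G} (hg : g ∈ d.C) (hgn : g ∈ d.NU) {n : Fin 64} (hn : n ∈ eightU)
    (hn' : n ∉ [0, 2, 8, 10]) {v : Fin 64} (hv : v = 2 ∨ v = 8) (hgv : d.co.el v = g * d.co.el n * g⁻¹) :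
    32 ∣ Nat.card d.triv := by
  have h5 : conjI 5 n = mulI 10 n := by
    have := List.all_eq_true.1 five_ok.1 n hn
    simpa [hn'] using this
  have h5t : d.co.el 5 ∈ d.triv := ⟨el_mem_C 5, fun e he => by
    have := List.all_eq_true.1 sigma_facts.2.2.2.1 e he
    simp only [Bool.or_eq_true, beq_iff_eq] at this
    rcases this with e1 | e1 <;> rw [← d.co.el_conj, e1]
    exacts [Or.inl rfl, Or.inr rfl]⟩
  have hz : ∀ e, d.co.el (mulI 10 e) = d.co.el 10 * d.co.el e := fun e => (d.co.mul _ _).symm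
  have hg10 : g * d.co.el 10 * g⁻¹ = d.co.el 10 := by rw [mem_C.1 hg]; group
  have hσ : g * d.co.el 5 * g⁻¹ ∈ d.triv := by
    refine ⟨d.C.mul_mem (d.C.mul_mem hg (el_mem_C 5)) (d.C.inv_mem hg), fun e he => ?_⟩
    obtain ⟨e', he', hee⟩ : g⁻¹ * d.co.el e * g ∈ d.eightUSub :=
      mem_conj_normalizer' hgn.2 (show d.co.el e ∈ d.eightUSub from ⟨e, he, rfl⟩)
    have := h5t.2 e' he'
    rw [show g * d.co.el 5 * g⁻¹ * d.co.el e * (g * d.co.el 5 * g⁻¹)⁻¹ =
      g * (d.co.el 5 * d.co.el e' * (d.co.el 5)⁻¹) * g⁻¹ by rw [hee]; group]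
    have hback : g * d.co.el e' * g⁻¹ = d.co.el e := by rw [hee]; group
    rcases this with e1 | e1 <;> rw [e1]
    · exact Or.inl hback
    · right
      rw [hz, hz, show g * (d.co.el 10 * d.co.el e') * g⁻¹ =
        (g * d.co.el 10 * g⁻¹) * (g * d.co.el e' * g⁻¹) by group, hg10, hback]
  have hσv : g * d.co.el 5 * g⁻¹ * d.co.el v * (g * d.co.el 5 * g⁻¹)⁻¹ ≠ d.co.el v := by
    intro h
    rw [show g * d.co.el 5 * g⁻¹ * d.co.el v * (g * d.co.el 5 * g⁻¹)⁻¹ =
      g * (d.co.el 5 * d.co.el n * (d.co.el 5)⁻¹) * g⁻¹ by rw [hgv]; group, ← d.co.el_conj, h5, hz,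
      show g * (d.co.el 10 * d.co.el n) * g⁻¹ = (g * d.co.el 10 * g⁻¹) * (g * d.co.el n * g⁻¹) by group,
      hg10, ← hgv, mul_eq_right, d.co.el_eq_one] at h
    exact absurd h (by decide)
  let Kt : Subgroup G := d.triv ⊓ centralizer ({d.co.el 2} : Set G)
  let Ku : Subgroup G := Kt ⊓ centralizer ({d.co.el 17} : Set G)
  have hfix : ∀ {h x : G}, h * x = x * h ↔ h * x * h⁻¹ = x := fun {h x} => mul_inv_eq_iff_eq_mul.symm
  have hstep : ∀ {K : Subgroup G} {e : Fin 64}, e ∈ eightU → K ≤ d.triv → ∀ {x : G}, x ∈ K →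
      x ∉ centralizer ({d.co.el e} : Set G) →
      2 * Nat.card ↥(K ⊓ centralizer ({d.co.el e} : Set G)) ∣ Nat.card K := by
    intro K e he hK x hx hxc
    refine two_mul_dvd_card inf_le_left hx (fun h => hxc h.2) fun a ha hac => ⟨K.mul_mem (K.inv_mem ha) hx, ?_⟩
    have hac' : a ∉ centralizer ({d.co.el e} : Set G) := fun h => hac ⟨ha, h⟩
    rw [mem_centralizer_singleton_iff, hfix] at hxc hac'
    show a⁻¹ * x ∈ centralizer ({d.co.el e} : Set G)
    rw [mem_centralizer_singleton_iff, hfix]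
    have h1 := ((hK ha).2 e he).resolve_left hac'
    have h2 := ((hK hx).2 e he).resolve_left hxc
    calc a⁻¹ * x * d.co.el e * (a⁻¹ * x)⁻¹ = a⁻¹ * (x * d.co.el e * x⁻¹) * a := by group
      _ = a⁻¹ * (a * d.co.el e * a⁻¹) * a := by rw [h2, h1]
      _ = _ := by group
  have hE : d.eightUSub ≤ Ku := by
    rintro _ ⟨a, ha, rfl⟩
    refine ⟨⟨⟨el_mem_C a, fun e he => Or.inl (hfix.1 (d.co.com_iff.1 (eightU_ops ha he).2.1))⟩, ?_⟩, ?_⟩
    · exact mem_centralizer_singleton_iff.2 (d.co.com_iff.1 (eightU_ops ha (by decide)).2.1)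
    · exact mem_centralizer_singleton_iff.2 (d.co.com_iff.1 (eightU_ops ha (by decide)).2.1)
  have hcE : Nat.card d.eightUSub = 8 := by
    let f : {a : Fin 64 // a ∈ eightU} → ↥d.eightUSub := fun a => ⟨d.co.el a, a, a.2, rfl⟩
    have hf : Function.Bijective f := ⟨fun a b h => Subtype.ext (d.co.inj (congrArg Subtype.val h)),
      fun ⟨x, a, ha, hx⟩ => ⟨⟨a, ha⟩, Subtype.ext hx⟩⟩
    rw [← Nat.card_congr (Equiv.ofBijective f hf), Nat.card_eq_fintype_card]
    rfl
  have hσ2 : g * d.co.el 5 * g⁻¹ ∉ centralizer ({d.co.el 2} : Set G) := by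
    rcases hv with rfl | rfl
    · rw [mem_centralizer_singleton_iff, hfix]; exact hσv
    · intro h
      refine hσv (hfix.1 ?_)
      rw [show d.co.el 8 = d.co.el 10 * d.co.el 2 by rw [d.co.mul]; rfl]
      exact (Commute.mul_right (mem_C.1 hσ.1) (mem_centralizer_singleton_iff.1 h)).eq
  have h52 : d.co.el 5 ∈ Kt := ⟨h5t, mem_centralizer_singleton_iff.2 (d.co.com_iff.1 (by decide))⟩
  have h517 : d.co.el 5 ∉ centralizer ({d.co.el 17} : Set G) := by
    rw [mem_centralizer_singleton_iff, hfix, ← d.co.el_conj, d.co.inj.eq_iff]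
    decide
  have d1 : 2 * Nat.card Kt ∣ Nat.card d.triv := hstep (by decide) le_rfl hσ hσ2
  have d2 : 2 * Nat.card Ku ∣ Nat.card Kt := hstep (by decide) inf_le_left h52 h517
  refine dvd_trans ?_ ((mul_dvd_mul_left 2 d2).trans d1)
  obtain ⟨c, hc⟩ := Subgroup.card_dvd_of_le hE
  exact ⟨c, by rw [hc, hcE]; ring⟩

theorem exists_sylow_NU {g : G} (hg : g ∈ d.NU) {n : Fin 64} (hn : n ∈ eightU) (hn' : n ∉ [0, 2, 8, 10])
    {v : Fin 64} (hv : v = 2 ∨ v = 8) (hgv : d.co.el v = g * d.co.el n * g⁻¹) : 64 ∣ Nat.card d.NU := by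
  have h32 := dvd_card_triv hg.1 hg hn hn' hv hgv
  have hnorm : d.low ≤ normalizer (d.triv : Set G) := by
    intro a ha
    have haN := low_le_NU ha
    refine mem_normalizer_fintype fun h hh => ⟨d.C.mul_mem (d.C.mul_mem haN.1 hh.1) (d.C.inv_mem haN.1), fun e he => ?_⟩
    obtain ⟨e', he', hee⟩ : a⁻¹ * d.co.el e * a ∈ d.eightUSub :=
      mem_conj_normalizer' haN.2 (show d.co.el e ∈ d.eightUSub from ⟨e, he, rfl⟩)
    have h10 : a * d.co.el 10 * a⁻¹ = d.co.el 10 := by rw [mem_C.1 haN.1]; group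
    rw [show a * h * a⁻¹ * d.co.el e * (a * h * a⁻¹)⁻¹ = a * (h * d.co.el e' * h⁻¹) * a⁻¹ by rw [hee]; group]
    rcases hh.2 e' he' with e1 | e1 <;> rw [e1]
    · left; rw [hee]; group
    · right
      rw [← d.co.mul, ← d.co.mul, show a * (d.co.el 10 * d.co.el e') * a⁻¹ =
        (a * d.co.el 10 * a⁻¹) * (a * d.co.el e' * a⁻¹) by group, h10, hee]
      group
  have h1 := Grp.card_sup_mul_card_inf hnorm
  rw [card_low] at h1
  obtain ⟨j, hj, hij⟩ := (Nat.dvd_prime_pow Nat.prime_two).1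
    (show Nat.card ↥(d.low ⊓ d.triv) ∣ 2 ^ 5 by
      have := Subgroup.card_dvd_of_le (inf_le_left : d.low ⊓ d.triv ≤ d.low)
      rwa [card_low] at this)
  have hj4 : j ≤ 4 := by
    by_contra hcon
    have h5 : j = 5 := by omega
    subst h5
    have heq : d.low ⊓ d.triv = d.low := eq_of_le_of_card_ge inf_le_left (by rw [card_low, hij]; norm_num)
    have h1t : d.co.el 1 ∈ d.triv := (heq.ge ⟨1, by decide, rfl⟩).2
    have := h1t.2 17 (by decide)
    rw [← d.co.el_conj, sigma_facts.2.2.1, d.co.inj.eq_iff, d.co.inj.eq_iff] at this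
    rcases this with e | e
    exacts [sigma_facts.2.2.2.2.2.1 e, sigma_facts.2.2.2.2.2.2.1 e]
  obtain ⟨c, hc⟩ := h32
  rw [hij, hc] at h1
  refine dvd_trans ?_ (Subgroup.card_dvd_of_le (sup_le low_le_NU triv_le_NU))
  refine ⟨c * 2 ^ (4 - j), Nat.eq_of_mul_eq_mul_right (pow_pos two_pos j) ?_⟩
  rw [h1, mul_assoc, mul_assoc, ← pow_add, Nat.sub_add_cancel hj4]
  ring

end Setting

end Cfsg.Agent.Invol.TwelveType
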