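import Cfsg.Agent.Lib.Invol.TwelveType.Closed

/-! The pure normal eight group is strongly closed in the centraliser of the central involution. -/

set_option autoImplicit false
set_option linter.style.haveILetI false
set_option linter.unusedSectionVars false

namespace Cfsg.Agent.Invol.TwelveType

open Subgroup Cfsg.Agent.Grp

universe u

variable {G : Type u} [Group G] [Finite G]

theorem comI_swap {c n : Fin 64} : comI c n = comI n c := by
  rw [comI, comI]; exact Bool.beq_comm

namespace Setting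

variable {d : Setting G}

theorem low_normal {M : Subgroup G} (hM : M = d.C ⊓ normalizer (d.low : Set G)) : (d.P : Subgroup G) ≤ M := by
  rw [hM]
  intro x hx
  refine ⟨P_le_C hx, mem_normalizer_fintype fun y hy => ?_⟩
  obtain ⟨h, rfl⟩ := (d.co.mem _).1 hx
  obtain ⟨n, hn, rfl⟩ := hy
  have := of_t64 (of_t64 low_ok.2.2.1 n) h
  simp only [Bool.or_eq_true, decide_eq_true_eq] at this
  exact ⟨conjI h n, this.resolve_left (by omega), d.co.el_conj h n⟩

/-- Two index-two overgroups of the low part are conjugate in its normalizer in `C`. -/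
theorem exists_low_conj {R : Subgroup G} (hR : IsPGroup 2 R) (hRC : R ≤ d.C) (hcR : Nat.card R = 64)
    (hlow : d.low ≤ R) :
    ∃ c ∈ d.C ⊓ normalizer (d.low : Set G), ∀ x ∈ R, c * x * c⁻¹ ∈ (d.P : Subgroup G) := by
  haveI : Fact (Nat.Prime 2) := ⟨Nat.prime_two⟩
  set M := d.C ⊓ normalizer (d.low : Set G) with hM
  have hPM := low_normal hM
  have hRN : R ≤ normalizer (d.low : Set G) := by
    haveI : (d.low.subgroupOf R).Normal := Subgroup.normal_of_index_eq_two (by
      have h := Subgroup.relIndex_mul_relIndex ⊥ d.low R bot_le hlow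
      rw [relIndex_bot_left, relIndex_bot_left, card_low, hcR] at h
      show d.low.relIndex R = 2
      omega)
    exact (Subgroup.normal_subgroupOf_iff_le_normalizer hlow).1 inferInstance
  have hRM : R ≤ M := le_inf hRC hRN
  obtain ⟨⟨c, hcM⟩, hc⟩ := Invol.exists_conj_subset_sylow
    (hR.comap_of_injective M.subtype M.subtype_injective) (d.P.subtype hPM)
  exact ⟨c, hcM, fun x hx => hc ⟨x, hRM hx⟩ hx⟩

variable (hk : IsConj (d.co.el 32) (d.co.el 21))
include hk

/-- No overgroup of order 64 of the low part in `C` normalises the eight group of `x i`. -/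
theorem no_big_normalizer : ¬ 64 ∣ Nat.card d.NU := by
  intro h64
  haveI : Fact (Nat.Prime 2) := ⟨Nat.prime_two⟩
  have hlp : IsPGroup 2 d.low := d.P.isPGroup'.to_le low_le_P
  obtain ⟨Q, hQ⟩ := (hlp.comap_of_injective d.NU.subtype d.NU.subtype_injective).exists_le_sylow
  set R := (Q : Subgroup d.NU).map d.NU.subtype with hR
  have hRN : R ≤ d.NU := map_subtype_le _
  have hRp : IsPGroup 2 R := Q.isPGroup'.map _
  have hcR : Nat.card R = 64 := by
    refine le_antisymm ?_ ?_
    · obtain ⟨Q', hQ'⟩ := hRp.exists_le_sylow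
      refine (Subgroup.card_le_of_le hQ').trans_eq ?_
      rw [Q'.card_eq_multiplicity, ← d.P.card_eq_multiplicity, card_P]
    · rw [hR, Subgroup.card_map_of_injective d.NU.subtype_injective, Q.card_eq_multiplicity]
      refine le_trans (le_of_eq (show (64 : ℕ) = 2 ^ 6 by norm_num)) (Nat.pow_le_pow_right two_pos ?_)
      exact (Nat.prime_two.pow_dvd_iff_le_factorization Nat.card_pos.ne').1 h64
  have hlow : d.low ≤ R := fun x hx => ⟨⟨x, low_le_NU hx⟩, hQ hx, rfl⟩
  obtain ⟨c, ⟨hcC, hcN⟩, hc⟩ := exists_low_conj hRp (hRN.trans inf_le_left) hcR hlow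
  -- the image of the eight group is normalised by `P`
  have hmap : ∀ n : Fin 64, n.val < 32 → ∃ n', n'.val < 32 ∧ d.co.el n' = c * d.co.el n * c⁻¹ := fun n hn => by
    obtain ⟨n', hn', e⟩ := mem_conj_normalizer hcN (show d.co.el n ∈ d.low from ⟨n, hn, rfl⟩)
    exact ⟨n', hn', e⟩
  obtain ⟨m, hm⟩ := d.co.exists_map (g := c) (s := fun n => decide (n.val < 32)) fun n hn => by
    obtain ⟨n', -, e⟩ := hmap n (of_decide_eq_true hn)
    rw [← e]; exact d.co.mem_el n'
  have hm' : ∀ n : Fin 64, n.val < 32 → d.co.el (m n) = c * d.co.el n * c⁻¹ ∧ (m n).val < 32 := fun n hn => by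
    obtain ⟨n', hn', e⟩ := hmap n hn
    have h1 := hm n (decide_eq_true hn)
    exact ⟨h1, (d.co.inj (h1.trans e.symm)) ▸ hn'⟩
  have hsmall : ∀ x ∈ eightU, x.val < 32 := by decide +kernel
  have hgen : ∀ x, x ∈ genList 2 17 ↔ x ∈ eightU := sameSet_mem eightU_gen.1
  obtain ⟨him, hzl, hcom, hnd⟩ := image_eight hk hcC m (a := 2) (b := 17) (v := 0)
    (fun x hx => (hm' x (hsmall x ((hgen x).1 hx))).1)
    (fun x hx => by
      have := List.all_eq_true.1 eight_z.2.2 x ((hgen x).1 hx)
      simpa using this) (by decide) (by decide)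
  have hnorm : ∀ x ∈ genList (m 2) (m 17), ∀ h, conjI h x ∈ genList (m 2) (m 17) := by
    intro x hx h
    rw [← him] at hx ⊢
    obtain ⟨a, ha, rfl⟩ := List.mem_map.1 hx
    have haU := (hgen a).1 ha
    -- pull `h` back into `R`
    obtain ⟨r, hr, hrh⟩ : ∃ r ∈ R, c * r * c⁻¹ = d.co.el h := by
      have heq : R.map (MulAut.conj c).toMonoidHom = (d.P : Subgroup G) :=
        eq_of_le_of_card_ge (fun y ⟨x, hx, e⟩ => e ▸ hc x hx) (le_of_eq (by
          rw [card_P, Subgroup.card_map_of_injective (f := (MulAut.conj c).toMonoidHom) (MulAut.conj c).injective,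
            hcR]))
      exact heq.ge (d.co.mem_el h)
    obtain ⟨b, hb, hbe⟩ : r * d.co.el a * r⁻¹ ∈ d.eightUSub :=
      mem_conj_normalizer (hRN hr).2 ⟨a, haU, rfl⟩
    refine List.mem_map.2 ⟨b, (hgen b).2 hb, d.co.inj ?_⟩
    rw [d.co.el_conj, (hm' b (hsmall b hb)).1, (hm' a (hsmall a haU)).1, hbe, ← hrh]
    group
  have hz2 : ∀ y ∈ genList 2 17, y ≠ 0 → m y ∈ zList := fun y hy hy0 => by
    refine (hzl (m y) ((him _).1 (List.mem_map_of_mem hy))).resolve_left fun e => hy0 ?_
    have h1 := (hm' y (hsmall y ((hgen y).1 hy))).1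
    rw [e, d.co.el_zero, eq_comm, conj_eq_one_iff, d.co.el_eq_one] at h1
    exact h1
  have heI : sameSet (genList (m 2) (m 17)) eightI = true := by
    have := List.all_eq_true.1 (List.all_eq_true.1 normal_eight (m 2) (hz2 2 (by decide) (by decide))) (m 17)
      (hz2 17 (by decide) (by decide))
    simp only [Bool.or_eq_true, Bool.not_eq_true'] at this
    refine this.resolve_left fun hcon => ?_
    rw [Bool.eq_false_iff] at hcon
    refine hcon ?_
    simp only [Bool.and_eq_true, List.all_eq_true, decide_eq_true_eq, Bool.or_eq_true, beq_iff_eq,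
      List.contains_iff_mem]
    exact ⟨⟨⟨⟨⟨hzl, hcom⟩, hnd⟩, (hm' 2 (by decide)).2⟩, (hm' 17 (by decide)).2⟩,
      fun x hx => by
        rw [t64, List.all_eq_true]
        intro h _
        exact List.contains_iff_mem.2 (hnorm x hx h)⟩
  -- pull back: `c⁻¹` maps the index `16` into the eight group of `x i`
  have hback : ∀ n : Fin 64, n.val < 32 → ∃ n', n'.val < 32 ∧ d.co.el n' = c⁻¹ * d.co.el n * c := fun n hn => by
    obtain ⟨n', hn', e⟩ := mem_conj_normalizer' hcN (show d.co.el n ∈ d.low from ⟨n, hn, rfl⟩)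
    exact ⟨n', hn', e⟩
  obtain ⟨a, ha, hae⟩ := hback 1 (by decide)
  obtain ⟨b, hb, hbe⟩ := hback 4 (by decide)
  obtain ⟨e16, he16, he16e⟩ : ∃ y ∈ eightU, d.co.el y = c⁻¹ * d.co.el 16 * c := by
    have h16 : (16 : Fin 64) ∈ (genList 2 17).map m :=
      (him _).2 ((sameSet_mem heI _).2 (by decide))
    obtain ⟨y, hy, hye⟩ := List.mem_map.1 h16
    refine ⟨y, (hgen y).1 hy, ?_⟩
    rw [← hye, (hm' y (hsmall y ((hgen y).1 hy))).1]; group
  have hsq : ∀ p q : Fin 64, d.co.el q = c⁻¹ * d.co.el p * c → d.co.el (mulI q q) = c⁻¹ * d.co.el (mulI p p) * c :=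
    fun p q h => by rw [← d.co.mul, ← d.co.mul, h]; group
  have low16 : ∀ p q : Fin 64, q.val < 32 → d.co.el q = c⁻¹ * d.co.el p * c → mulI p p ≠ 0 → q.val < 16 := by
    intro p q hq h hne
    by_contra hlt
    have := of_t64 low_ok.2.1 q
    simp only [Bool.or_eq_true, decide_eq_true_eq, Bool.and_eq_true, beq_iff_eq] at this
    rcases this with (h' | h') | h'
    · omega
    · exact hlt h'
    · have h1 := hsq p q h
      rw [h'.2, d.co.el_zero] at h1
      refine hne (d.co.el_eq_one.1 ?_)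
      rw [show d.co.el (mulI p p) = c * (c⁻¹ * d.co.el (mulI p p) * c) * c⁻¹ by group, ← h1]
      group
  have ha16 := low16 1 a ha hae (by decide)
  have hb16 := low16 4 b hb hbe (by decide)
  have hinj : ∀ p q p' : Fin 64, d.co.el q = c⁻¹ * d.co.el p * c → d.co.el q = c⁻¹ * d.co.el p' * c → p = p' :=
    fun p q p' h h' => d.co.inj (mul_left_cancel (mul_right_cancel (h.symm.trans h')))
  have h10 : d.co.el 10 = c⁻¹ * d.co.el 10 * c := by rw [mul_assoc, ← mem_C.1 hcC]; group
  have hsq2 : ∀ p q : Fin 64, q.val < 16 → d.co.el q = c⁻¹ * d.co.el p * c → mulI p p ≠ 0 → mulI p p ≠ 10 →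
      mulI q q ∈ [2, 8] := by
    intro p q hq h hne hne'
    have := of_t64 five_ok.2 q
    have h1 := hsq p q h
    rcases (by simpa [show ¬ 16 ≤ q.val by omega] using this :
      mulI q q = 0 ∨ mulI q q = 2 ∨ mulI q q = 8 ∨ mulI q q = 10) with e | e | e | e
    · exact absurd (hinj _ _ 0 (e ▸ h1) (by rw [d.co.el_zero]; group)) hne
    · simp [e]
    · simp [e]
    · exact absurd (hinj _ _ 10 (e ▸ h1) h10) hne'
  have hd : mulI a a ≠ mulI b b := fun e => absurd (hinj _ _ _ (hsq 1 a hae) (e ▸ hsq 4 b hbe)) (by decide)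
  have hne16 : e16 ∉ [0, 2, 8, 10] := by
    intro hmem
    rcases (by simpa using hmem : e16 = 0 ∨ e16 = 2 ∨ e16 = 8 ∨ e16 = 10) with e | e | e | e <;> subst e
    · exact absurd (hinj _ _ 0 he16e (by rw [d.co.el_zero]; group)) (by decide)
    rotate_left 2
    · exact absurd (hinj _ _ 10 he16e h10) (by decide)
    · rcases (by simpa using hsq2 1 a ha16 hae (by decide) (by decide) : mulI a a = 2 ∨ mulI a a = 8) with e | e
      · exact absurd (hinj _ _ _ he16e (e ▸ hsq 1 a hae)) (by decide)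
      · rcases (by simpa using hsq2 4 b hb16 hbe (by decide) (by decide) : mulI b b = 2 ∨ mulI b b = 8) with e' | e'
        · exact absurd (hinj _ _ _ he16e (e' ▸ hsq 4 b hbe)) (by decide)
        · exact hd (e.trans e'.symm)
    · rcases (by simpa using hsq2 1 a ha16 hae (by decide) (by decide) : mulI a a = 2 ∨ mulI a a = 8) with e | e
      · rcases (by simpa using hsq2 4 b hb16 hbe (by decide) (by decide) : mulI b b = 2 ∨ mulI b b = 8) with e' | e'
        · exact hd (e.trans e'.symm)
        · exact absurd (hinj _ _ _ he16e (e' ▸ hsq 4 b hbe)) (by decide)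
      · exact absurd (hinj _ _ _ he16e (e ▸ hsq 1 a hae)) (by decide)
  have h21 : mulI a (mulI b e16) ∈ zList := by
    have := of_t64 (of_t64 no_carry a) b
    simp only [decide_eq_true ha16, decide_eq_true hb16, List.contains_iff_mem.2 (hsq2 1 a ha16 hae (by decide)
      (by decide)), List.contains_iff_mem.2 (hsq2 4 b hb16 hbe (by decide) (by decide)), Bool.true_and,
      beq_eq_false_iff_ne.2 hd, Bool.not_false, Bool.not_true, Bool.false_or, List.all_eq_true] at this
    simpa [hne16] using this e16 he16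
  refine not_Z_k hk ?_
  have h1 : d.co.el (mulI a (mulI b e16)) = c⁻¹ * d.co.el 21 * c := by
    rw [← d.co.mul, ← d.co.mul, hae, hbe, he16e, show d.co.el 21 = d.co.el 1 * (d.co.el 4 * d.co.el 16) by
      rw [d.co.mul, d.co.mul, sigma_facts.2.2.2.2.2.2.2.2.2]]
    group
  exact (_root_.isConj_iff.2 ⟨c⁻¹, by rw [h1, inv_inv]⟩ :
    IsConj (d.co.el 21) (d.co.el (mulI a (mulI b e16)))).trans ((Z_iff hk).2 h21)

/-- No element of `eightU` outside the plane fuses in `C` into the normal eight group. -/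
theorem not_fused {g : G} (hg : g ∈ d.C) {a n : Fin 64} (ha : a ∈ eightI) (ha0 : a ≠ 0) (ha10 : a ≠ 10)
    (hn : n ∈ eightU) (hn' : n ∉ [0, 2, 8, 10]) (hga : d.co.el a = g * d.co.el n * g⁻¹) : False := by
  obtain ⟨g', hg', v, hv, hle, hc⟩ := exists_carried hg hga
  obtain ⟨m, hm⟩ := d.co.exists_map (g := g') (s := fun c => comI c n) hc
  have hUcom : ∀ x ∈ eightU, comI x n = true := fun x hx => (eightU_ops hx hn).2.1
  have hgen : ∀ x, x ∈ genList 2 17 ↔ x ∈ eightU := sameSet_mem eightU_gen.1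
  obtain ⟨him, hzl, hcom, hnd⟩ := image_eight hk hg' m (a := 2) (b := 17) (v := 0)
    (fun x hx => hm x (hUcom x ((hgen x).1 hx)))
    (fun x hx => by simpa using List.all_eq_true.1 eight_z.2.2 x ((hgen x).1 hx)) (by decide) (by decide)
  have hmn : m n = v := d.co.inj (by rw [hm n (hUcom n hn), hv])
  have hvmem : v ∈ genList (m 2) (m 17) := (him v).1 (hmn ▸ List.mem_map_of_mem ((hgen n).2 hn))
  have hn0 : n ≠ 0 ∧ n ≠ 10 := ⟨fun e => hn' (by simp [e]), fun e => hn' (by simp [e])⟩
  have hv0 : v ≠ 0 ∧ v ≠ 10 := by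
    refine ⟨fun e => hn0.1 ?_, fun e => hn0.2 ?_⟩
    · rwa [e, d.co.el_zero, eq_comm, conj_eq_one_iff, d.co.el_eq_one] at hv
    · rw [e, show d.co.el 10 = g' * d.co.el 10 * g'⁻¹ by rw [mem_C.1 hg']; group, mul_left_inj, mul_right_inj] at hv
      exact (d.co.inj hv).symm
  have hvI : v ∈ eightI := by
    have hvz := (hzl v hvmem).resolve_left hv0.1
    have h16 : 16 ≤ centCard a := by
      simpa [ha0, ha10] using List.all_eq_true.1 eight_z.2.1 a ha
    have := of_t64 not_eight v
    simp only [List.contains_iff_mem.2 hvz, Bool.not_true, Bool.false_or, Bool.or_eq_true, List.contains_iff_mem,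
      Bool.and_eq_true, beq_iff_eq] at this
    exact this.resolve_right fun h => by omega
  have hzz : ∀ y ∈ genList 2 17, y ≠ 0 → m y ∈ zList := fun y hy hy0 => by
    refine (hzl (m y) ((him _).1 (List.mem_map_of_mem hy))).resolve_left fun e => hy0 ?_
    have h1 := hm y (hUcom y ((hgen y).1 hy))
    rw [e, d.co.el_zero, eq_comm, conj_eq_one_iff, d.co.el_eq_one] at h1
    exact h1
  have hpure := List.all_eq_true.1 (List.all_eq_true.1 pure_eights (m 2) (hzz 2 (by decide) (by decide))) (m 17)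
    (hzz 17 (by decide) (by decide))
  simp only [Bool.or_eq_true, Bool.not_eq_true'] at hpure
  -- reduce the third case to the second
  obtain ⟨g'', hg'', v'', hv'', hset⟩ : ∃ g'' ∈ d.C, ∃ v'', (v'' ∈ eightI ∧ v'' ≠ 0 ∧ v'' ≠ 10 ∧
      d.co.el v'' = g'' * d.co.el n * g''⁻¹) ∧
      ((∀ y ∈ eightI, ∃ x ∈ eightU, d.co.el y = g'' * d.co.el x * g''⁻¹) ∨
        (v'' ∈ eightU ∧ ∀ x ∈ eightU, ∃ y ∈ eightU, d.co.el y = g'' * d.co.el x * g''⁻¹)) := by
    rcases hpure with ((hcon | h) | h) | h
    · exfalso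
      rw [Bool.eq_false_iff] at hcon
      refine hcon ?_
      simp only [Bool.and_eq_true, List.all_eq_true, decide_eq_true_eq, Bool.or_eq_true, beq_iff_eq,
        List.contains_iff_mem, List.any_eq_true, Bool.not_eq_true', beq_eq_false_iff_ne]
      exact ⟨⟨⟨hzl, hcom⟩, hnd⟩, v, hvmem, ⟨hvI, hv0.1⟩, hv0.2⟩
    · refine ⟨g', hg', v, ⟨hvI, hv0.1, hv0.2, hv⟩, Or.inl fun y hy => ?_⟩
      obtain ⟨x, hx, rfl⟩ := List.mem_map.1 ((him y).2 ((sameSet_mem h y).2 hy))
      exact ⟨x, (hgen x).1 hx, hm x (hUcom x ((hgen x).1 hx))⟩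
    · refine ⟨g', hg', v, ⟨hvI, hv0.1, hv0.2, hv⟩, Or.inr ⟨(sameSet_mem h v).1 hvmem, fun x hx => ?_⟩⟩
      exact ⟨m x, (sameSet_mem h _).1 ((him _).1 (List.mem_map_of_mem ((hgen x).2 hx))), hm x (hUcom x hx)⟩
    · have hsw : ∀ y ∈ eightU', conjI 32 y ∈ eightU := fun y hy =>
        List.contains_iff_mem.1 (List.all_eq_true.1 eightU_swap.1 y hy)
      have hswI : conjI 32 v ∈ eightI := by
        have := of_t64 eightU_swap.2 v
        simpa [hvI] using this
      have he : d.co.el (conjI 32 v) = d.co.el 32 * g' * d.co.el n * (d.co.el 32 * g')⁻¹ := by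
        rw [d.co.el_conj, hv]; group
      refine ⟨d.co.el 32 * g', d.C.mul_mem (el_mem_C 32) hg', conjI 32 v, ⟨hswI, ?_, ?_, he⟩,
        Or.inr ⟨hsw v ((sameSet_mem h v).1 hvmem), fun x hx => ⟨conjI 32 (m x), hsw _ ((sameSet_mem h _).1
          ((him _).1 (List.mem_map_of_mem ((hgen x).2 hx)))), by rw [d.co.el_conj, hm x (hUcom x hx)]; group⟩⟩⟩
      · intro e
        have := d.co.el_conj 32 v
        rw [e, d.co.el_zero, eq_comm, conj_eq_one_iff, d.co.el_eq_one] at this
        exact hv0.1 this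
      · intro e
        have := d.co.el_conj 32 v
        rw [e, show d.co.el 10 = d.co.el 32 * d.co.el 10 * (d.co.el 32)⁻¹ by rw [mem_C.1 (el_mem_C 32)]; group,
          mul_left_inj, mul_right_inj] at this
        exact hv0.2 (d.co.inj this).symm
  obtain ⟨hvI', hv0', hv10', hve⟩ := hv''
  refine no_big_normalizer hk ?_
  rcases hset with hI | ⟨hvU, hU⟩
  · -- a conjugate of `P` normalises the eight group of `x i`
    have hle : (d.P : Subgroup G).map (MulAut.conj g''⁻¹).toMonoidHom ≤ d.NU := by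
      rintro _ ⟨x, hx, rfl⟩
      obtain ⟨h, rfl⟩ := (d.co.mem _).1 hx
      show g''⁻¹ * d.co.el h * g''⁻¹⁻¹ ∈ d.NU
      refine mem_NU_of (d.C.mul_mem (d.C.mul_mem (d.C.inv_mem hg'') (el_mem_C h))
        (by rw [inv_inv]; exact hg'')) fun e he => ?_
      -- every element of the eight group is a preimage
      have hbij : ∀ e ∈ eightU, ∃ y ∈ eightI, d.co.el y = g'' * d.co.el e * g''⁻¹ := by
        classical
        choose f hf hf' using hI
        intro e he
        have hsurj : (eightI.attach.map fun y => f y.1 y.2).toFinset = eightU.toFinset := by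
          refine Finset.eq_of_subset_of_card_le (fun x hx => ?_) ?_
          · obtain ⟨y, -, rfl⟩ := List.mem_map.1 (List.mem_toFinset.1 hx)
            exact List.mem_toFinset.2 (hf y.1 y.2)
          · rw [List.toFinset_card_of_nodup (l := eightI.attach.map fun y => f y.1 y.2)]
            · simp; decide
            · refine (List.nodup_attach.2 (by decide)).map fun p q e' => Subtype.ext (d.co.inj ?_)
              rw [hf' p.1 p.2, hf' q.1 q.2, e']
        have he' : e ∈ (eightI.attach.map fun y => f y.1 y.2).toFinset := hsurj ▸ List.mem_toFinset.2 he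
        obtain ⟨y, -, rfl⟩ := List.mem_map.1 (List.mem_toFinset.1 he')
        exact ⟨y.1, y.2, hf' y.1 y.2⟩
      obtain ⟨y, hy, hye⟩ := hbij e he
      have hy' : conjI h y ∈ eightI :=
        List.contains_iff_mem.1 (List.all_eq_true.1 (of_t64 eightI_normal h) y hy)
      obtain ⟨e', he', hee⟩ := hI _ hy'
      refine ⟨e', he', ?_⟩
      have h2 : d.co.el e' = g''⁻¹ * d.co.el (conjI h y) * g'' := by rw [hee]; group
      rw [h2, d.co.el_conj, hye]; group
    have := Subgroup.card_dvd_of_le hle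
    rwa [Subgroup.card_map_of_injective (f := (MulAut.conj g''⁻¹).toMonoidHom) (MulAut.conj g''⁻¹).injective,
      card_P] at this
  · have hgN : g'' ∈ d.NU := mem_NU_of hg'' hU
    refine exists_sylow_NU hgN hn hn' ?_ hve
    revert hvI' hvU hv0' hv10'
    clear hve
    revert v''
    decide +kernel

/-- The normal eight group is strongly closed in `C`. -/
theorem closed {g : G} (hg : g ∈ d.C) {a n : Fin 64} (ha : a ∈ eightI)
    (hga : d.co.el n = g * d.co.el a * g⁻¹) : n ∈ eightI := by
  have hinv : d.co.el a = g⁻¹ * d.co.el n * g⁻¹⁻¹ := by rw [hga]; group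
  by_cases ha0 : a = 0
  · rw [ha0, d.co.el_zero, mul_one, mul_inv_cancel, d.co.el_eq_one] at hga
    rw [hga]; decide
  by_cases ha10 : a = 10
  · rw [ha10, mem_C.1 hg, mul_inv_cancel_right] at hga
    rw [d.co.inj hga]; decide
  have hzn : n ∈ zList := (Z_iff hk).1 ((_root_.isConj_iff.2 ⟨g⁻¹, hinv.symm⟩ :
    IsConj (d.co.el n) (d.co.el a)).trans ((Z_iff hk).2 (by
      simpa [ha0] using List.all_eq_true.1 eight_z.1 a ha)))
  by_contra hn
  have := of_t64 not_eight n
  simp only [List.contains_iff_mem.2 hzn, Bool.not_true, Bool.false_or, Bool.or_eq_true, List.contains_iff_mem,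
    Bool.and_eq_true, beq_iff_eq] at this
  obtain ⟨hU, -⟩ := this.resolve_left hn
  rcases hU with hU | hU
  · exact not_fused hk (d.C.inv_mem hg) ha ha0 ha10 hU (by revert hn hU; clear hga hinv hzn; revert n; decide +kernel) hinv
  · refine not_fused hk (g := g⁻¹ * (d.co.el 32)⁻¹) (d.C.mul_mem (d.C.inv_mem hg) (d.C.inv_mem (el_mem_C 32)))
      ha ha0 ha10 (n := conjI 32 n) (List.contains_iff_mem.1 (List.all_eq_true.1 eightU_swap.1 n hU))
      (by revert hn hU; clear hga hinv hzn; revert n; decide +kernel) ?_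
    rw [d.co.el_conj, hinv]; group

end Setting

end Cfsg.Agent.Invol.TwelveType
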