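import Cfsg.Agent.Lib.Invol.TwelveType.Signal

/-! The normalizer of the signalizer closure controls the conjugates of the central involution. -/

set_option autoImplicit false
set_option linter.style.haveILetI false
set_option linter.unusedSectionVars false
set_option maxRecDepth 100000

namespace Cfsg.Agent.Invol.TwelveType

open Subgroup Cfsg.Agent.Grp

universe u

/-- The eight group at the two representatives. -/
theorem source_ok : ∀ pL ∈ [((16 : Fin 64), eightI), ((17 : Fin 64), eightU)],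
    subOk pL.2 = true ∧ pL.1 ∈ pL.2 ∧ (2 : Fin 64) ∈ pL.2 ∧ (10 : Fin 64) ∈ pL.2 ∧ pL.2.Nodup ∧
      (∀ x ∈ pL.2, comI x pL.1 = true) ∧ (∀ x ∈ pL.2, x ∈ [0, pL.1, 2, 10, mulI pL.1 2, mulI pL.1 10, mulI 2 10,
        mulI pL.1 (mulI 2 10)]) ∧
      (∀ x ∈ [0, pL.1, 2, 10, mulI pL.1 2, mulI pL.1 10, mulI 2 10, mulI pL.1 (mulI 2 10)], x ∈ pL.2) ∧
      [0, pL.1, 2, 10, mulI pL.1 2, mulI pL.1 10, mulI 2 10, mulI pL.1 (mulI 2 10)].Nodup := by decide +kernel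

variable {G : Type u} [Group G] [Finite G]

namespace Setting

variable {d : Setting G} (hk : IsConj (d.co.el 32) (d.co.el 21))
include hk

theorem exists_M_conj_rep {p : Fin 64} {L : List (Fin 64)} (hpL : (p, L) ∈ [((16 : Fin 64), eightI), ((17 : Fin 64), eightU)]) :
    ∃ m ∈ d.M, d.co.el 10 = m * d.co.el p * m⁻¹ := by
  haveI : Fact (Nat.Prime 2) := ⟨Nat.prime_two⟩
  obtain ⟨hok, hp, h2L, h10L, hnd, hcom, hgenL, hLgen, hndg⟩ := source_ok _ hpL
  simp only at hok hp h2L h10L hnd hcom hgenL hLgen hndg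
  have hLz : ∀ n ∈ L, n ≠ 0 → n ∈ zList := by
    rcases (by simpa using hpL : (p = 16 ∧ L = eightI) ∨ (p = 17 ∧ L = eightU)) with ⟨-, rfl⟩ | ⟨-, rfl⟩
    exacts [(eight_data hk).1, (eight_data hk).2]
  have hp0 : p ≠ 0 := by
    rcases (by simpa using hpL : (p = 16 ∧ L = eightI) ∨ (p = 17 ∧ L = eightU)) with ⟨rfl, -⟩ | ⟨rfl, -⟩ <;> decide
  obtain ⟨g0, hg0⟩ := _root_.isConj_iff.1 ((Z_iff hk).2 (hLz p hp hp0))
  set R := ((d.P : Subgroup G) ⊓ centralizer ({d.co.el p} : Set G)).map (MulAut.conj g0).toMonoidHom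
  have hRC : R ≤ d.C := by
    rintro _ ⟨x, hx, rfl⟩
    refine mem_C.2 ?_
    have hx' : x * d.co.el p = d.co.el p * x := mem_centralizer_singleton_iff.1 hx.2
    show g0 * x * g0⁻¹ * d.co.el 10 = d.co.el 10 * (g0 * x * g0⁻¹)
    rw [← hg0]
    calc g0 * x * g0⁻¹ * (g0 * d.co.el p * g0⁻¹) = g0 * (x * d.co.el p) * g0⁻¹ := by group
      _ = g0 * (d.co.el p * x) * g0⁻¹ := by rw [hx']
      _ = _ := by group
  obtain ⟨h, hhC, hh⟩ := exists_into (d := d) (R := R) ((d.P.isPGroup'.to_le inf_le_left).map _) hRC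
  set g := h * g0 with hg
  have hgp : d.co.el 10 = g * d.co.el p * g⁻¹ := by
    rw [hg, show h * g0 * d.co.el p * (h * g0)⁻¹ = h * (g0 * d.co.el p * g0⁻¹) * h⁻¹ by group, hg0, mem_C.1 hhC]
    group
  obtain ⟨m, hm⟩ := d.co.exists_map (g := g) (s := fun n => comI n p) fun n hn => by
    rw [hg, show h * g0 * d.co.el n * (h * g0)⁻¹ = h * (g0 * d.co.el n * g0⁻¹) * h⁻¹ by group]
    exact hh _ ⟨d.co.el n, ⟨d.co.mem_el n, mem_centralizer_singleton_iff.2 (d.co.com_iff.1 hn)⟩, rfl⟩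
  have hl : ∀ x ∈ L, d.co.el (m x) = g * d.co.el x * g⁻¹ := fun x hx => hm x (hcom x hx)
  have hmul : ∀ {a b}, a ∈ L → b ∈ L → mulI a b ∈ L := fun {a b} ha hb => (((subOk_iff hok).2 a ha).2.2 b hb).2
  have key : ∀ x y, x ∈ L → y ∈ L → m (mulI x y) = mulI (m x) (m y) := fun x y hx hy => d.co.inj (by
    rw [hl _ (hmul hx hy), ← d.co.mul, ← d.co.mul, hl x hx, hl y hy]; group)
  have hinj : ∀ x ∈ L, ∀ y ∈ L, m x = m y → x = y := fun x hx y hy e => d.co.inj (by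
    have := congrArg d.co.el e
    rwa [hl x hx, hl y hy, mul_left_inj, mul_right_inj] at this)
  have hmp : m p = 10 := d.co.inj (by rw [hl p hp, ← hgp])
  have h0 : m 0 = 0 := d.co.el_eq_one.1 (by rw [hl 0 (subOk_iff hok).1, d.co.el_zero]; group)
  have heq : genList (m 2) (m 10) =
      [0, p, 2, 10, mulI p 2, mulI p 10, mulI 2 10, mulI p (mulI 2 10)].map m := by
    simp only [genList, List.map_cons, List.map_nil, h0, hmp, key p 2 hp h2L, key p 10 hp h10L,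
      key 2 10 h2L h10L, key p (mulI 2 10) hp (hmul h2L h10L)]
  have hmem : ∀ y, y ∈ genList (m 2) (m 10) ↔ ∃ x ∈ L, m x = y := fun y => by
    rw [heq, List.mem_map]
    exact ⟨fun ⟨x, hx, e⟩ => ⟨x, hLgen x hx, e⟩, fun ⟨x, hx, e⟩ => ⟨x, hgenL x hx, e⟩⟩
  have hz : ∀ x ∈ L, x ≠ 0 → m x ∈ zList := fun x hx h0' => (Z_iff hk).1
    ((_root_.isConj_iff.2 ⟨g, (hl x hx).symm⟩ : IsConj (d.co.el x) (d.co.el (m x))).symm.trans
      ((Z_iff hk).2 (hLz x hx h0')))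
  have := List.all_eq_true.1 (List.all_eq_true.1 pure_all (m 2) (hz 2 h2L (by decide))) (m 10) (hz 10 h10L (by decide))
  simp only [Bool.or_eq_true, Bool.not_eq_true'] at this
  rcases this with ((hcon | e) | e) | e
  · exfalso
    rw [Bool.eq_false_iff] at hcon
    refine hcon ?_
    simp only [Bool.and_eq_true, List.all_eq_true, decide_eq_true_eq, Bool.or_eq_true, beq_iff_eq,
      List.contains_iff_mem]
    refine ⟨⟨fun x hx => ?_, ?_⟩, ?_⟩
    · obtain ⟨y, hy, rfl⟩ := (hmem x).1 hx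
      by_cases hy0 : y = 0
      · exact Or.inl (hy0 ▸ h0)
      · exact Or.inr (hz y hy hy0)
    · rw [comI, beq_iff_eq, ← key 2 10 h2L h10L, ← key 10 2 h10L h2L]
      exact congrArg m (by decide)
    · rw [heq]
      exact List.Nodup.map_on (fun x hx y hy e => hinj x (hLgen x hx) y (hLgen y hy) e) hndg
  all_goals have hLI : L = eightI ∨ L = eightU := by
              rcases (by simpa using hpL : (p = 16 ∧ L = eightI) ∨ (p = 17 ∧ L = eightU)) with ⟨-, h⟩ | ⟨-, h⟩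
              exacts [Or.inl h, Or.inr h]
  · exact ⟨g, mem_M_of_map hk hLI (Or.inl rfl) fun a ha =>
      ⟨m a, (sameSet_mem e _).1 ((hmem _).2 ⟨a, ha, rfl⟩), hl a ha⟩, hgp⟩
  · exact ⟨g, mem_M_of_map hk hLI (Or.inr rfl) fun a ha =>
      ⟨m a, (sameSet_mem e _).1 ((hmem _).2 ⟨a, ha, rfl⟩), hl a ha⟩, hgp⟩
  · refine ⟨d.co.el 32 * g, mem_M_of_map hk hLI (Or.inr rfl) fun a ha => ⟨conjI 32 (m a), ?_, ?_⟩, ?_⟩
    · exact List.contains_iff_mem.1 (List.all_eq_true.1 eightU_swap.1 _ ((sameSet_mem e _).1 ((hmem _).2 ⟨a, ha, rfl⟩)))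
    · rw [d.co.el_conj, hl a ha]; group
    · rw [show d.co.el 32 * g * d.co.el p * (d.co.el 32 * g)⁻¹ = d.co.el 32 * (g * d.co.el p * g⁻¹) * (d.co.el 32)⁻¹
        by group, ← hgp, mem_C.1 (el_mem_C 32)]
      group

/-- Every conjugate of `z` in the Sylow subgroup is conjugate to it in `M`. -/
theorem exists_M_conj {n : Fin 64} (hn : n ∈ zList) : ∃ m ∈ d.M, d.co.el n = m * d.co.el 10 * m⁻¹ := by
  have hPM : ∀ h, d.co.el h ∈ d.M := fun h => P_le_M hk (d.co.mem_el h)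
  have hrep : ∀ p ∈ [(16 : Fin 64), 17], ∃ m ∈ d.M, d.co.el p = m * d.co.el 10 * m⁻¹ := by
    intro p hp
    obtain ⟨m, hm, e⟩ : ∃ m ∈ d.M, d.co.el 10 = m * d.co.el p * m⁻¹ := by
      rcases (by simpa using hp : p = 16 ∨ p = 17) with rfl | rfl
      exacts [exists_M_conj_rep hk (L := eightI) (by simp), exists_M_conj_rep hk (L := eightU) (by simp)]
    exact ⟨m⁻¹, d.M.inv_mem hm, by rw [e]; group⟩
  have hreps : ∀ p ∈ [(10 : Fin 64), 2, 16, 17], ∃ m ∈ d.M, d.co.el p = m * d.co.el 10 * m⁻¹ := by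
    intro p hp
    rcases (by simpa using hp : p = 10 ∨ p = 2 ∨ p = 16 ∨ p = 17) with rfl | rfl | rfl | rfl
    · exact ⟨1, d.M.one_mem, by group⟩
    · obtain ⟨g, hg, hgI, hgP⟩ := exists_mover hk
      obtain ⟨b, hb, hbe⟩ := hgI 2 (by decide)
      have hbP := hgP b hbe
      have hb0 : b ≠ 0 := fun e => hbP (e ▸ by decide)
      have hb16 := List.all_eq_true.1 triples_ok.2.2.2 b hb
      simp only [Bool.or_eq_true, beq_iff_eq, List.contains_iff_mem] at hb16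
      rcases hb16 with (h | h) | h
      · exact absurd h hbP
      · exact absurd h hb0
      · obtain ⟨c, hc⟩ := of_s64 h
        obtain ⟨m, hm, hme⟩ := hrep 16 (by decide)
        refine ⟨g⁻¹ * (d.co.el c)⁻¹ * m, d.M.mul_mem (d.M.mul_mem (d.M.inv_mem (C_le_M hk hg))
          (d.M.inv_mem (hPM c))) hm, ?_⟩
        rw [show g⁻¹ * (d.co.el c)⁻¹ * m * d.co.el 10 * (g⁻¹ * (d.co.el c)⁻¹ * m)⁻¹ =
          g⁻¹ * ((d.co.el c)⁻¹ * (m * d.co.el 10 * m⁻¹) * d.co.el c) * g by group, ← hme,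
          ← beq_iff_eq.1 hc, d.co.el_conj, hbe]
        group
    · exact hrep 16 (by decide)
    · exact hrep 17 (by decide)
  have := of_t64 triples_ok.2.2.1 n
  simp only [List.contains_iff_mem.2 hn, Bool.not_true, Bool.false_or] at this
  obtain ⟨c, hc⟩ := of_s64 this
  obtain ⟨m, hm, hme⟩ := hreps _ (List.contains_iff_mem.1 hc)
  refine ⟨(d.co.el c)⁻¹ * m, d.M.mul_mem (d.M.inv_mem (hPM c)) hm, ?_⟩
  rw [show (d.co.el c)⁻¹ * m * d.co.el 10 * ((d.co.el c)⁻¹ * m)⁻¹ =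
    (d.co.el c)⁻¹ * (m * d.co.el 10 * m⁻¹) * d.co.el c by group, ← hme, d.co.el_conj]
  group

/-- A 2-subgroup of `M` is conjugate in `M` into the Sylow subgroup. -/
theorem exists_into_M {R : Subgroup G} (hR : IsPGroup 2 R) (hRM : R ≤ d.M) :
    ∃ m ∈ d.M, ∀ x ∈ R, m * x * m⁻¹ ∈ (d.P : Subgroup G) := by
  haveI : Fact (Nat.Prime 2) := ⟨Nat.prime_two⟩
  obtain ⟨⟨h, hh⟩, H⟩ := Invol.exists_conj_subset_sylow
    (hR.comap_of_injective d.M.subtype d.M.subtype_injective) (d.P.subtype (P_le_M hk))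
  exact ⟨h, hh, fun x hx => H ⟨x, hRM hx⟩ hx⟩

/-- A conjugate of `z` in `M` determines the conjugating element modulo `M`. -/
theorem mem_M_of_conj {g : G} (hg : g * d.co.el 10 * g⁻¹ ∈ d.M) : g ∈ d.M := by
  have h2 : orderOf (g * d.co.el 10 * g⁻¹) = 2 ^ 1 := by
    rw [Invol.orderOf_conj_eq, d.co.orderOf_el (by decide) (by decide)]; rfl
  obtain ⟨m, hm, hmR⟩ := exists_into_M hk (Invol.isPGroup_zpowers h2) (zpowers_le.2 hg)
  obtain ⟨n, hn⟩ := (d.co.mem _).1 (hmR _ (mem_zpowers _))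
  have hz : n ∈ zList := (Z_iff hk).1 (_root_.isConj_iff.2 ⟨(m * g)⁻¹, by rw [hn]; group⟩)
  obtain ⟨m', hm', hme⟩ := exists_M_conj hk hz
  have hC : m'⁻¹ * m * g ∈ d.C := mem_C.2 (mul_inv_eq_iff_eq_mul.1 (by
    calc m'⁻¹ * m * g * d.co.el 10 * (m'⁻¹ * m * g)⁻¹ = m'⁻¹ * (m * (g * d.co.el 10 * g⁻¹) * m⁻¹) * m' := by group
      _ = m'⁻¹ * (m' * d.co.el 10 * m'⁻¹) * m' := by rw [← hn, hme]
      _ = _ := by group))
  have := d.M.mul_mem (d.M.mul_mem (d.M.inv_mem hm) hm') (C_le_M hk hC)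
  simpa [mul_assoc] using this

/-- The centraliser of a conjugate of `z` in `M` lies in `M`. -/
theorem cent_le_M {y : G} (hy : y ∈ d.M) (hz : IsConj (d.co.el 10) y) : centralizer ({y} : Set G) ≤ d.M := by
  obtain ⟨g, hg⟩ := _root_.isConj_iff.1 hz
  have hgM := mem_M_of_conj hk (hg ▸ hy)
  intro c hc
  have h1 : c * y = y * c := mem_centralizer_singleton_iff.1 hc
  have hC : g⁻¹ * c * g ∈ d.C := mem_C.2 (by
    rw [← hg] at h1
    calc g⁻¹ * c * g * d.co.el 10 = g⁻¹ * (c * (g * d.co.el 10 * g⁻¹)) * g := by group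
      _ = g⁻¹ * (g * d.co.el 10 * g⁻¹ * c) * g := by rw [h1]
      _ = _ := by group)
  have := d.M.mul_mem (d.M.mul_mem hgM (C_le_M hk hC)) (d.M.inv_mem hgM)
  simpa [mul_assoc] using this

end Setting

end Cfsg.Agent.Invol.TwelveType
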