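import Cfsg.Agent.Lib.Invol.TwelveType.TripleFacts

/-! Finite facts for the centralisers of the non-central involutions. -/

set_option autoImplicit false
set_option maxRecDepth 100000

namespace Cfsg.Agent.Invol.TwelveType

/-- The pure four group of a triple. -/
def pureF (F : List (Fin 64)) : List (Fin 64) := F.filter fun n => n == 0 || zList.contains n

/-- A list of commuting involutions closed under products, as a test. -/
def closedOk (L : List (Fin 64)) : Bool :=
  L.contains 0 && L.all fun a => invI a == a && mulI a a == 0 && L.all fun b => comI a b && L.contains (mulI a b)

/-- The properties of a triple needed in the centraliser of its first entry. -/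
def coreOk (a : Fin 64) (F : List (Fin 64)) (b : Fin 64) : Bool :=
  !(a == 0) && mulI a a == 0 && !(zList.contains a) && F.contains a && F.contains 10 && closedOk F && decide F.Nodup &&
  F.length == 8 && decide (centCard a = 16) && F.all (fun n => comI n a) &&
  closedOk (pureF F) && decide (pureF F).Nodup && (pureF F).length == 4 && (pureF F).all (fun n => eightI.contains n && F.contains n) &&
  comI b a && mulI b b == 0 && !(b == 0) && !(b == a) && !(zList.contains b) && !(zList.contains (mulI a b)) &&
  !(mulI a b == 0) && mulI (mulI a b) (mulI a b) == 0 && !(F.contains b) &&
  closedOk [0, a, b, mulI a b] && decide [0, a, b, mulI a b].Nodup &&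
  (s64 fun n => comI n a && mulI n n == 10) &&
  t64 fun n => !(comI n a) || (([0, 10].contains (mulI n n)) &&
    (F.contains n == (mulI n n == 0 && (n == 0 || n == a || zList.contains n || zList.contains (mulI a n)))) &&
    (!(mulI n n == 0) || n == 0 || n == a || zList.contains n || zList.contains (mulI a n) ||
      s64 fun h => comI h a && (conjI h n == b || conjI h n == mulI a b)))

theorem cores_ok : triples.all (fun p => coreOk p.1 p.2.1 p.2.2) = true := by decide +kernel

end Cfsg.Agent.Invol.TwelveType
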