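import Cfsg.Agent.Lib.Invol.IndexTwoTransfer
import Cfsg.Agent.Lib.Invol.Basic
import Cfsg.Agent.Lib.Grp.Subnormal
import Cfsg.Agent.S1221

/-!
An odd subgroup normalised by a subgroup that controls the involutions of a kernel of index two
lies in the odd core.
-/

set_option autoImplicit false
set_option linter.style.haveILetI false

namespace Cfsg.Agent.Invol.TwelveType

open Subgroup

universe u

variable {H : Type u} [Group H] [Finite H]

/-- In a group of index two, elements of odd order lie. -/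
theorem mem_of_odd_index_two {L : Subgroup H} (hL : L.index = 2) {x : H} (hx : Odd (orderOf x)) : x ∈ L := by
  obtain ⟨k, hk⟩ := hx
  have h1 : x * x ∈ L := Subgroup.mul_self_mem_of_index_two hL x
  have h2 : (x * x) ^ (k + 1) = x := by
    rw [← pow_two, ← pow_mul, show 2 * (k + 1) = (2 * k + 1) + 1 by ring, ← hk, pow_succ, pow_orderOf_eq_one, one_mul]
  exact h2 ▸ L.pow_mem h1 _

theorem orderOf_odd_of_mem {U : Subgroup H} (hU : Odd (Nat.card U)) {x : H} (hx : x ∈ U) : Odd (orderOf x) :=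
  hU.of_dvd_nat (Subgroup.orderOf_dvd_natCard _ hx)

/-- The main criterion. -/
theorem le_core_of_index_two {M U : Subgroup H} (R : Sylow 2 H) (hRM : (R : Subgroup H) ≤ M)
    {F : Subgroup H} (hFR : F ≤ (R : Subgroup H)) (hF : F.relIndex (R : Subgroup H) = 2)
    (hres : ∀ s ∈ (R : Subgroup H), ∀ g : H, g * s * g⁻¹ ∈ (R : Subgroup H) → (g * s * g⁻¹ ∈ F ↔ s ∈ F))
    {a : H} (haF : a ∈ F) (ha : orderOf a = 2) (hac : ∀ h : H, h * a = a * h) (hexp : ∀ x ∈ F, x * x = 1)
    {y : H} (hyF : y ∈ F) (hy1 : y ≠ 1) (hya : y ≠ a)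
    (hemb : ∀ g : H, ∀ x ∈ F, x ≠ 1 → x ≠ a → g * x * g⁻¹ ∈ M → g ∈ M)
    (hUM : U ≤ M) (hMU : M ≤ normalizer (U : Set H)) (hU : Odd (Nat.card U)) :
    U ≤ Cfsg.pPrimeCore 2 H := by
  classical
  haveI : Fact (Nat.Prime 2) := ⟨Nat.prime_two⟩
  have hcop : (Nat.card U).Coprime 2 := hU.coprime_two_left.symm
  by_cases hMtop : M = ⊤
  · exact Grp.le_pPrimeCore (normalizer_eq_top_iff.1 (top_unique (hMtop ▸ hMU))) hcop
  obtain ⟨K, hKn, hKi, hKR⟩ := Invol.exists_index_two_of_respects R hFR hF hres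
  have hFK : F ≤ K := hKR ▸ inf_le_left
  have hUK : U ≤ K := fun x hx => mem_of_odd_index_two hKi (orderOf_odd_of_mem hU hx)
  have hKM : ¬ K ≤ M := fun h => hMtop (eq_top_iff.2 fun x _ => by
    by_cases hxK : x ∈ K
    · exact h hxK
    · obtain ⟨r, hrR, hrK⟩ : ∃ r ∈ (R : Subgroup H), r ∉ K := by
        by_contra hcon
        push Not at hcon
        have : (R : Subgroup H) ≤ F := fun r hr => hKR ▸ ⟨hcon r hr, hr⟩
        rw [Subgroup.relIndex_eq_one.2 this] at hF
        exact absurd hF (by norm_num)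
      have hxr : x * r ∈ K := (Subgroup.mul_mem_iff_of_index_two hKi).2 (iff_of_false hxK hrK)
      simpa [mul_assoc] using M.mul_mem (h hxr) (M.inv_mem (hRM hrR)))
  -- the quotient of `K` by `a`
  set a' : ↥K := ⟨a, hFK haF⟩ with ha'
  set Z := Subgroup.zpowers a' with hZdef
  haveI hZn : Z.Normal := ⟨fun z hz k => by
    obtain ⟨j, rfl⟩ := Subgroup.mem_zpowers_iff.1 hz
    have hc : Commute k a' := Subtype.ext (hac k)
    rw [(hc.zpow_right j).eq, mul_inv_cancel_right]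
    exact hz⟩
  have ha2 : orderOf a' = 2 := by rw [← ha, ← Subgroup.orderOf_coe]
  have hZmem : ∀ z ∈ Z, z = 1 ∨ z = a' := fun z hz => by
    obtain ⟨j, rfl⟩ := Subgroup.mem_zpowers_iff.1 hz
    have h2 : a' ^ (2 : ℤ) = 1 := by
      rw [show (2 : ℤ) = ((2 : ℕ) : ℤ) from rfl, zpow_natCast, ← ha2, pow_orderOf_eq_one]
    rcases Int.even_or_odd j with ⟨i, rfl⟩ | ⟨i, rfl⟩
    · exact Or.inl (by rw [← two_mul, zpow_mul, h2, one_zpow])
    · exact Or.inr (by rw [zpow_add, zpow_mul, h2, one_zpow, one_mul, zpow_one])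
  set π : ↥K →* ↥K ⧸ Z := QuotientGroup.mk' Z
  have hZM : ∀ z ∈ Z, (z : H) ∈ M := fun z hz => by
    rcases hZmem z hz with rfl | rfl
    exacts [M.one_mem, hRM (hFR haF)]
  set M' := (M.subgroupOf K).map π with hM'
  have hM'mem : ∀ x : ↥K, π x ∈ M' ↔ (x : H) ∈ M := fun x => by
    refine ⟨?_, fun h => ⟨x, h, rfl⟩⟩
    rintro ⟨w, hw, hwe⟩
    have h1 : (w⁻¹ * x : ↥K) ∈ Z := (QuotientGroup.eq).1 hwe
    simpa using M.mul_mem (mem_subgroupOf.1 hw) (hZM _ h1)
  have hemb' : Cfsg.IsStronglyEmbedded M' := by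
    refine ⟨fun e => hKM fun x hx => (hM'mem ⟨x, hx⟩).1 (e ▸ mem_top _), ?_, fun g hg => ?_⟩
    · rw [even_iff_two_dvd]
      have h1 : π ⟨y, hFK hyF⟩ ∈ M' := (hM'mem _).2 (hRM (hFR hyF))
      refine (dvd_of_eq ?_).trans (Subgroup.orderOf_dvd_natCard _ h1)
      refine (orderOf_eq_prime ?_ fun e => ?_).symm
      · rw [← map_pow, show (⟨y, hFK hyF⟩ : ↥K) ^ 2 = 1 from Subtype.ext (by
          show y ^ 2 = 1
          rw [pow_two]; exact hexp y hyF), map_one]
      · rcases hZmem _ ((QuotientGroup.eq_one_iff _).1 e) with h | h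
        · exact hy1 (congrArg Subtype.val h)
        · exact hya (congrArg Subtype.val h)
    · rw [← Nat.not_even_iff_odd, even_iff_two_dvd]
      intro hdvd
      obtain ⟨⟨q, hq1, hq2⟩, hqo⟩ := exists_prime_orderOf_dvd_card' 2 hdvd
      have hqo' : orderOf q = 2 := by rw [← hqo, ← Subgroup.orderOf_coe]
      obtain ⟨w, hw, hwq⟩ := hq2
      obtain ⟨x, rfl⟩ := QuotientGroup.mk'_surjective Z q
      obtain ⟨c, rfl⟩ := QuotientGroup.mk'_surjective Z g
      have hxM : (x : H) ∈ M := (hM'mem x).1 hq1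
      have hx2 : x * x ∈ Z := (QuotientGroup.eq_one_iff _).1 (by
        show π (x * x) = 1
        rw [map_mul, ← pow_two, ← hqo', pow_orderOf_eq_one])
      have hx4 : (x : H) ^ 2 ^ 2 = 1 := by
        have h4 : (x * x) * (x * x) = 1 := by
          rcases hZmem _ hx2 with h | h <;> rw [h]
          · simp
          · rw [← pow_two, ← ha2, pow_orderOf_eq_one]
        show (x : H) ^ 4 = 1
        rw [show (4 : ℕ) = 2 * 2 from rfl, pow_mul, pow_two, pow_two]
        exact congrArg Subtype.val h4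
      have hp : IsPGroup 2 (Subgroup.zpowers (x : H)) := by
        obtain ⟨i, -, hi⟩ := (Nat.dvd_prime_pow Nat.prime_two).1 (orderOf_dvd_of_pow_eq_one hx4)
        exact Invol.isPGroup_zpowers hi
      obtain ⟨⟨m, hm⟩, hmR⟩ := Invol.exists_conj_subset_sylow
        (hp.comap_of_injective M.subtype M.subtype_injective) (R.subtype hRM)
      have hxR : m * (x : H) * m⁻¹ ∈ (R : Subgroup H) :=
        hmR ⟨x, hxM⟩ (Subgroup.mem_zpowers (x : H))
      have hxF : m * (x : H) * m⁻¹ ∈ F := hKR ▸ ⟨hKn.conj_mem _ x.2 m, hxR⟩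
      have hx1 : π x ≠ 1 := fun e => by rw [e, orderOf_one] at hqo'; exact absurd hqo' (by norm_num)
      have hne1 : m * (x : H) * m⁻¹ ≠ 1 := fun e => hx1 ((QuotientGroup.eq_one_iff _).2 (by
        rw [conj_eq_one_iff] at e
        rw [show x = 1 from Subtype.ext e]
        exact Z.one_mem))
      have hnea : m * (x : H) * m⁻¹ ≠ a := fun e => hx1 ((QuotientGroup.eq_one_iff _).2 (by
        have h2 : (x : H) = a := by
          calc (x : H) = m⁻¹ * (m * (x : H) * m⁻¹) * m := by group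
            _ = m⁻¹ * (a * m) := by rw [e, mul_assoc]
            _ = a := by rw [← hac m]; group
        rw [show x = a' from Subtype.ext h2]
        exact Subgroup.mem_zpowers a'))
      refine hg ((hM'mem c).2 ?_)
      obtain ⟨w', rfl⟩ := QuotientGroup.mk'_surjective Z w
      have hw'M : (w' : H) ∈ M := (hM'mem w').1 hw
      have h3 : (c : H)⁻¹ * x * c ∈ M := by
        refine (hM'mem (c⁻¹ * x * c)).1 ?_
        have : π (c⁻¹ * x * c) = π w' := by
          rw [map_mul, map_mul, map_inv, ← show π c * π w' * (π c)⁻¹ = π x from hwq]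
          group
        exact this ▸ hw
      have h4 := hemb ((c : H)⁻¹ * m⁻¹) _ hxF hne1 hnea (by
        rw [show (c : H)⁻¹ * m⁻¹ * (m * (x : H) * m⁻¹) * ((c : H)⁻¹ * m⁻¹)⁻¹ = (c : H)⁻¹ * x * c by group]
        exact h3)
      simpa using M.inv_mem (M.mul_mem h4 hm)
  -- the image of `U` lies in the odd core
  set UK := U.subgroupOf K with hUKdef
  have hUKle : UK.map π ≤ M' := Subgroup.map_mono (fun x hx => hUM hx)
  have hUo : (Nat.card (UK.map π)).Coprime 2 :=
    Nat.Coprime.coprime_dvd_left (Subgroup.card_map_dvd _ _)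
      (by rw [hUKdef, Nat.card_congr (Subgroup.subgroupOfEquivOfLe hUK).toEquiv]; exact hcop)
  have hcore : UK.map π ≤ Cfsg.oddCore (↥K ⧸ Z) := by
    refine le_trans ?_ (S1221.result M' hemb')
    have hn : ((UK.map π).subgroupOf M').Normal := ⟨fun x hx w => by
      obtain ⟨u, hu, hue⟩ := mem_subgroupOf.1 hx
      obtain ⟨m, hm, hme⟩ := w.2
      refine mem_subgroupOf.2 ⟨m * u * m⁻¹, mem_subgroupOf.2 ?_, ?_⟩
      · exact (mem_normalizer_iff.1 (hMU (mem_subgroupOf.1 hm)) _).1 (mem_subgroupOf.1 hu)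
      · rw [map_mul, map_mul, map_inv, hue, hme]; rfl⟩
    have h1 : (UK.map π).subgroupOf M' ≤ Cfsg.oddCore ↥M' := Grp.le_pPrimeCore hn (by
      rwa [Nat.card_congr (Subgroup.subgroupOfEquivOfLe hUKle).toEquiv])
    have h2 := Subgroup.map_mono (f := M'.subtype) h1
    rwa [Subgroup.subgroupOf_map_subtype, inf_eq_left.2 hUKle] at h2
  haveI : (Cfsg.oddCore (↥K ⧸ Z)).Normal := Grp.pPrimeCore_isNormal
  set N := (Cfsg.oddCore (↥K ⧸ Z)).comap π with hNdef
  haveI hNn : N.Normal := Subgroup.normal_comap π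
  have hUN : ∀ x ∈ U, ∃ h : x ∈ K, (⟨x, h⟩ : ↥K) ∈ N := fun x hx =>
    ⟨hUK hx, hcore ⟨⟨x, hUK hx⟩, mem_subgroupOf.2 hx, rfl⟩⟩
  have hZN : Z ≤ N := fun z hz => by
    show π z ∈ Cfsg.oddCore (↥K ⧸ Z)
    rw [show π z = 1 from (QuotientGroup.eq_one_iff _).2 hz]
    exact one_mem _
  have hZidx : (Z.subgroupOf N).index.Coprime 2 := by
    have h1 : (Z.subgroupOf N).index = Nat.card (Cfsg.oddCore (↥K ⧸ Z)) := by
      have hZc : Z = (⊥ : Subgroup (↥K ⧸ Z)).comap π := by
        rw [MonoidHom.comap_bot, QuotientGroup.ker_mk']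
      rw [show (Z.subgroupOf N).index = Z.relIndex N from rfl]
      nth_rewrite 1 [hZc]
      rw [Subgroup.relIndex_comap, hNdef, Subgroup.map_comap_eq_self_of_surjective (QuotientGroup.mk'_surjective Z),
        Subgroup.relIndex_bot_left]
    rw [h1]
    exact Grp.pPrimeCore_coprime
  have hcZ : Nat.card (Z.subgroupOf N) = 2 := by
    rw [Nat.card_congr (Subgroup.subgroupOfEquivOfLe hZN).toEquiv, Nat.card_zpowers, ha2]
  obtain ⟨L, hL⟩ := Subgroup.exists_right_complement'_of_coprime (N := Z.subgroupOf N)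
    (by rw [hcZ]; exact hZidx.symm)
  have hLi : L.index = 2 := by rw [hL.index_eq_card, hcZ]
  have hLo : (Nat.card L).Coprime 2 := by
    have h1 := hL.card_mul
    rw [hcZ] at h1
    have h2 := (Z.subgroupOf N).card_mul_index
    rw [hcZ] at h2
    rw [show Nat.card L = (Z.subgroupOf N).index by omega]
    exact hZidx
  have hLmem : ∀ x : ↥N, x ∈ L ↔ Odd (orderOf x) := fun x =>
    ⟨fun hx => orderOf_odd_of_mem (Nat.coprime_two_right.1 hLo) hx, mem_of_odd_index_two hLi⟩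
  haveI hLn : (L.map N.subtype).Normal := ⟨fun x hx k => by
    obtain ⟨x, hxL, rfl⟩ := hx
    refine ⟨⟨k * x * k⁻¹, hNn.conj_mem _ x.2 k⟩, (hLmem _).2 ?_, rfl⟩
    rw [← Subgroup.orderOf_coe, show ((⟨k * x * k⁻¹, hNn.conj_mem _ x.2 k⟩ : ↥N) : ↥K) = k * x * k⁻¹ from rfl,
      Invol.orderOf_conj_eq, Subgroup.orderOf_coe]
    exact (hLmem x).1 hxL⟩
  set L' := (L.map N.subtype).map K.subtype with hL'
  have hsub : L'.IsSubnormal := Subgroup.IsSubnormal.step _ K (map_subtype_le _) hKn.isSubnormal (by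
    rw [hL', Subgroup.subgroupOf, Subgroup.comap_map_eq_self_of_injective K.subtype_injective]
    exact hLn)
  intro x hx
  obtain ⟨hxK, hxN⟩ := hUN x hx
  refine Grp.le_pPrimeCore_of_isSubnormal hsub ?_ ⟨⟨x, hxK⟩, ⟨⟨⟨x, hxK⟩, hxN⟩, (hLmem _).2 ?_, rfl⟩, rfl⟩
  · rwa [hL', Subgroup.card_map_of_injective K.subtype_injective, Subgroup.card_map_of_injective N.subtype_injective]
  · rw [← Subgroup.orderOf_coe, ← Subgroup.orderOf_coe]
    exact orderOf_odd_of_mem hU hx

end Cfsg.Agent.Invol.TwelveType
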