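import Cfsg.Agent.Lib.Invol.TwelveType.Control
import Cfsg.Agent.Lib.Invol.TwelveType.CoreFacts
import Cfsg.Agent.Lib.Invol.TwelveType.IndexTwo

/-!
The centralisers of the non-central involutions lie in the normalizer of the signalizer closure;
hence the signalizer closure is trivial and so is the odd core of the centraliser of `z`.
-/

set_option autoImplicit false
set_option linter.style.haveILetI false
set_option linter.unusedSectionVars false
set_option maxRecDepth 100000

namespace Cfsg.Agent.Invol.TwelveType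

open Subgroup Cfsg.Agent.Grp

universe u

/-- The properties of a triple, as propositions. -/
structure Triple (a : Fin 64) (F : List (Fin 64)) (b : Fin 64) : Prop where
  a0 : a ≠ 0
  a2 : mulI a a = 0
  aZ : a ∉ zList
  aF : a ∈ F
  tenF : (10 : Fin 64) ∈ F
  okF : subOk F = true
  ndF : F.Nodup
  lenF : F.length = 8
  centA : centCard a = 16
  comF : ∀ n ∈ F, comI n a = true
  okP : subOk (pureF F) = true
  ndP : (pureF F).Nodup
  lenP : (pureF F).length = 4
  subP : ∀ n ∈ pureF F, n ∈ eightI ∧ n ∈ F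
  bA : comI b a = true
  b2 : mulI b b = 0
  b0 : b ≠ 0
  bne : b ≠ a
  bZ : b ∉ zList
  abZ : mulI a b ∉ zList
  ab0 : mulI a b ≠ 0
  ab2 : mulI (mulI a b) (mulI a b) = 0
  okQ : subOk [0, a, b, mulI a b] = true
  ndQ : [0, a, b, mulI a b].Nodup
  root : ∃ n, comI n a = true ∧ mulI n n = 10
  sq : ∀ n, comI n a = true → mulI n n = 0 ∨ mulI n n = 10
  memF : ∀ n, comI n a = true →
    (n ∈ F ↔ mulI n n = 0 ∧ (n = 0 ∨ n = a ∨ n ∈ zList ∨ mulI a n ∈ zList))
  outer : ∀ n, comI n a = true → mulI n n = 0 → n ≠ 0 → n ≠ a → n ∉ zList → mulI a n ∉ zList →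
    ∃ h, comI h a = true ∧ (conjI h n = b ∨ conjI h n = mulI a b)

set_option maxHeartbeats 800000 in
theorem Triple.of_ok {a : Fin 64} {F : List (Fin 64)} {b : Fin 64} (hok : coreOk a F b = true) : Triple a F b := by
  rw [coreOk, show closedOk = subOk from rfl] at hok
  simp only [Bool.and_eq_true, Bool.not_eq_true', beq_eq_false_iff_ne, beq_iff_eq, decide_eq_true_eq] at hok
  obtain ⟨⟨⟨⟨⟨⟨⟨⟨⟨⟨⟨⟨⟨⟨⟨⟨⟨⟨⟨⟨⟨⟨⟨⟨⟨⟨a0, a2⟩, aZ⟩, aF⟩, tenF⟩, okF⟩, ndF⟩, lenF⟩, centA⟩, comF⟩, okP⟩, ndP⟩, lenP⟩, subP⟩,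
    bA⟩, b2⟩, b0⟩, bne⟩, bZ⟩, abZ⟩, ab0⟩, ab2⟩, -⟩, okQ⟩, ndQ⟩, root⟩, hall⟩ := hok
  have hall' : ∀ n, comI n a = true → (mulI n n = 0 ∨ mulI n n = 10) ∧
      (n ∈ F ↔ mulI n n = 0 ∧ (n = 0 ∨ n = a ∨ n ∈ zList ∨ mulI a n ∈ zList)) ∧
      (mulI n n = 0 → n ≠ 0 → n ≠ a → n ∉ zList → mulI a n ∉ zList →
        ∃ h, comI h a = true ∧ (conjI h n = b ∨ conjI h n = mulI a b)) := by
    intro n hn
    have := of_t64 hall n
    simp only [hn, Bool.not_true, Bool.false_or, Bool.and_eq_true, beq_iff_eq] at this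
    obtain ⟨⟨h1, h2⟩, h3⟩ := this
    refine ⟨by simpa using h1, ?_, fun e1 e2 e3 e4 e5 => ?_⟩
    · have h4 := congrArg (fun t => t = true) h2
      simpa only [List.contains_iff_mem, Bool.and_eq_true, Bool.or_eq_true, beq_iff_eq, eq_iff_iff, or_assoc] using h4
    · simp only [e1, Bool.or_eq_true, Bool.not_eq_true', beq_iff_eq, e2, e3, List.contains_iff_mem, e4, e5,
        beq_self_eq_true, Bool.true_eq_false, or_false, false_or] at h3
      obtain ⟨h, hh⟩ := of_s64 h3
      simp only [Bool.and_eq_true, Bool.or_eq_true, beq_iff_eq] at hh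
      exact ⟨h, hh⟩
  refine ⟨a0, a2, by simpa using aZ, List.contains_iff_mem.1 aF, List.contains_iff_mem.1 tenF, okF, ndF, lenF, centA,
    by simpa using comF, okP, ndP, lenP, by simpa using subP, bA, b2, b0, bne, by simpa using bZ, by simpa using abZ,
    ab0, ab2, okQ, ndQ, ?_, fun n hn => (hall' n hn).1, fun n hn => (hall' n hn).2.1, fun n hn => (hall' n hn).2.2⟩
  obtain ⟨n, hn⟩ := of_s64 root
  simp only [Bool.and_eq_true, beq_iff_eq] at hn
  exact ⟨n, hn⟩

theorem exists_triple {n : Fin 64} (h2 : mulI n n = 0) (h0 : n ≠ 0) (hz : n ∉ zList) :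
    ∃ h a F b, Triple a F b ∧ conjI h n = a := by
  have := of_t64 triples_ok.2.1 n
  simp only [h2, beq_self_eq_true, Bool.not_true, Bool.false_or, beq_eq_false_iff_ne.2 h0, List.contains_iff_mem,
    Bool.or_eq_true, Bool.or_false, hz, false_or, Bool.and_eq_true] at this
  obtain ⟨h, hh⟩ := of_s64 this.2
  obtain ⟨⟨a, F, b⟩, hp, hpa⟩ := List.mem_map.1 (List.contains_iff_mem.1 hh)
  have hall := List.all_eq_true.1 cores_ok
  have h9 : coreOk a F b = true := hall (a, F, b) hp
  exact ⟨h, a, F, b, Triple.of_ok h9, hpa.symm⟩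

theorem centCard_le {n : Fin 64} (h2 : mulI n n = 0) (h0 : n ≠ 0) (hz : n ∉ zList) : centCard n ≤ 16 := by
  have := of_t64 triples_ok.2.1 n
  simp only [h2, beq_self_eq_true, Bool.not_true, Bool.false_or, beq_eq_false_iff_ne.2 h0, List.contains_iff_mem,
    Bool.or_eq_true, Bool.or_false, hz, false_or, Bool.and_eq_true, decide_eq_true_eq] at this
  exact this.1

variable {G : Type u} [Group G] [Finite G]

namespace Setting

/-- The part of the Sylow subgroup centralising an element. -/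
def centP (d : Setting G) (a : Fin 64) : Subgroup G := (d.P : Subgroup G) ⊓ centralizer ({d.co.el a} : Set G)

variable {d : Setting G}

theorem el_mem_cent {a n : Fin 64} (h : comI n a = true) : d.co.el n ∈ centralizer ({d.co.el a} : Set G) :=
  mem_centralizer_singleton_iff.2 (d.co.com_iff.1 h)

theorem mem_centP {a : Fin 64} {g : G} (hg : g ∈ d.centP a) : ∃ n, comI n a = true ∧ d.co.el n = g := by
  obtain ⟨n, rfl⟩ := (d.co.mem g).1 hg.1
  exact ⟨n, d.co.com_iff.2 (mem_centralizer_singleton_iff.1 hg.2), rfl⟩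

theorem el_mem_centP {a n : Fin 64} (h : comI n a = true) : d.co.el n ∈ d.centP a :=
  ⟨d.co.mem_el n, el_mem_cent h⟩

section WithK

variable (hk : IsConj (d.co.el 32) (d.co.el 21))
include hk

theorem Z_el {n : Fin 64} : IsConj (d.co.el n) (d.co.el 10) ↔ n ∈ zList := Z_iff hk

/-- The centraliser in the Sylow subgroup of a non-central involution is a maximal 2-subgroup. -/
theorem centP_max {a : Fin 64} {F : List (Fin 64)} {b : Fin 64} (t : Triple a F b) {X : Subgroup G}
    (hX : IsPGroup 2 X) (hXC : X ≤ centralizer ({d.co.el a} : Set G)) (hRX : d.centP a ≤ X) : d.centP a = X := by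
  haveI : Fact (Nat.Prime 2) := ⟨Nat.prime_two⟩
  refine le_antisymm hRX (fun x hx => ?_)
  by_contra hxR
  set R := (d.centP a).subgroupOf X with hRdef
  have hne : R ≠ ⊤ := fun e => hxR (show (⟨x, hx⟩ : ↥X) ∈ R from e ▸ mem_top _)
  haveI := hX.isNilpotent
  obtain ⟨g, hgN, hgR⟩ := SetLike.exists_of_lt (Group.normalizerCondition_of_isNilpotent R hne.lt_top)
  obtain ⟨r, hr, hr2⟩ := t.root
  -- `g` fixes `z`, the only nontrivial square
  have hgz : (g : G) * d.co.el 10 * (g : G)⁻¹ = d.co.el 10 := by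
    have hrR : (⟨d.co.el r, hRX (el_mem_centP hr)⟩ : ↥X) ∈ R := el_mem_centP hr
    obtain ⟨m, hm, hme⟩ := mem_centP (mem_subgroupOf.1 ((mem_normalizer_iff.1 hgN _).1 hrR))
    have h2 : d.co.el (mulI m m) = (g : G) * d.co.el 10 * (g : G)⁻¹ := by
      rw [← d.co.mul, hme, ← hr2, ← d.co.mul]
      show (g : G) * d.co.el r * (g : G)⁻¹ * ((g : G) * d.co.el r * (g : G)⁻¹) = _
      group
    rcases t.sq m hm with e | e <;> rw [e] at h2
    · rw [d.co.el_zero, eq_comm, conj_eq_one_iff, d.co.el_eq_one] at h2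
      exact absurd h2 (by decide)
    · exact h2.symm
  set T := (R ⊔ Subgroup.zpowers g).map X.subtype with hT
  have hTC : T ≤ d.C := by
    rw [hT, Subgroup.map_sup, sup_le_iff, MonoidHom.map_zpowers]
    exact ⟨fun y hy => by
        obtain ⟨⟨w, hwX⟩, hw, rfl⟩ := hy
        exact P_le_C (mem_subgroupOf.1 hw).1,
      zpowers_le.2 (mem_C.2 (mul_inv_eq_iff_eq_mul.1 hgz))⟩
  obtain ⟨h, hhC, hh⟩ := exists_into (d := d) (R := T) ((hX.to_subgroup _).map _) hTC
  have haT : d.co.el a ∈ T := ⟨⟨d.co.el a, hRX (el_mem_centP (t.comF a t.aF))⟩,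
    mem_sup_left (el_mem_centP (t.comF a t.aF)), rfl⟩
  obtain ⟨v, hv⟩ := (d.co.mem _).1 (hh _ haT)
  have hv2 : mulI v v = 0 := d.co.sq_zero (by
    rw [hv, show h * d.co.el a * h⁻¹ * (h * d.co.el a * h⁻¹) = h * (d.co.el a * d.co.el a) * h⁻¹ by group, d.co.mul,
      t.a2, d.co.el_zero]
    group)
  have hv0 : v ≠ 0 := fun e => by
    rw [e, d.co.el_zero, eq_comm, conj_eq_one_iff, d.co.el_eq_one] at hv
    exact t.a0 hv
  have hvz : v ∉ zList := fun e => t.aZ ((Z_el hk).1
    ((_root_.isConj_iff.2 ⟨h, hv.symm⟩ : IsConj (d.co.el a) (d.co.el v)).trans ((Z_el hk).2 e)))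
  have hle : Nat.card T ≤ centCard v := by
    rw [← card_centP (d := d), ← Subgroup.card_map_of_injective (f := (MulAut.conj h).toMonoidHom)
      (MulAut.conj h).injective]
    refine Subgroup.card_le_of_le ?_
    rintro _ ⟨y, hy, rfl⟩
    refine ⟨hh y hy, mem_centralizer_singleton_iff.2 ?_⟩
    have h1 : y * d.co.el a = d.co.el a * y := mem_centralizer_singleton_iff.1 (hXC (map_subtype_le _ hy))
    show h * y * h⁻¹ * d.co.el v = d.co.el v * (h * y * h⁻¹)
    rw [hv]
    calc h * y * h⁻¹ * (h * d.co.el a * h⁻¹) = h * (y * d.co.el a) * h⁻¹ := by group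
      _ = h * (d.co.el a * y) * h⁻¹ := by rw [h1]
      _ = _ := by group
  have hlt : Nat.card (d.centP a) < Nat.card T := by
    rw [hT, Subgroup.card_map_of_injective X.subtype_injective,
      ← Nat.card_congr (Subgroup.subgroupOfEquivOfLe hRX).toEquiv, ← hRdef]
    exact Set.Finite.card_lt_card (Set.toFinite _)
      (SetLike.coe_ssubset_coe.2 <| lt_of_le_not_ge le_sup_left fun hle' => hgR (hle' (mem_sup_right (mem_zpowers g))))
  rw [centP, card_centP, t.centA] at hlt
  have := centCard_le hv2 hv0 hvz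
  omega

/-- Inside the centraliser of a non-central involution, 2-subgroups are conjugate into the Sylow subgroup. -/
theorem exists_into_centP {a : Fin 64} {F : List (Fin 64)} {b : Fin 64} (t : Triple a F b) {X T : Subgroup G}
    (hXC : X ≤ centralizer ({d.co.el a} : Set G)) (hRX : d.centP a ≤ X) (hT : IsPGroup 2 T) (hTX : T ≤ X) :
    ∃ h ∈ X, ∀ x ∈ T, h * x * h⁻¹ ∈ d.centP a := by
  haveI : Fact (Nat.Prime 2) := ⟨Nat.prime_two⟩
  obtain ⟨S, hS⟩ := ((d.P.isPGroup'.to_le inf_le_left : IsPGroup 2 (d.centP a)).comap_of_injective X.subtype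
    X.subtype_injective).exists_le_sylow
  have heq : (S : Subgroup X).map X.subtype = d.centP a := (centP_max hk t (S.isPGroup'.map _)
    ((map_subtype_le _).trans hXC) fun x hx => ⟨⟨x, hRX hx⟩, hS hx, rfl⟩).symm
  obtain ⟨⟨h, hh⟩, H⟩ := Invol.exists_conj_subset_sylow (hT.comap_of_injective X.subtype X.subtype_injective) S
  exact ⟨h, hh, fun x hx => heq ▸ ⟨_, H ⟨x, hTX hx⟩ hx, rfl⟩⟩

theorem W_inf_le {a : Fin 64} {F : List (Fin 64)} {b : Fin 64} (t : Triple a F b) :
    d.W ⊓ centralizer ({d.co.el a} : Set G) ≤ θ (d.co.el a) := by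
  haveI : Fact (Nat.Prime 2) := ⟨Nat.prime_two⟩
  set H := centralizer ({d.co.el a} : Set G) with hH
  have hRH : d.centP a ≤ H := inf_le_right
  obtain ⟨S, hS⟩ := ((d.P.isPGroup'.to_le inf_le_left : IsPGroup 2 (d.centP a)).comap_of_injective H.subtype
    H.subtype_injective).exists_le_sylow
  have hSeq : (S : Subgroup H) = (d.centP a).subgroupOf H := by
    refine le_antisymm (fun x hx => ?_) hS
    have heq := centP_max hk t (S.isPGroup'.map H.subtype) (map_subtype_le _) fun y hy => ⟨⟨y, hRH hy⟩, hS hy, rfl⟩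
    rw [mem_subgroupOf, heq]
    exact ⟨x, hx, rfl⟩
  set Fs := (d.sub F t.okF).subgroupOf H
  have hFC : d.sub F t.okF ≤ d.centP a := by
    rintro _ ⟨n, hn, rfl⟩
    exact el_mem_centP (t.comF n hn)
  have hmem : ∀ n, d.co.el n ∈ d.sub F t.okF ↔ n ∈ F := fun n =>
    ⟨fun ⟨m, hm, e⟩ => d.co.inj e ▸ hm, fun h => ⟨n, h, rfl⟩⟩
  have key : (d.W ⊓ H).subgroupOf H ≤ Cfsg.pPrimeCore 2 ↥H := by
    refine le_core_of_index_two (M := d.M.subgroupOf H) S (F := Fs) ?_ ?_ ?_ ?_ (a := ⟨d.co.el a, el_mem_cent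
      (t.comF a t.aF)⟩) ?_ ?_ ?_ ?_ (y := ⟨d.co.el 10, el_mem_cent (t.comF 10 t.tenF)⟩) ?_ ?_ ?_ ?_ ?_ ?_ ?_
    · intro x hx
      rw [hSeq] at hx
      exact P_le_M hk (mem_subgroupOf.1 hx).1
    · rw [hSeq]
      exact fun x hx => hFC hx
    · rw [hSeq, Subgroup.relIndex_subgroupOf hRH]
      have h1 := ((d.sub F t.okF).subgroupOf (d.centP a)).card_mul_index
      rw [Nat.card_congr (Subgroup.subgroupOfEquivOfLe hFC).toEquiv, card_sub t.ndF, t.lenF, centP, card_centP,
        t.centA] at h1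
      show ((d.sub F t.okF).subgroupOf (d.centP a)).index = 2
      change 8 * ((d.sub F t.okF).subgroupOf (d.centP a)).index = 16 at h1
      omega
    · intro s hs g hg
      rw [hSeq] at hs hg
      obtain ⟨n, hn, hne⟩ := mem_centP (mem_subgroupOf.1 hs)
      obtain ⟨m, hm, hme⟩ := mem_centP (mem_subgroupOf.1 hg)
      have hga : (g : G) * d.co.el a * (g : G)⁻¹ = d.co.el a := by
        rw [mem_centralizer_singleton_iff.1 g.2]; group
      have hme' : d.co.el m = (g : G) * d.co.el n * (g : G)⁻¹ := by rw [hme, hne]; rfl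
      have hsq : mulI m m = 0 ↔ mulI n n = 0 := by
        rw [← d.co.el_eq_one, ← d.co.el_eq_one, ← d.co.mul, ← d.co.mul, hme',
          show (g : G) * d.co.el n * (g : G)⁻¹ * ((g : G) * d.co.el n * (g : G)⁻¹) =
            (g : G) * (d.co.el n * d.co.el n) * (g : G)⁻¹ by group, conj_eq_one_iff]
      have h0 : m = 0 ↔ n = 0 := by rw [← d.co.el_eq_one, ← d.co.el_eq_one, hme', conj_eq_one_iff]
      have ha : m = a ↔ n = a := by
        rw [← d.co.inj.eq_iff, ← d.co.inj.eq_iff (a := n), hme']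
        nth_rewrite 1 [← hga]
        rw [mul_left_inj, mul_right_inj]
      have hz : m ∈ zList ↔ n ∈ zList := by
        rw [← Z_el hk, ← Z_el hk]
        have hc : IsConj (d.co.el n) (d.co.el m) := _root_.isConj_iff.2 ⟨g, hme'.symm⟩
        exact ⟨fun e => hc.trans e, fun e => hc.symm.trans e⟩
      have haz : mulI a m ∈ zList ↔ mulI a n ∈ zList := by
        rw [← Z_el hk, ← Z_el hk]
        have hc : IsConj (d.co.el (mulI a n)) (d.co.el (mulI a m)) := _root_.isConj_iff.2 ⟨g, by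
          rw [← d.co.mul, ← d.co.mul, hme']
          nth_rewrite 2 [← hga]
          group⟩
        exact ⟨fun e => hc.trans e, fun e => hc.symm.trans e⟩
      show (g * s * g⁻¹ : ↥H).1 ∈ d.sub F t.okF ↔ (s : G) ∈ d.sub F t.okF
      rw [← hne, show (g * s * g⁻¹ : ↥H).1 = d.co.el m from hme.symm, hmem, hmem, t.memF m hm, t.memF n hn, hsq, h0, ha,
        hz, haz]
    · exact mem_subgroupOf.2 ((hmem a).2 t.aF)
    · rw [← Subgroup.orderOf_coe]
      exact d.co.orderOf_el t.a2 t.a0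
    · exact fun h => Subtype.ext (mem_centralizer_singleton_iff.1 h.2)
    · intro x hx
      obtain ⟨n, hn, hne⟩ := mem_subgroupOf.1 hx
      exact Subtype.ext (by
        show (x : G) * x = 1
        rw [← hne, d.co.mul, ((subOk_iff t.okF).2 n hn).2.1, d.co.el_zero])
    · exact mem_subgroupOf.2 ((hmem 10).2 t.tenF)
    · exact fun e => absurd (d.co.el_eq_one.1 (congrArg Subtype.val e)) (by decide)
    · exact fun e => t.aZ (d.co.inj (congrArg Subtype.val e) ▸ by decide)
    · intro g x hx hx1 hxa hgx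
      obtain ⟨n, hn, hne⟩ := mem_subgroupOf.1 hx
      have hn0 : n ≠ 0 := fun e => hx1 (Subtype.ext (by rw [← hne, e, d.co.el_zero]; rfl))
      have hna : n ≠ a := fun e => hxa (Subtype.ext (by rw [← hne, e]))
      have hgx' : (g : G) * d.co.el n * (g : G)⁻¹ ∈ d.M := hne ▸ mem_subgroupOf.1 hgx
      have hga : (g : G) * d.co.el a = d.co.el a * g := mem_centralizer_singleton_iff.1 g.2
      obtain ⟨n', hn', hn'M⟩ : ∃ n', n' ∈ zList ∧ (g : G) * d.co.el n' * (g : G)⁻¹ ∈ d.M := by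
        rcases ((t.memF n (t.comF n hn)).1 hn).2 with h | h | h | h
        · exact absurd h hn0
        · exact absurd h hna
        · exact ⟨n, h, hgx'⟩
        · refine ⟨mulI a n, h, ?_⟩
          have := d.M.mul_mem (P_le_M hk (d.co.mem_el a)) hgx'
          rwa [← mul_assoc, ← mul_assoc, ← hga, mul_assoc (g : G), d.co.mul] at this
      obtain ⟨m, hm, hme⟩ := exists_M_conj hk hn'
      have := mem_M_of_conj hk (g := (g : G) * m) (by
        rw [show (g : G) * m * d.co.el 10 * ((g : G) * m)⁻¹ = (g : G) * (m * d.co.el 10 * m⁻¹) * (g : G)⁻¹ by group,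
          ← hme]
        exact hn'M)
      exact mem_subgroupOf.2 (by simpa using d.M.mul_mem this (d.M.inv_mem hm))
    · exact fun x hx => mem_subgroupOf.2 (le_normalizer (mem_subgroupOf.1 hx).1)
    · intro g hg
      refine mem_normalizer_fintype fun x hx => ?_
      obtain ⟨h1, h2⟩ := mem_subgroupOf.1 hx
      exact mem_subgroupOf.2 ⟨(mem_normalizer_iff.1 (mem_subgroupOf.1 hg) _).1 h1, (g * x * g⁻¹).2⟩
    · rw [Nat.card_congr (Subgroup.subgroupOfEquivOfLe (inf_le_right : d.W ⊓ H ≤ H)).toEquiv]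
      exact (W_odd hk).of_dvd_nat (Subgroup.card_dvd_of_le inf_le_left)
  intro x hx
  exact ⟨⟨x, hx.2⟩, key (mem_subgroupOf.2 hx), rfl⟩

theorem θ_le_W {a : Fin 64} {F : List (Fin 64)} {b : Fin 64} (t : Triple a F b) : θ (d.co.el a) ≤ d.W := by
  haveI : Fact (Nat.Prime 2) := ⟨Nat.prime_two⟩
  set B := d.sub (pureF F) t.okP
  haveI : IsMulCommutative B := ⟨⟨fun x y => Subtype.ext (sub_comm x.2 y.2)⟩⟩
  have hcB : Nat.card B = 4 := by rw [card_sub t.ndP, t.lenP]
  have hB : ¬ IsCyclic B := fun hc => by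
    obtain ⟨⟨_, n, hn, rfl⟩, hgen⟩ := hc.exists_ofOrder_eq_natCard
    rw [hcB] at hgen
    have h2 : (⟨d.co.el n, n, hn, rfl⟩ : ↥B) ^ 2 = 1 := Subtype.ext (by
      show d.co.el n ^ 2 = 1
      rw [pow_two, d.co.mul, ((subOk_iff t.okP).2 n hn).2.1, d.co.el_zero])
    have := orderOf_dvd_of_pow_eq_one h2
    rw [hgen] at this
    exact absurd this (by norm_num)
  have hnorm : d.sub F t.okF ≤ normalizer (θ (d.co.el a) : Set G) := by
    rintro _ ⟨n, hn, rfl⟩
    refine mem_normalizer_fintype fun x hx => ?_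
    have h1 := θ_conj (g := d.co.el n) hx
    rwa [d.co.com_iff.1 (t.comF n hn), mul_inv_cancel_right] at h1
  have hBn : B ≤ normalizer (θ (d.co.el a) : Set G) :=
    fun _ ⟨n, hn, e⟩ => hnorm ⟨n, (t.subP n hn).2, e⟩
  have hcop : (Nat.card B).Coprime (Nat.card ↥(θ (d.co.el a))) := by
    rw [hcB]; exact (Nat.Coprime.pow_left 2 (θ_odd (d.co.el a)).coprime_two_left : Nat.Coprime (2 ^ 2) _)
  refine (Grp.generated_by_centralizers B (θ (d.co.el a)) hB hBn hcop).ge.trans (iSup₂_le fun v hv => ?_)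
  obtain ⟨⟨n, hn, rfl⟩, hv1⟩ := hv
  have hn0 : n ≠ 0 := fun e => hv1 (by rw [e, d.co.el_zero])
  obtain ⟨hnI, hnF⟩ := t.subP n hn
  refine le_trans ?_ ((W_inf hk (Or.inl rfl) hnI hn0).ge.trans inf_le_left)
  refine odd_le_θ hk ((eight_data hk).1 n hnI hn0) (A := d.sub F t.okF) sub_pgroup
    (fun x hx y hy => sub_comm hx hy) (by rw [card_sub t.ndF, t.lenF])
    (fun x hx => mem_centralizer_singleton_iff.2 (sub_comm hx ⟨n, hnF, rfl⟩)) inf_le_right
    ((θ_odd _).of_dvd_nat (Subgroup.card_dvd_of_le inf_le_left)) fun x hx => ?_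
  refine mem_normalizer_fintype fun y hy => ⟨(mem_normalizer_iff.1 (hnorm hx) y).1 hy.1,
    mem_centralizer_singleton_iff.2 ?_⟩
  have h1 := mem_centralizer_singleton_iff.1 hy.2
  have h2 : x * d.co.el n * x⁻¹ = d.co.el n := by rw [sub_comm hx ⟨n, hnF, rfl⟩, mul_inv_cancel_right]
  calc x * y * x⁻¹ * d.co.el n = x * y * x⁻¹ * (x * d.co.el n * x⁻¹) := by rw [h2]
    _ = x * (y * d.co.el n) * x⁻¹ := by group
    _ = x * (d.co.el n * y) * x⁻¹ := by rw [h1]
    _ = x * d.co.el n * x⁻¹ * (x * y * x⁻¹) := by group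
    _ = _ := by rw [h2]

/-- The closure meets the centraliser of every non-central involution in its core. -/
theorem W_inf_nonZ {n : Fin 64} (h2 : mulI n n = 0) (h0 : n ≠ 0) (hz : n ∉ zList) :
    d.W ⊓ centralizer ({d.co.el n} : Set G) = θ (d.co.el n) := by
  obtain ⟨h, a, F, b, t, hc⟩ := exists_triple h2 h0 hz
  have he : d.W ⊓ centralizer ({d.co.el a} : Set G) = θ (d.co.el a) :=
    le_antisymm (W_inf_le hk t) (le_inf (θ_le_W hk t) (θ_le _))
  have hP : d.co.el h ∈ d.M := P_le_M hk (d.co.mem_el h)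
  have hcon : d.co.el a = d.co.el h * d.co.el n * (d.co.el h)⁻¹ := by rw [← hc, d.co.el_conj]
  have hiff : ∀ x, x ∈ d.W ↔ d.co.el h * x * (d.co.el h)⁻¹ ∈ d.W := fun x => mem_normalizer_iff.1 hP x
  refine le_antisymm (fun x hx => ?_) (fun x hx => ⟨?_, θ_le _ hx⟩)
  · have h1 : d.co.el h * x * (d.co.el h)⁻¹ ∈ θ (d.co.el a) := he ▸ ⟨(hiff x).1 hx.1,
      mem_centralizer_singleton_iff.2 (by
        have := mem_centralizer_singleton_iff.1 hx.2
        rw [hcon]
        calc d.co.el h * x * (d.co.el h)⁻¹ * (d.co.el h * d.co.el n * (d.co.el h)⁻¹) =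
            d.co.el h * (x * d.co.el n) * (d.co.el h)⁻¹ := by group
          _ = d.co.el h * (d.co.el n * x) * (d.co.el h)⁻¹ := by rw [this]
          _ = _ := by group)⟩
    have h3 := θ_conj (g := (d.co.el h)⁻¹) h1
    rw [hcon] at h3
    simpa [mul_assoc] using h3
  · refine (hiff x).2 ?_
    have h1 := θ_conj (g := d.co.el h) hx
    rw [← hcon, ← he] at h1
    exact h1.1

/-- The centraliser of a four group `⟨a, b⟩` lies in `M`. -/
theorem cent_pair_le {a : Fin 64} {F : List (Fin 64)} {b : Fin 64} (t : Triple a F b) {x : G}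
    (hxa : x * d.co.el a = d.co.el a * x) (hxb : x * d.co.el b = d.co.el b * x) : x ∈ d.M := by
  haveI : Fact (Nat.Prime 2) := ⟨Nat.prime_two⟩
  set B := d.sub [0, a, b, mulI a b] t.okQ
  haveI : IsMulCommutative B := ⟨⟨fun x y => Subtype.ext (sub_comm x.2 y.2)⟩⟩
  have hcB : Nat.card B = 4 := by rw [card_sub t.ndQ]; rfl
  have hB : ¬ IsCyclic B := fun hc => by
    obtain ⟨⟨_, n, hn, rfl⟩, hgen⟩ := hc.exists_ofOrder_eq_natCard
    rw [hcB] at hgen
    have h2 : (⟨d.co.el n, n, hn, rfl⟩ : ↥B) ^ 2 = 1 := Subtype.ext (by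
      show d.co.el n ^ 2 = 1
      rw [pow_two, d.co.mul, ((subOk_iff t.okQ).2 n hn).2.1, d.co.el_zero])
    have := orderOf_dvd_of_pow_eq_one h2
    rw [hgen] at this
    exact absurd this (by norm_num)
  have hBn : B ≤ normalizer (d.W : Set G) := fun _ ⟨n, _, e⟩ => e ▸ P_le_M hk (d.co.mem_el n)
  have hgen := Grp.generated_by_centralizers B d.W hB hBn
    (by rw [hcB]; exact (Nat.Coprime.pow_left 2 (W_odd hk).coprime_two_left : Nat.Coprime (2 ^ 2) _))
  have hcom : ∀ n ∈ [0, a, b, mulI a b], x * d.co.el n = d.co.el n * x := by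
    intro n hn
    simp only [List.mem_cons, List.not_mem_nil, or_false] at hn
    rcases hn with rfl | rfl | rfl | rfl
    · rw [d.co.el_zero, mul_one, one_mul]
    · exact hxa
    · exact hxb
    · rw [← d.co.mul, ← mul_assoc, hxa, mul_assoc, hxb, ← mul_assoc]
  have hle : d.W.map (MulAut.conj x).toMonoidHom ≤ d.W := by
    nth_rewrite 1 [← hgen]
    rw [map_le_iff_le_comap]
    refine iSup₂_le fun v hv y hy => ?_
    obtain ⟨⟨n, hn, rfl⟩, hv1⟩ := hv
    have hn0 : n ≠ 0 := fun e => hv1 (by rw [e, d.co.el_zero])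
    have hinfo : mulI n n = 0 ∧ n ∉ zList := by
      simp only [List.mem_cons, List.not_mem_nil, or_false] at hn
      rcases hn with rfl | rfl | rfl | rfl
      · exact absurd rfl hn0
      exacts [⟨t.a2, t.aZ⟩, ⟨t.b2, t.bZ⟩, ⟨t.ab2, t.abZ⟩]
    have he := W_inf_nonZ hk hinfo.1 hn0 hinfo.2
    rw [he] at hy
    have h1 := θ_conj (g := x) hy
    rw [hcom n hn, mul_inv_cancel_right, ← he] at h1
    exact h1.1
  exact mem_normalizer_fintype fun y hy => hle ⟨y, hy, rfl⟩

/-- The centraliser of a non-central involution lies in `M`. -/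
theorem cent_triple_le {a : Fin 64} {F : List (Fin 64)} {b : Fin 64} (t : Triple a F b) :
    centralizer ({d.co.el a} : Set G) ≤ d.M := by
  intro g hg
  by_contra hgM
  have hga : g * d.co.el a = d.co.el a * g := mem_centralizer_singleton_iff.1 hg
  set z := d.co.el 10 with hz
  set bb := d.co.el b with hbb
  set aa := d.co.el a with haa
  set y := g * z * g⁻¹ with hy
  have hza : z * aa = aa * z := d.co.com_iff.1 (t.comF 10 t.tenF)
  have hya : y * aa = aa * y := by
    have h1 : g⁻¹ * aa = aa * g⁻¹ := by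
      calc g⁻¹ * aa = g⁻¹ * (aa * g) * g⁻¹ := by group
        _ = g⁻¹ * (g * aa) * g⁻¹ := by rw [hga]
        _ = _ := by group
    calc y * aa = g * z * (g⁻¹ * aa) := by rw [hy]; group
      _ = g * (z * aa) * g⁻¹ := by rw [h1]; group
      _ = g * aa * z * g⁻¹ := by rw [hza]; group
      _ = aa * y := by rw [hga, hy]; group
  have hyM : y ∉ d.M := fun h => hgM (mem_M_of_conj hk h)
  have hzy : IsConj z y := _root_.isConj_iff.2 ⟨g, rfl⟩
  have hz2 : z * z = 1 := by rw [hz, d.co.mul, show mulI 10 10 = 0 from rfl, d.co.el_zero]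
  have hy2 : y * y = 1 := by
    rw [hy, show g * z * g⁻¹ * (g * z * g⁻¹) = g * (z * z) * g⁻¹ by group, hz2]; group
  have hb2 : bb * bb = 1 := by rw [hbb, d.co.mul, t.b2, d.co.el_zero]
  have hba : bb * aa = aa * bb := d.co.com_iff.1 t.bA
  set q := bb * y with hq
  have hqa : Commute q aa := Commute.mul_left hba hya
  have hbq : bb * q = y := by rw [hq, ← mul_assoc, hb2, one_mul]
  have hbqb : ∀ j : ℕ, bb * q ^ j = (q ^ j)⁻¹ * bb := by
    intro j
    induction j with
    | zero => simp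
    | succ j ih =>
      have h1 : bb * q = q⁻¹ * bb := by
        rw [hbq, hq, mul_inv_rev, inv_eq_of_mul_eq_one_right hb2, inv_eq_of_mul_eq_one_right hy2, mul_assoc, hb2, mul_one]
      calc bb * q ^ (j + 1) = bb * q ^ j * q := by rw [pow_succ]; group
        _ = (q ^ j)⁻¹ * (bb * q) := by rw [ih]; group
        _ = (q ^ j)⁻¹ * (q⁻¹ * bb) := by rw [h1]
        _ = (q ^ (j + 1))⁻¹ * bb := by rw [pow_succ']; group
  have hconjpow : ∀ k : ℕ, IsConj (bb * q) (bb * q ^ (2 * k + 1)) := fun k => _root_.isConj_iff.2 ⟨(q ^ k)⁻¹, by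
    rw [inv_inv]
    calc (q ^ k)⁻¹ * (bb * q) * q ^ k = (q ^ k)⁻¹ * bb * (q * q ^ k) := by group
      _ = bb * q ^ k * (q * q ^ k) := by rw [hbqb]
      _ = bb * q ^ (2 * k + 1) := by rw [mul_assoc, ← pow_succ', ← pow_add]; congr 2; ring⟩
  have hyb : ¬ IsConj y bb := fun h => t.bZ ((Z_el hk).1 (h.symm.trans hzy.symm))
  obtain ⟨m, hm⟩ : Even (orderOf q) := by
    by_contra hne
    obtain ⟨k, hk'⟩ := Nat.not_even_iff_odd.1 hne
    refine hyb ?_
    have h1 := hconjpow k
    rwa [hbq, ← hk', pow_orderOf_eq_one, mul_one] at h1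
  have hm0 : 0 < m := by have := orderOf_pos q; omega
  set c := q ^ m with hc
  have hc2 : c * c = 1 := by rw [hc, ← pow_add, ← hm, pow_orderOf_eq_one]
  have hc1 : c ≠ 1 := fun e => by
    have := Nat.le_of_dvd hm0 (orderOf_dvd_of_pow_eq_one e); omega
  have hcb : c * bb = bb * c := by
    rw [hc, hbqb m, ← hc, inv_eq_of_mul_eq_one_right hc2]
  have hcy : c * y = y * c := by
    rw [← hbq, ← mul_assoc, hcb, mul_assoc, mul_assoc, hc, ← pow_succ', ← pow_succ]
  have hca : c * aa = aa * c := (hqa.pow_left m).eq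
  have hcM : c ∈ d.M := cent_pair_le hk t hca hcb
  have haM : aa ∈ d.M := P_le_M hk (d.co.mem_el a)
  by_cases hc_z : IsConj z c
  · exact hyM (cent_le_M hk hcM hc_z (mem_centralizer_singleton_iff.2 hcy.symm))
  by_cases hac_z : IsConj z (aa * c)
  · refine hyM (cent_le_M hk (d.M.mul_mem haM hcM) hac_z (mem_centralizer_singleton_iff.2 ?_))
    rw [← mul_assoc, hya, mul_assoc, ← hcy, mul_assoc]
  by_cases hceq : c = aa
  · rcases Nat.even_or_odd m with ⟨k, hk'⟩ | ⟨k, hk'⟩
    · set w := q ^ k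
      have hw2 : w * w = aa := by rw [← hceq, hc, hk', pow_add]
      have hwp : IsPGroup 2 (Subgroup.zpowers w) := by
        obtain ⟨i, -, hi⟩ := (Nat.dvd_prime_pow Nat.prime_two).1 (orderOf_dvd_of_pow_eq_one
          (show w ^ 2 ^ 2 = 1 by
            rw [show (2 : ℕ) ^ 2 = 2 * 2 from rfl, pow_mul, pow_two, pow_two, hw2, ← hceq, hc2]))
        exact Invol.isPGroup_zpowers hi
      obtain ⟨h, hh, hh'⟩ := exists_into_centP hk t (X := centralizer ({aa} : Set G)) le_rfl inf_le_right hwp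
        (zpowers_le.2 (mem_centralizer_singleton_iff.2 (hqa.pow_left k).eq))
      obtain ⟨n, hn, hne⟩ := mem_centP (hh' w (mem_zpowers w))
      have h1 : d.co.el (mulI n n) = aa := by
        rw [← d.co.mul, hne, show h * w * h⁻¹ * (h * w * h⁻¹) = h * (w * w) * h⁻¹ by group, hw2,
          mem_centralizer_singleton_iff.1 hh]
        group
      rcases t.sq n hn with e | e <;> rw [e] at h1
      · exact t.a0 (d.co.inj h1).symm
      · exact t.aZ ((d.co.inj h1) ▸ by decide)
    · refine t.abZ ((Z_el hk).1 ?_)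
      have h1 := hconjpow k
      rw [hbq, ← hk', ← hc, hceq] at h1
      rw [← d.co.mul, ← d.co.com_iff.1 t.bA]
      exact h1.symm.trans hzy.symm
  -- the remaining involutions are conjugate to `b` or `a b`
  set X := centralizer ({aa} : Set G) ⊓ d.M with hX
  obtain ⟨h, hh, hh'⟩ := exists_into_centP hk t (X := X) inf_le_left
    (le_inf inf_le_right fun x hx => P_le_M hk hx.1) (T := Subgroup.zpowers c)
    (Invol.isPGroup_zpowers (n := 1) (by rw [pow_one]; exact orderOf_eq_prime (by rw [pow_two, hc2]) hc1))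
    (zpowers_le.2 ⟨mem_centralizer_singleton_iff.2 hca, hcM⟩)
  obtain ⟨n, hn, hne⟩ := mem_centP (hh' c (mem_zpowers c))
  have hha : h * aa = aa * h := mem_centralizer_singleton_iff.1 hh.1
  have hn2 : mulI n n = 0 := d.co.sq_zero (by
    rw [hne, show h * c * h⁻¹ * (h * c * h⁻¹) = h * (c * c) * h⁻¹ by group, hc2]; group)
  have hn0 : n ≠ 0 := fun e => hc1 (by rwa [e, d.co.el_zero, eq_comm, conj_eq_one_iff] at hne)
  have hna : n ≠ a := fun e => hceq (by
    rw [e, ← haa] at hne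
    calc c = h⁻¹ * (h * c * h⁻¹) * h := by group
      _ = h⁻¹ * (aa * h) := by rw [← hne]; group
      _ = aa := by rw [← hha]; group)
  have hnz : n ∉ zList := fun e => hc_z (((Z_el hk).2 e).symm.trans
    ((_root_.isConj_iff.2 ⟨h, hne.symm⟩ : IsConj c (d.co.el n)).symm))
  have hanz : mulI a n ∉ zList := fun e => hac_z (((Z_el hk).2 e).symm.trans
    ((_root_.isConj_iff.2 ⟨h, by
      rw [← d.co.mul, hne, ← haa]
      calc h * (aa * c) * h⁻¹ = h * aa * c * h⁻¹ := by group
        _ = aa * (h * c * h⁻¹) := by rw [hha]; group⟩ : IsConj (aa * c) (d.co.el (mulI a n))).symm))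
  obtain ⟨r, hra, hrn⟩ := t.outer n hn hn2 hn0 hna hnz hanz
  set k := d.co.el r * h with hk'
  have hkM : k ∈ d.M := d.M.mul_mem (P_le_M hk (d.co.mem_el r)) hh.2
  have hka : k * aa = aa * k := by
    rw [hk', mul_assoc, hha, ← mul_assoc, d.co.com_iff.1 hra, mul_assoc]
  set y' := k * y * k⁻¹ with hy'
  have hy'a : y' * aa = aa * y' := by
    have h1 : k⁻¹ * aa = aa * k⁻¹ := by
      calc k⁻¹ * aa = k⁻¹ * (aa * k) * k⁻¹ := by group
        _ = k⁻¹ * (k * aa) * k⁻¹ := by rw [hka]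
        _ = _ := by group
    calc y' * aa = k * y * (k⁻¹ * aa) := by rw [hy']; group
      _ = k * (y * aa) * k⁻¹ := by rw [h1]; group
      _ = k * aa * y * k⁻¹ := by rw [hya]; group
      _ = aa * y' := by rw [hka, hy']; group
  have hy'c : y' * d.co.el (conjI r n) = d.co.el (conjI r n) * y' := by
    rw [d.co.el_conj, hne, hy', hk']
    calc _ = d.co.el r * h * (y * c) * (d.co.el r * h)⁻¹ := by group
      _ = d.co.el r * h * (c * y) * (d.co.el r * h)⁻¹ := by rw [hcy]
      _ = _ := by group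
  have hy'b : y' * bb = bb * y' := by
    rcases hrn with e | e <;> rw [e] at hy'c
    · exact hy'c
    · have h2 : bb = aa * d.co.el (mulI a b) := by
        rw [← d.co.mul, ← mul_assoc, ← haa, d.co.mul a a, t.a2, d.co.el_zero, one_mul]
      rw [h2, ← mul_assoc, hy'a, mul_assoc, hy'c, mul_assoc]
  have := d.M.mul_mem (d.M.mul_mem (d.M.inv_mem hkM) (cent_pair_le hk t hy'a hy'b)) hkM
  exact hyM (by simpa [hy', mul_assoc] using this)

/-- The centraliser of every involution of the Sylow subgroup lies in `M`. -/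
theorem cent_inv_le {n : Fin 64} (h2 : mulI n n = 0) (h0 : n ≠ 0) :
    centralizer ({d.co.el n} : Set G) ≤ d.M := by
  by_cases hz : n ∈ zList
  · exact cent_le_M hk (P_le_M hk (d.co.mem_el n)) ((Z_el hk).2 hz).symm
  obtain ⟨h, a, F, b, t, hc⟩ := exists_triple h2 h0 hz
  intro x hx
  have hP : d.co.el h ∈ d.M := P_le_M hk (d.co.mem_el h)
  have h1 : d.co.el h * x * (d.co.el h)⁻¹ ∈ d.M := cent_triple_le hk t (mem_centralizer_singleton_iff.2 (by
    have := mem_centralizer_singleton_iff.1 hx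
    rw [← hc, d.co.el_conj]
    calc d.co.el h * x * (d.co.el h)⁻¹ * (d.co.el h * d.co.el n * (d.co.el h)⁻¹) =
        d.co.el h * (x * d.co.el n) * (d.co.el h)⁻¹ := by group
      _ = d.co.el h * (d.co.el n * x) * (d.co.el h)⁻¹ := by rw [this]
      _ = _ := by group))
  simpa [mul_assoc] using d.M.mul_mem (d.M.mul_mem (d.M.inv_mem hP) h1) hP

theorem M_eq_top : d.M = ⊤ := by
  haveI : Fact (Nat.Prime 2) := ⟨Nat.prime_two⟩
  haveI := d.simple
  set z := d.co.el 10 with hz
  set s := d.co.el 32 with hs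
  have hz2 : z * z = 1 := by rw [hz, d.co.mul, show mulI 10 10 = 0 from rfl, d.co.el_zero]
  have hconj : ∀ g : G, g * s * g⁻¹ ∈ d.M := by
    intro g
    set y := g * s * g⁻¹ with hy
    have hy2 : y * y = 1 := by
      rw [hy, show g * s * g⁻¹ * (g * s * g⁻¹) = g * (s * s) * g⁻¹ by group, hs, d.co.mul,
        show mulI 32 32 = 0 from rfl, d.co.el_zero]
      group
    set q := z * y with hq
    have hzq : z * q = y := by rw [hq, ← mul_assoc, hz2, one_mul]
    have hzqz : ∀ j : ℕ, z * q ^ j = (q ^ j)⁻¹ * z := by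
      intro j
      induction j with
      | zero => simp
      | succ j ih =>
        have h1 : z * q = q⁻¹ * z := by
          rw [hzq, hq, mul_inv_rev, inv_eq_of_mul_eq_one_right hz2, inv_eq_of_mul_eq_one_right hy2, mul_assoc, hz2,
            mul_one]
        calc z * q ^ (j + 1) = z * q ^ j * q := by rw [pow_succ]; group
          _ = (q ^ j)⁻¹ * (z * q) := by rw [ih]; group
          _ = (q ^ j)⁻¹ * (q⁻¹ * z) := by rw [h1]
          _ = (q ^ (j + 1))⁻¹ * z := by rw [pow_succ']; group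
    have hys : IsConj y s := (_root_.isConj_iff.2 ⟨g, rfl⟩ : IsConj s y).symm
    obtain ⟨m, hm⟩ : Even (orderOf q) := by
      by_contra hne
      obtain ⟨k, hk'⟩ := Nat.not_even_iff_odd.1 hne
      refine d.s_not (hys.symm.trans ?_)
      show IsConj y z
      refine _root_.isConj_iff.2 ⟨(q ^ k)⁻¹, ?_⟩
      rw [inv_inv]
      calc (q ^ k)⁻¹ * y * q ^ k = (q ^ k)⁻¹ * z * (q * q ^ k) := by rw [← hzq]; group
        _ = z * q ^ k * (q * q ^ k) := by rw [hzqz]
        _ = z * q ^ (2 * k + 1) := by rw [mul_assoc, ← pow_succ', ← pow_add]; congr 2; ring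
        _ = z := by rw [← hk', pow_orderOf_eq_one, mul_one]
    have hm0 : 0 < m := by have := orderOf_pos q; omega
    set c := q ^ m with hc
    have hc2 : c * c = 1 := by rw [hc, ← pow_add, ← hm, pow_orderOf_eq_one]
    have hc1 : c ≠ 1 := fun e => by have := Nat.le_of_dvd hm0 (orderOf_dvd_of_pow_eq_one e); omega
    have hcz : c * z = z * c := by rw [hc, hzqz m, ← hc, inv_eq_of_mul_eq_one_right hc2]
    have hcy : c * y = y * c := by
      rw [← hzq, ← mul_assoc, hcz, mul_assoc, mul_assoc, hc, ← pow_succ', ← pow_succ]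
    have hcM : c ∈ d.M := C_le_M hk (mem_C.2 hcz)
    obtain ⟨h, hh, hh'⟩ := exists_into_M hk (R := Subgroup.zpowers c)
      (Invol.isPGroup_zpowers (n := 1) (by rw [pow_one]; exact orderOf_eq_prime (by rw [pow_two, hc2]) hc1))
      (zpowers_le.2 hcM)
    obtain ⟨n, hn⟩ := (d.co.mem _).1 (hh' c (mem_zpowers c))
    have hn2 : mulI n n = 0 := d.co.sq_zero (by
      rw [hn, show h * c * h⁻¹ * (h * c * h⁻¹) = h * (c * c) * h⁻¹ by group, hc2]; group)
    have hn0 : n ≠ 0 := fun e => hc1 (by rwa [e, d.co.el_zero, eq_comm, conj_eq_one_iff] at hn)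
    have h1 : h * y * h⁻¹ ∈ d.M := cent_inv_le hk hn2 hn0 (mem_centralizer_singleton_iff.2 (by
      rw [hn]
      calc h * y * h⁻¹ * (h * c * h⁻¹) = h * (y * c) * h⁻¹ := by group
        _ = h * (c * y) * h⁻¹ := by rw [hcy]
        _ = _ := by group))
    simpa [mul_assoc] using d.M.mul_mem (d.M.mul_mem (d.M.inv_mem hh) h1) hh
  have hle : Subgroup.normalClosure ({s} : Set G) ≤ d.M := by
    refine Subgroup.closure_le _ |>.2 ?_
    intro x hx
    obtain ⟨_, rfl, hc⟩ := Group.mem_conjugatesOfSet_iff.1 hx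
    obtain ⟨g, rfl⟩ := _root_.isConj_iff.1 hc
    exact hconj g
  rcases IsSimpleGroup.eq_bot_or_eq_top_of_normal (Subgroup.normalClosure ({s} : Set G))
    Subgroup.normalClosure_normal with e | e
  · have : s ∈ Subgroup.normalClosure ({s} : Set G) := Subgroup.subset_normalClosure rfl
    rw [e, mem_bot, hs, d.co.el_eq_one] at this
    exact absurd this (by decide)
  · exact top_unique (e ▸ hle)

theorem W_eq_bot : d.W = ⊥ := by
  haveI := d.simple
  rcases IsSimpleGroup.eq_bot_or_eq_top_of_normal d.W (normalizer_eq_top_iff.1 (M_eq_top hk)) with e | e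
  · exact e
  · exfalso
    have hW := W_odd hk
    rw [e, Subgroup.card_top] at hW
    refine Nat.not_even_iff_odd.2 hW (even_iff_two_dvd.2 ?_)
    rw [← d.co.orderOf_el (n := 10) (by decide) (by decide)]
    exact orderOf_dvd_natCard _

/-- The centraliser of the central involution has trivial odd core. -/
theorem O_eq_bot : d.O = ⊥ := by
  have h : θ (d.co.el 10) ≤ ⊥ :=
    ((W_inf hk (Or.inl rfl) (n := 10) (by decide) (by decide)).ge.trans inf_le_left).trans (W_eq_bot hk).le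
  refine eq_bot_iff.2 fun x hx => mem_bot.2 (Subtype.ext (mem_bot.1 (h ?_)))
  exact ⟨x, hx, rfl⟩

end WithK

end Setting

end Cfsg.Agent.Invol.TwelveType
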