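import Cfsg.Agent.Lib.Invol.TwelveType.Model

/-! Finite facts about the indexed group of order 64. -/

set_option autoImplicit false
set_option maxRecDepth 100000

namespace Cfsg.Agent.Invol.TwelveType

/-- Representatives of the classes of involutions. -/
def reps : List (Fin 64) := [10, 2, 16, 21, 17, 32, 48]

/-- The `i`-bit. -/
def bitI (n : Fin 64) : Bool := n.val / 16 % 2 == 1

/-- The `s`-bit. -/
def bitS (n : Fin 64) : Bool := n.val / 32 == 1

/-- The sum of both bits. -/
def bitIS (n : Fin 64) : Bool := xor (bitI n) (bitS n)

/-- Exchange the classes of `i` and `x y i`. -/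
def swapI (n : Fin 64) : Fin 64 :=
  let p := n.val / 16 % 2
  ⟨((n.val % 4 + p) % 4 + 4 * ((n.val / 4 % 4 + p) % 4) + 16 * p + 32 * (n.val / 32)) % 64, Nat.mod_lt _ (by norm_num)⟩

/-- The number of indices commuting with `n`. -/
def centCard (n : Fin 64) : ℕ := (List.finRange 64).countP fun c => comI c n

/-- The normal pure eight group. -/
def eightI : List (Fin 64) := [0, 2, 8, 10, 16, 18, 24, 26]

/-- A test on all indices. -/
def t64 (f : Fin 64 → Bool) : Bool := (List.finRange 64).all f

/-- A test on some index. -/
def s64 (f : Fin 64 → Bool) : Bool := (List.finRange 64).any f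

theorem of_t64 {f : Fin 64 → Bool} (h : t64 f = true) (n : Fin 64) : f n = true :=
  List.all_eq_true.1 h n (List.mem_finRange n)

theorem of_s64 {f : Fin 64 → Bool} (h : s64 f = true) : ∃ n, f n = true := by
  obtain ⟨n, -, hn⟩ := List.any_eq_true.1 h
  exact ⟨n, hn⟩

theorem bit_hom : t64 (fun n => t64 fun m => bitI (mulI n m) == xor (bitI n) (bitI m)) = true ∧
    t64 (fun n => t64 fun m => bitS (mulI n m) == xor (bitS n) (bitS m)) = true ∧
    t64 (fun n => t64 fun m => bitIS (mulI n m) == xor (bitIS n) (bitIS m)) = true := by decide +kernel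

theorem swapI_hom : t64 (fun n => t64 fun m => swapI (mulI n m) == mulI (swapI n) (swapI m)) = true ∧
    t64 (fun n => t64 fun m => !(swapI n == swapI m) || n == m) = true ∧
    t64 (fun n => s64 fun m => swapI m == n) = true ∧
    swapI 10 = 10 ∧ swapI 2 = 2 ∧ swapI 32 = 32 ∧ swapI 21 = conjI 5 16 := by decide +kernel

theorem inv_cases : t64 (fun n => !(mulI n n == 0) || n == 0 || s64 fun h => reps.contains (conjI h n)) = true := by
  decide +kernel

theorem cent_cards : centCard 32 = 16 ∧ centCard 48 = 16 ∧ centCard 21 = 16 ∧ centCard 16 = 16 ∧ centCard 17 = 8 ∧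
    centCard 2 = 32 := by decide +kernel

theorem kernel_reps : t64 (fun n => t64 fun h => !(reps.contains (conjI h n)) ||
    ((bitS n || [10, 2, 16, 21, 17].contains (conjI h n)) && (bitIS n || [10, 2, 48].contains (conjI h n)))) = true := by
  decide +kernel

theorem cent_s_reps : t64 (fun n => !(comI n 32) || !(mulI n n == 0) || n == 0 || n == 10 ||
    s64 fun h => [16, 21, 32, 48].contains (conjI h n)) = true := by decide +kernel

theorem bits_vals : bitS 32 = true ∧ bitIS 32 = true := by decide +kernel

theorem small_com : comI 2 21 = true ∧ comI 8 21 = true ∧ conjI 32 8 = 2 := by decide +kernel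

theorem eight_reps : t64 (fun n => t64 fun h => !([10, 2, 16].contains (conjI h n)) || eightI.contains n) = true := by
  decide +kernel

theorem eight_ok : eightI.all (fun a => (eightI.all fun b => eightI.contains (mulI a b) && comI a b) &&
      invI a == a && mulI a a == 0) = true ∧
    eightI.all (fun a => a == 0 || s64 fun h => [10, 2, 16].contains (conjI h a)) = true := by decide +kernel

end Cfsg.Agent.Invol.TwelveType
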