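import Cfsg.Agent.Lib.Invol.TwelveType.Setting
import Cfsg.Agent.Lib.Fus.Goldschmidt.Main

/-! The classes of involutions in the setting. -/

set_option autoImplicit false
set_option linter.style.haveILetI false

namespace Cfsg.Agent.Invol.TwelveType

open Subgroup

universe u

variable {G : Type u} [Group G] [Finite G]

/-- A character on indices. -/
theorem bit_maps : (∀ n m, bitI (mulI n m) = xor (bitI n) (bitI m)) ∧
    (∀ n m, bitS (mulI n m) = xor (bitS n) (bitS m)) ∧ ∀ n m, bitIS (mulI n m) = xor (bitIS n) (bitIS m) :=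
  ⟨fun n m => beq_iff_eq.1 (of_t64 (of_t64 bit_hom.1 n) m), fun n m => beq_iff_eq.1 (of_t64 (of_t64 bit_hom.2.1 n) m),
    fun n m => beq_iff_eq.1 (of_t64 (of_t64 bit_hom.2.2 n) m)⟩

theorem exists_rep {n : Fin 64} (h : mulI n n = 0) (h1 : n ≠ 0) :
    ∃ c, conjI c n ∈ reps := by
  have := of_t64 inv_cases n
  simp only [Bool.or_eq_true, Bool.not_eq_true', beq_eq_false_iff_ne, beq_iff_eq, ne_eq] at this
  rcases this with (h' | h') | h'
  · exact absurd h h'
  · exact absurd h' h1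
  · obtain ⟨c, hc⟩ := of_s64 h'
    exact ⟨c, List.mem_of_elem_eq_true hc⟩

theorem rep_kernel {n h : Fin 64} (hr : conjI h n ∈ reps) :
    (bitS n = false → conjI h n ∈ [10, 2, 16, 21, 17]) ∧ (bitIS n = false → conjI h n ∈ [10, 2, 48]) := by
  have := of_t64 (of_t64 kernel_reps n) h
  simp only [List.contains_iff_mem, Bool.or_eq_true, Bool.and_eq_true, Bool.not_eq_true', decide_eq_false_iff_not,
    decide_eq_true_eq] at this
  rcases this with h' | ⟨h1, h2⟩
  · rw [List.contains_iff_mem.2 hr] at h'; exact absurd h' (by decide)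
  · exact ⟨fun e => h1.resolve_left (by simp [e]), fun e => h2.resolve_left (by simp [e])⟩

/-- Relabel by an automorphism. -/
def Coord.comp {S : Subgroup G} (c : Coord S) : Coord S where
  el n := c.el (swapI n)
  inj a b h := by
    have := of_t64 (of_t64 swapI_hom.2.1 a) b
    simpa [c.inj h] using this
  mul a b := by rw [c.mul, ← beq_iff_eq.1 (of_t64 (of_t64 swapI_hom.1 a) b)]
  mem g := by
    refine (c.mem g).trans ⟨?_, fun ⟨n, hn⟩ => ⟨_, hn⟩⟩
    rintro ⟨n, rfl⟩
    obtain ⟨m, hm⟩ := of_s64 (of_t64 swapI_hom.2.2.1 n)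
    exact ⟨m, by rw [beq_iff_eq.1 hm]⟩

namespace Setting

/-- The labelling may be chosen with `x y i` in the class of `s`. -/
theorem exists_normal (d : Setting G) : ∃ d' : Setting G, IsConj (d'.co.el 32) (d'.co.el 21) := by
  obtain ⟨g, v, hv0, hv, hc⟩ := d.transfer bitS bit_maps.2.1 (u := 32) (by rfl) bits_vals.1
  obtain ⟨m, hm⟩ := d.co.exists_map (s := fun n => comI n 32) hc
  have hv2 : mulI v v = 0 := d.co.sq_zero (by
    rw [hv, show g * d.co.el 32 * g⁻¹ * (g * d.co.el 32 * g⁻¹) = g * (d.co.el 32 * d.co.el 32) * g⁻¹ by group,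
      d.co.mul, show mulI 32 32 = 0 from rfl, d.co.el_zero]; group)
  have hv1 : v ≠ 0 := fun e => by
    rw [e, d.co.el_zero, eq_comm, conj_eq_one_iff, d.co.el_eq_one] at hv
    exact absurd hv (by decide)
  obtain ⟨h, hh⟩ := exists_rep hv2 hv1
  have hconj : IsConj (d.co.el 32) (d.co.el v) := _root_.isConj_iff.2 ⟨g, hv.symm⟩
  set w := conjI h v with hwdef
  have hw : IsConj (d.co.el 32) (d.co.el w) := hconj.trans (d.co.conj_rep h v)
  have hle : centCard 32 ≤ centCard v := (map_facts hv m hm).2.2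
  have hlew : centCard 32 ≤ centCard w := by
    refine hle.trans (le_of_eq ?_)
    have h1 : d.co.el w = d.co.el h * d.co.el v * (d.co.el h)⁻¹ := d.co.el_conj h v
    obtain ⟨m1, hm1⟩ := d.co.exists_map (g := d.co.el h) (s := fun n => comI n v) fun n _ =>
      mul_mem (mul_mem (d.co.mem_el _) (d.co.mem_el _)) (inv_mem (d.co.mem_el _))
    obtain ⟨m2, hm2⟩ := d.co.exists_map (g := (d.co.el h)⁻¹) (s := fun n => comI n w) fun n _ =>
      mul_mem (mul_mem (inv_mem (d.co.mem_el _)) (d.co.mem_el _)) (inv_mem (inv_mem (d.co.mem_el _)))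
    exact le_antisymm (map_facts h1 m1 hm1).2.2 (map_facts (by rw [h1]; group) m2 hm2).2.2
  rcases (by simpa using (rep_kernel hh).1 hv0 : w = 10 ∨ w = 2 ∨ w = 16 ∨ w = 21 ∨ w = 17) with e | e | e | e | e <;>
    rw [e] at hw hlew
  · exact absurd hw d.s_not
  · exact absurd (hw.trans d.z_conj_t) d.s_not
  · refine ⟨{ d with co := d.co.comp, z_conj_t := ?_, s_not := ?_ }, ?_⟩
    · show IsConj (d.co.el (swapI 2)) (d.co.el (swapI 10))
      rw [swapI_hom.2.2.2.1, swapI_hom.2.2.2.2.1]; exact d.z_conj_t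
    · show ¬ IsConj (d.co.el (swapI 32)) (d.co.el (swapI 10))
      rw [swapI_hom.2.2.2.1, swapI_hom.2.2.2.2.2.1]; exact d.s_not
    · show IsConj (d.co.el (swapI 32)) (d.co.el (swapI 21))
      rw [swapI_hom.2.2.2.2.2.1, swapI_hom.2.2.2.2.2.2]
      exact hw.trans (d.co.conj_rep 5 16)
  · exact ⟨d, hw⟩
  · rw [cent_cards.1, cent_cards.2.2.2.2.1] at hlew
    omega

variable {d : Setting G} (hk : IsConj (d.co.el 32) (d.co.el 21))
include hk

theorem not_Z_k : ¬ d.Z 21 := not_Z_of_conj hk d.s_not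

omit hk in
theorem s_conj_is : IsConj (d.co.el 32) (d.co.el 48) := by
  obtain ⟨g, v, hv0, hv, -⟩ := d.transfer bitIS bit_maps.2.2 (u := 32) (by rfl) bits_vals.2
  have hconj : IsConj (d.co.el 32) (d.co.el v) := _root_.isConj_iff.2 ⟨g, hv.symm⟩
  have hv2 : mulI v v = 0 := d.co.sq_zero (by
    rw [hv, show g * d.co.el 32 * g⁻¹ * (g * d.co.el 32 * g⁻¹) = g * (d.co.el 32 * d.co.el 32) * g⁻¹ by group,
      d.co.mul, show mulI 32 32 = 0 from rfl, d.co.el_zero]; group)
  have hv1 : v ≠ 0 := fun e => by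
    rw [e, d.co.el_zero, eq_comm, conj_eq_one_iff, d.co.el_eq_one] at hv
    exact absurd hv (by decide)
  obtain ⟨h, hh⟩ := exists_rep hv2 hv1
  set w := conjI h v with hwdef
  have hw : IsConj (d.co.el 32) (d.co.el w) := hconj.trans (d.co.conj_rep h v)
  rcases (by simpa using (rep_kernel hh).2 hv0 : w = 10 ∨ w = 2 ∨ w = 48) with e | e | e <;> rw [e] at hw
  · exact absurd hw d.s_not
  · exact absurd (hw.trans d.z_conj_t) d.s_not
  · exact hw

omit hk in
theorem not_Z_is : ¬ d.Z 48 := not_Z_of_conj s_conj_is d.s_not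

theorem Z_i : d.Z 16 := by
  by_contra hi
  obtain ⟨g, hg⟩ := _root_.isConj_iff.1 hk
  -- the centraliser of `s` in a Sylow subgroup of its centraliser
  obtain ⟨g', v, hv0, hv, hc⟩ := d.transfer bitS bit_maps.2.1 (u := 32) (by rfl) bits_vals.1
  obtain ⟨m, hm⟩ := d.co.exists_map (s := fun n => comI n 32) hc
  have hnot : ∀ n, comI n 32 = true → d.Z n → n = 10 := fun n hn hz => by
    by_contra hne
    obtain ⟨h2, h1⟩ := Z_inv hz
    have := of_t64 cent_s_reps n
    simp only [hn, h2, Bool.not_true, Bool.false_or, beq_self_eq_true, beq_eq_false_iff_ne.2 h1,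
      beq_eq_false_iff_ne.2 hne] at this
    obtain ⟨c, hc⟩ := of_s64 this
    have hz' := (Z_conj c n).2 hz
    rcases (by simpa using hc : conjI c n = 16 ∨ conjI c n = 21 ∨ conjI c n = 32 ∨ conjI c n = 48) with
      e | e | e | e <;> rw [e] at hz'
    exacts [hi hz', not_Z_k hk hz', d.s_not hz', not_Z_is hz']
  -- the centraliser of the image is as large as possible
  have hv2 : mulI v v = 0 := d.co.sq_zero (by
    rw [hv, show g' * d.co.el 32 * g'⁻¹ * (g' * d.co.el 32 * g'⁻¹) = g' * (d.co.el 32 * d.co.el 32) * g'⁻¹ by group,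
      d.co.mul, show mulI 32 32 = 0 from rfl, d.co.el_zero]; group)
  have hv1 : v ≠ 0 := fun e => by
    rw [e, d.co.el_zero, eq_comm, conj_eq_one_iff, d.co.el_eq_one] at hv
    exact absurd hv (by decide)
  obtain ⟨h, hh⟩ := exists_rep hv2 hv1
  set w := conjI h v with hwdef
  have hwg : d.co.el w = (d.co.el h * g') * d.co.el 32 * (d.co.el h * g')⁻¹ := by
    rw [hwdef, d.co.el_conj, hv]; group
  obtain ⟨m', hm'⟩ := d.co.exists_map (g := d.co.el h * g') (s := fun n => comI n 32) fun n hn => by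
    rw [show d.co.el h * g' * d.co.el n * (d.co.el h * g')⁻¹ =
      d.co.el h * (g' * d.co.el n * g'⁻¹) * (d.co.el h)⁻¹ by group]
    exact mul_mem (mul_mem (d.co.mem_el _) (hc n hn)) (inv_mem (d.co.mem_el _))
  obtain ⟨h1, h2, hle⟩ := map_facts hwg m' hm'
  have hsw : IsConj (d.co.el 32) (d.co.el w) := _root_.isConj_iff.2 ⟨_, hwg.symm⟩
  rcases (by simpa using (rep_kernel hh).1 hv0 : w = 10 ∨ w = 2 ∨ w = 16 ∨ w = 21 ∨ w = 17) with e | e | e | e | e
  · exact d.s_not (e ▸ hsw)
  · exact d.s_not ((e ▸ hsw).trans d.z_conj_t)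
  rotate_left 2
  · rw [e, cent_cards.1, cent_cards.2.2.2.2.1] at hle
    omega
  all_goals
    have hsurj : ∀ p, comI p w = true → ∃ n, comI n 32 = true ∧ m' n = p := by
      intro p hp
      have hcard : ∀ w, centCard w = (Finset.univ.filter fun c => comI c w = true).card := fun w => by
        rw [centCard, List.countP_eq_length_filter, ← List.toFinset_card_of_nodup
          ((List.nodup_finRange 64).filter _), List.toFinset_filter, List.toFinset_finRange]
      have heq : (Finset.univ.filter fun c => comI c (32 : Fin 64) = true).image m' =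
          Finset.univ.filter fun c => comI c w = true := by
        refine Finset.eq_of_subset_of_card_le (fun p hp => ?_) ?_
        · obtain ⟨n, hn, rfl⟩ := Finset.mem_image.1 hp
          simp only [Finset.mem_filter, Finset.mem_univ, true_and] at hn ⊢
          exact (h1 n hn).1
        · rw [Finset.card_image_of_injOn, ← hcard, ← hcard, e]
          · simp [cent_cards.1, cent_cards.2.2.1, cent_cards.2.2.2.1]
          · intro n hn n' hn' he
            simp only [Finset.coe_filter, Finset.mem_univ, true_and, Set.mem_setOf_eq] at hn hn'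
            exact h2 n n' hn hn' he
      have hp' : p ∈ Finset.univ.filter fun c => comI c w = true := by simp [hp]
      rw [← heq] at hp'
      obtain ⟨n, hn, hnp⟩ := Finset.mem_image.1 hp'
      exact ⟨n, (Finset.mem_filter.1 hn).2, hnp⟩
    obtain ⟨a, ha, ha'⟩ := hsurj 2 (by rw [e]; decide)
    obtain ⟨b, hb, hb'⟩ := hsurj 8 (by rw [e]; decide)
    have hza : d.Z a := (h1 a ha).2.1 (ha' ▸ Z_two)
    have hzb : d.Z b := (h1 b hb).2.1 (hb' ▸ (Z_conj 32 8).1 (by rw [small_com.2.2]; exact Z_two))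
    exact absurd (ha'.symm.trans ((congrArg m' ((hnot a ha hza).trans (hnot b hb hzb).symm)).trans hb')) (by decide)

theorem Z_u : d.Z 17 := by
  by_contra hu
  haveI := d.simple
  have hiZ := Z_i hk
  have hzi : ∀ n, d.Z n → n ∈ eightI := fun n hz => by
    obtain ⟨h2, h1⟩ := Z_inv hz
    obtain ⟨c, hc⟩ := exists_rep h2 h1
    have hz' := (Z_conj c n).2 hz
    have := of_t64 (of_t64 eight_reps n) c
    rcases (by simpa [reps] using hc : conjI c n = 10 ∨ conjI c n = 2 ∨ conjI c n = 16 ∨ conjI c n = 21 ∨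
        conjI c n = 17 ∨ conjI c n = 32 ∨ conjI c n = 48) with e | e | e | e | e | e | e <;> rw [e] at hz'
    iterate 3 simpa [e] using this
    exacts [absurd hz' (not_Z_k hk), absurd hz' hu, absurd hz' d.s_not, absurd hz' not_Z_is]
  have hops := List.all_eq_true.1 eight_ok.1
  have hmem : ∀ a ∈ eightI, (∀ b ∈ eightI, mulI a b ∈ eightI ∧ comI a b = true) ∧ invI a = a ∧ mulI a a = 0 :=
    fun a ha => by
      have := hops a ha
      simp only [Bool.and_eq_true, List.all_eq_true, beq_iff_eq, List.contains_iff_mem, decide_eq_true_eq] at this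
      exact ⟨this.1.1, this.1.2, this.2⟩
  let A : Subgroup G :=
    { carrier := {g | ∃ n ∈ eightI, d.co.el n = g}
      one_mem' := ⟨0, by decide, d.co.el_zero⟩
      mul_mem' := by
        rintro _ _ ⟨a, ha, rfl⟩ ⟨b, hb, rfl⟩
        exact ⟨_, ((hmem a ha).1 b hb).1, (d.co.mul a b).symm⟩
      inv_mem' := by
        rintro _ ⟨a, ha, rfl⟩
        exact ⟨a, ha, by rw [← d.co.el_inv, (hmem a ha).2.1]⟩ }
  have hA : Cfsg.IsElementaryAbelian 2 A := by
    refine ⟨⟨⟨?_⟩⟩, ?_⟩
    · rintro ⟨_, a, ha, rfl⟩ ⟨_, b, hb, rfl⟩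
      exact Subtype.ext (d.co.com_iff.1 ((hmem a ha).1 b hb).2)
    · rintro _ ⟨a, ha, rfl⟩
      rw [pow_two, d.co.mul, (hmem a ha).2.2, d.co.el_zero]
  have hne : A ≠ ⊥ := fun e => by
    have h10 : d.co.el 10 ∈ A := ⟨10, by decide, rfl⟩
    rw [e, mem_bot, d.co.el_eq_one] at h10
    exact absurd h10 (by decide)
  have hsc : Cfsg.IsStronglyClosed A (d.P : Subgroup G) := by
    refine ⟨?_, ?_⟩
    · rintro _ ⟨a, -, rfl⟩; exact d.co.mem_el a
    rintro _ ⟨a, ha, rfl⟩ g hg
    obtain ⟨n, hn⟩ := (d.co.mem _).1 hg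
    by_cases ha0 : a = 0
    · rw [ha0, d.co.el_zero, mul_one, mul_inv_cancel]; exact one_mem _
    · obtain ⟨c, hc⟩ := of_s64 (Or.resolve_left (by simpa using List.all_eq_true.1 eight_ok.2 a ha) ha0)
      have hza : d.Z a := (Z_conj c a).1 (by
        rcases (by simpa using hc : conjI c a = 10 ∨ conjI c a = 2 ∨ conjI c a = 16) with e | e | e <;> rw [e]
        exacts [Z_ten, Z_two, hiZ])
      exact ⟨n, hzi n ((_root_.isConj_iff.2 ⟨g, hn.symm⟩ : IsConj (d.co.el a) (d.co.el n)).symm.trans hza), hn⟩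
  have hGc : ¬ IsMulCommutative G := fun h => by
    obtain ⟨a, b, hab⟩ := Grp.GTwoSylow.not_comm d.frame
    exact hab (h.1.1 a b)
  obtain ⟨n, hn, hn'⟩ := (Fus.Gold.conclusion_all G inferInstance hGc d.P A hne hA hsc).2.1 _ (d.co.mem_el 32)
    (by rw [d.co.mul, show mulI 32 32 = 0 from rfl, d.co.el_zero])
  exact absurd (d.co.inj hn' ▸ hn) (by decide)

/-- The classes of all involutions. -/
theorem Z_rep : d.Z 10 ∧ d.Z 2 ∧ d.Z 16 ∧ d.Z 17 ∧ ¬ d.Z 21 ∧ ¬ d.Z 32 ∧ ¬ d.Z 48 :=
  ⟨Z_ten, Z_two, Z_i hk, Z_u hk, not_Z_k hk, d.s_not, not_Z_is⟩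

end Setting

end Cfsg.Agent.Invol.TwelveType
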