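import Cfsg.Agent.Lib.Invol.TwelveType.Facts

/-! Finite facts for the centraliser of the central involution. -/

set_option autoImplicit false
set_option maxRecDepth 100000

namespace Cfsg.Agent.Invol.TwelveType

/-- The involutions conjugate to the central one. -/
def zList : List (Fin 64) := [10, 2, 8, 16, 18, 24, 26, 17, 19, 25, 27, 20, 22, 28, 30]

/-- The eight group of `x i`. -/
def eightU : List (Fin 64) := [0, 2, 8, 10, 17, 19, 25, 27]

/-- Its conjugate under `s`. -/
def eightU' : List (Fin 64) := [0, 2, 8, 10, 20, 22, 28, 30]

/-- The list generated by the central involution and two commuting involutions. -/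
def genList (a b : Fin 64) : List (Fin 64) :=
  [0, 10, a, b, mulI 10 a, mulI 10 b, mulI a b, mulI 10 (mulI a b)]

/-- Equality of lists as sets. -/
def sameSet (l l' : List (Fin 64)) : Bool := (l.all fun x => l'.contains x) && l'.all fun x => l.contains x

theorem zList_ok : t64 (fun n => !(mulI n n == 0) || n == 0 || s64 (fun h => reps.contains (conjI h n) &&
    (zList.contains n == [10, 2, 16, 17].contains (conjI h n)))) = true := by decide +kernel

theorem rep_unique : t64 (fun n => t64 fun h => !(reps.contains (conjI h n)) ||
    (zList.contains n == [10, 2, 16, 17].contains (conjI h n))) = true := by decide +kernel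

theorem not_eight : t64 (fun n => !(zList.contains n) || eightI.contains n || ((eightU.contains n ||
    eightU'.contains n) && centCard n == 8)) = true := by decide +kernel

theorem eight_z : eightI.all (fun n => n == 0 || zList.contains n) = true ∧
    eightI.all (fun n => n == 0 || n == 10 || centCard n ≥ 16) = true ∧
    eightU.all (fun n => n == 0 || zList.contains n) = true := by decide +kernel

theorem eightU_swap : eightU'.all (fun n => eightU.contains (conjI 32 n)) = true ∧
    t64 (fun n => !(eightI.contains n) || eightI.contains (conjI 32 n)) = true := by decide +kernel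

theorem pure_eights : zList.all (fun a => zList.all fun b =>
    !((genList a b).all (fun x => x == 0 || zList.contains x) && comI a b && decide (genList a b).Nodup &&
      (genList a b).any (fun v => eightI.contains v && !(v == 0) && !(v == 10))) ||
    sameSet (genList a b) eightI || sameSet (genList a b) eightU || sameSet (genList a b) eightU') = true := by
  decide +kernel

theorem eightU_gen : sameSet (genList 2 17) eightU = true ∧ eightU.all (fun a => eightU.all fun b =>
    eightU.contains (mulI a b) && comI a b && invI a == a && mulI a a == 0) = true := by decide +kernel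

theorem eightI_gen : sameSet (genList 2 16) eightI = true := by decide +kernel

theorem low_ok : t64 (fun n => t64 fun m => decide (32 ≤ n.val) || decide (32 ≤ m.val) ||
    (decide ((mulI n m).val < 32) && decide ((invI n).val < 32))) = true ∧
    t64 (fun n => decide (32 ≤ n.val) || decide (n.val < 16) || mulI (mulI n n) (mulI n n) == 0 && mulI n n == 0) = true ∧
    t64 (fun n => t64 fun h => decide (32 ≤ n.val) || decide ((conjI h n).val < 32)) = true ∧
    t64 (fun n => decide (32 ≤ n.val) || eightU.all (fun a => eightU.contains (conjI n a))) = true ∧
    eightI.all (fun n => decide (n.val < 32)) = true := by decide +kernel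

theorem sigma_facts : conjI 5 17 = mulI 10 17 ∧ conjI 5 2 = 2 ∧ conjI 1 17 = mulI 2 17 ∧
    eightU.all (fun e => conjI 5 e == e || conjI 5 e == mulI 10 e) = true ∧
    mulI 10 17 ≠ 17 ∧ mulI 2 17 ≠ 17 ∧ mulI 2 17 ≠ mulI 10 17 ∧ mulI 1 1 = 2 ∧ mulI 4 4 = 8 ∧
    mulI 1 (mulI 4 16) = 21 := by decide +kernel

theorem no_carry : t64 (fun a => t64 fun b => !(decide (a.val < 16) && decide (b.val < 16) &&
    [2, 8].contains (mulI a a) && [2, 8].contains (mulI b b) && !(mulI a a == mulI b b)) ||
    eightU.all (fun c => [0, 2, 8, 10].contains c || zList.contains (mulI a (mulI b c)))) = true := by decide +kernel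

theorem normal_eight : zList.all (fun a => zList.all fun b =>
    !((genList a b).all (fun x => x == 0 || zList.contains x) && comI a b && decide (genList a b).Nodup &&
      decide (a.val < 32) && decide (b.val < 32) &&
      (genList a b).all (fun x => t64 fun h => (genList a b).contains (conjI h x))) ||
    sameSet (genList a b) eightI) = true := by decide +kernel

theorem eightI_normal : t64 (fun h => eightI.all fun e => eightI.contains (conjI h e)) = true := by decide +kernel

theorem five_ok : eightU.all (fun n => [0, 2, 8, 10].contains n || conjI 5 n == mulI 10 n) = true ∧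
    t64 (fun a => decide (16 ≤ a.val) || [0, 2, 8, 10].contains (mulI a a)) = true := by decide +kernel

end Cfsg.Agent.Invol.TwelveType
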