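import Cfsg.Agent.Lib.Invol.TwelveType.Fusion
import Cfsg.Agent.Lib.Invol.TwelveType.LocalFacts

/-! The pure normal eight group is strongly closed in the centraliser of the central involution. -/

set_option autoImplicit false
set_option linter.style.haveILetI false
set_option linter.unusedSectionVars false

namespace Cfsg.Agent.Invol.TwelveType

open Subgroup

universe u

variable {G : Type u} [Group G] [Finite G]

theorem eightU_ops {a b : Fin 64} (ha : a ∈ eightU) (hb : b ∈ eightU) :
    mulI a b ∈ eightU ∧ comI a b = true ∧ invI a = a ∧ mulI a a = 0 := by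
  have h := List.all_eq_true.1 (List.all_eq_true.1 eightU_gen.2 a ha) b hb
  simp only [Bool.and_eq_true, List.contains_iff_mem, beq_iff_eq, decide_eq_true_eq] at h
  exact ⟨h.1.1.1, h.1.1.2, h.1.2, h.2⟩

theorem sameSet_mem {l l' : List (Fin 64)} (h : sameSet l l' = true) (x : Fin 64) : x ∈ l ↔ x ∈ l' := by
  simp only [sameSet, Bool.and_eq_true, List.all_eq_true, List.contains_iff_mem] at h
  exact ⟨h.1 x, h.2 x⟩

namespace Setting

/-- The centraliser of the central involution. -/
def C (d : Setting G) : Subgroup G := centralizer ({d.co.el 10} : Set G)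

variable {d : Setting G}

theorem mem_C {g : G} : g ∈ d.C ↔ g * d.co.el 10 = d.co.el 10 * g := mem_centralizer_singleton_iff

theorem el_mem_C (n : Fin 64) : d.co.el n ∈ d.C := mem_C.2 <| d.co.com_iff.1 (by revert n; decide +kernel)

theorem P_le_C : (d.P : Subgroup G) ≤ d.C := fun x hx => by
  obtain ⟨n, rfl⟩ := (d.co.mem x).1 hx
  exact el_mem_C n

/-- A 2-subgroup of the centraliser is conjugate in it into `P`. -/
theorem exists_into {R : Subgroup G} (hR : IsPGroup 2 R) (hRC : R ≤ d.C) :
    ∃ h ∈ d.C, ∀ x ∈ R, h * x * h⁻¹ ∈ (d.P : Subgroup G) := by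
  obtain ⟨⟨h, hh⟩, H⟩ := Invol.exists_conj_subset_sylow
    (hR.comap_of_injective d.C.subtype d.C.subtype_injective) (d.P.subtype P_le_C)
  exact ⟨h, hh, fun x hx => H ⟨x, hRC hx⟩ hx⟩

theorem card_centP (n : Fin 64) :
    Nat.card ↥((d.P : Subgroup G) ⊓ centralizer ({d.co.el n} : Set G)) = centCard n := by
  classical
  let f : {c : Fin 64 // comI c n = true} → ↥((d.P : Subgroup G) ⊓ centralizer ({d.co.el n} : Set G)) :=
    fun c => ⟨d.co.el c, d.co.mem_el c, mem_centralizer_singleton_iff.2 (d.co.com_iff.1 c.2)⟩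
  have hf : Function.Bijective f := by
    refine ⟨fun a b h => Subtype.ext (d.co.inj (congrArg Subtype.val h)), fun x => ?_⟩
    obtain ⟨c, hc⟩ := (d.co.mem _).1 x.2.1
    have h2 := mem_centralizer_singleton_iff.1 x.2.2
    rw [← hc] at h2
    exact ⟨⟨c, d.co.com_iff.2 h2⟩, Subtype.ext hc⟩
  rw [← Nat.card_congr (Equiv.ofBijective f hf), Nat.card_eq_fintype_card, Fintype.card_subtype, centCard,
    List.countP_eq_length_filter, ← List.toFinset_card_of_nodup ((List.nodup_finRange 64).filter _),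
    List.toFinset_filter, List.toFinset_finRange]

/-- Fusion in the centraliser can be realised with a carried centraliser. -/
theorem exists_carried {g : G} (hg : g ∈ d.C) {u v : Fin 64} (hv : d.co.el v = g * d.co.el u * g⁻¹) :
    ∃ g' ∈ d.C, ∃ v', d.co.el v' = g' * d.co.el u * g'⁻¹ ∧ centCard v ≤ centCard v' ∧
      ∀ c, comI c u = true → g' * d.co.el c * g'⁻¹ ∈ (d.P : Subgroup G) := by
  haveI : Fact (Nat.Prime 2) := ⟨Nat.prime_two⟩
  set X := d.C ⊓ centralizer ({d.co.el v} : Set G) with hX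
  set Ru := ((d.P : Subgroup G) ⊓ centralizer ({d.co.el u} : Set G)).map (MulAut.conj g).toMonoidHom with hRu
  have hRuX : Ru ≤ X := by
    rintro _ ⟨x, ⟨hxP, hxu⟩, rfl⟩
    refine ⟨d.C.mul_mem (d.C.mul_mem hg (P_le_C hxP)) (d.C.inv_mem hg), mem_centralizer_singleton_iff.2 ?_⟩
    have hx' : x * d.co.el u = d.co.el u * x := mem_centralizer_singleton_iff.1 hxu
    show g * x * g⁻¹ * d.co.el v = d.co.el v * (g * x * g⁻¹)
    calc g * x * g⁻¹ * d.co.el v = g * (x * d.co.el u) * g⁻¹ := by rw [hv]; group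
      _ = g * (d.co.el u * x) * g⁻¹ := by rw [hx']
      _ = _ := by rw [hv]; group
  have hRup : IsPGroup 2 Ru := (d.P.isPGroup'.to_le inf_le_left).map _
  obtain ⟨R, hR⟩ := (hRup.comap_of_injective X.subtype X.subtype_injective).exists_le_sylow
  set R' : Subgroup G := (R : Subgroup X).map X.subtype with hR'
  have hR'X : R' ≤ X := map_subtype_le _
  obtain ⟨h, hhC, hh⟩ := exists_into (d := d) (R := R') (R.isPGroup'.map _) (hR'X.trans inf_le_left)
  have hcv : centCard v ≤ Nat.card R' := by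
    rw [hR', Subgroup.card_map_of_injective X.subtype_injective, ← card_centP (d := d)]
    set Q := ((d.P : Subgroup G) ⊓ centralizer ({d.co.el v} : Set G))
    have hQX : Q ≤ X := le_inf (inf_le_left.trans P_le_C) inf_le_right
    rw [← Nat.card_congr (Subgroup.subgroupOfEquivOfLe hQX).toEquiv]
    obtain ⟨R2, hR2⟩ := (IsPGroup.comap_of_injective (H := Q) (d.P.isPGroup'.to_le inf_le_left) X.subtype
      X.subtype_injective).exists_le_sylow
    exact (Subgroup.card_le_of_le hR2).trans_eq (by rw [R2.card_eq_multiplicity, R.card_eq_multiplicity])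
  have hmem : ∀ c, comI c u = true → g * d.co.el c * g⁻¹ ∈ R' := fun c hc => by
    have h1 : g * d.co.el c * g⁻¹ ∈ Ru :=
      ⟨d.co.el c, ⟨d.co.mem_el c, mem_centralizer_singleton_iff.2 (d.co.com_iff.1 hc)⟩, rfl⟩
    exact ⟨⟨_, hRuX h1⟩, hR h1, rfl⟩
  have huu : comI u u = true := by rw [comI, beq_iff_eq]
  obtain ⟨v', hv'⟩ := (d.co.mem _).1 (hh _ (hmem u huu))
  refine ⟨h * g, mul_mem hhC hg, v', by rw [hv']; group, hcv.trans ?_, fun c hc => ?_⟩
  · rw [← card_centP (d := d)]
    refine le_trans (le_of_eq (Subgroup.card_map_of_injective (f := (MulAut.conj h).toMonoidHom)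
      (MulAut.conj h).injective).symm) (Subgroup.card_le_of_le ?_)
    rintro _ ⟨x, hx, rfl⟩
    refine ⟨hh x hx, mem_centralizer_singleton_iff.2 ?_⟩
    have h2 : x * d.co.el v = d.co.el v * x := mem_centralizer_singleton_iff.1 (hR'X hx).2
    show h * x * h⁻¹ * d.co.el v' = d.co.el v' * (h * x * h⁻¹)
    rw [hv', ← hv]
    calc h * x * h⁻¹ * (h * d.co.el v * h⁻¹) = h * (x * d.co.el v) * h⁻¹ := by group
      _ = h * (d.co.el v * x) * h⁻¹ := by rw [h2]
      _ = _ := by group
  · rw [show h * g * d.co.el c * (h * g)⁻¹ = h * (g * d.co.el c * g⁻¹) * h⁻¹ by group]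
    exact hh _ (hmem c hc)

section WithK

variable (hk : IsConj (d.co.el 32) (d.co.el 21))
include hk

/-- The involutions conjugate to the central one. -/
theorem Z_iff {n : Fin 64} : d.Z n ↔ n ∈ zList := by
  obtain ⟨z1, z2, z3, z4, z5, z6, z7⟩ := Z_rep hk
  constructor
  · intro hz
    obtain ⟨h2, h1⟩ := Z_inv hz
    have := of_t64 zList_ok n
    simp only [h2, beq_eq_false_iff_ne.2 h1, beq_self_eq_true, Bool.not_true, Bool.false_or] at this
    obtain ⟨c, hc⟩ := of_s64 this
    simp only [Bool.and_eq_true, List.contains_iff_mem, beq_iff_eq, decide_eq_true_eq] at hc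
    have hz' := (Z_conj c n).2 hz
    rcases (by simpa [reps] using hc.1 : conjI c n = 10 ∨ conjI c n = 2 ∨ conjI c n = 16 ∨ conjI c n = 21 ∨
        conjI c n = 17 ∨ conjI c n = 32 ∨ conjI c n = 48) with e | e | e | e | e | e | e <;>
      rw [e] at hz' <;> first | exact absurd hz' z5 | exact absurd hz' z6 | exact absurd hz' z7 | simpa [e] using hc.2
  · intro hn
    have h2 : mulI n n = 0 ∧ n ≠ 0 := by revert hn; revert n; decide +kernel
    obtain ⟨c, hc⟩ := exists_rep h2.1 h2.2
    refine (Z_conj c n).1 ?_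
    have := of_t64 (of_t64 rep_unique n) c
    rw [List.contains_iff_mem.2 hc, List.contains_iff_mem.2 hn] at this
    rcases (by simpa using this : conjI c n = 10 ∨ conjI c n = 2 ∨ conjI c n = 16 ∨ conjI c n = 17) with
      e | e | e | e <;> rw [e]
    exacts [z1, z2, z3, z4]

/-- The image of a pure eight group under a carrying map. -/
theorem image_eight {g : G} (hg : g ∈ d.C) (m : Fin 64 → Fin 64) {a b v : Fin 64}
    (hl : ∀ x ∈ genList a b, d.co.el (m x) = g * d.co.el x * g⁻¹) (hz : ∀ x ∈ genList a b, x = 0 ∨ x ∈ zList)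
    (hab : comI a b = true) (hnd : (genList a b).Nodup) :
    (∀ y, y ∈ (genList a b).map m ↔ y ∈ genList (m a) (m b)) ∧
    (∀ x ∈ genList (m a) (m b), x = 0 ∨ x ∈ zList) ∧ comI (m a) (m b) = true ∧ (genList (m a) (m b)).Nodup := by
  have ha : a ∈ genList a b := by simp [genList]
  have hb : b ∈ genList a b := by simp [genList]
  have key : ∀ x y, x ∈ genList a b → y ∈ genList a b → mulI x y ∈ genList a b →
      m (mulI x y) = mulI (m x) (m y) := fun x y hx hy hxy => d.co.inj (by
    rw [hl _ hxy, ← d.co.mul, ← d.co.mul, hl x hx, hl y hy]; group)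
  have h0 : m 0 = 0 := d.co.el_eq_one.1 (by rw [hl 0 (by simp [genList]), d.co.el_zero]; group)
  have h10 : m 10 = 10 := d.co.inj (by
    rw [hl 10 (by simp [genList]), mem_C.1 hg]; group)
  have heq : genList (m a) (m b) = (genList a b).map m := by
    simp only [genList, List.map_cons, List.map_nil, h0, h10]
    rw [key 10 a (by simp [genList]) ha (by simp [genList]), key 10 b (by simp [genList]) hb (by simp [genList]),
      key a b ha hb (by simp [genList]), key 10 _ (by simp [genList]) (by simp [genList]) (by simp [genList]),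
      key a b ha hb (by simp [genList]), h10]
  refine ⟨fun y => by rw [heq], fun x hx => ?_, ?_, ?_⟩
  · rw [heq] at hx
    obtain ⟨y, hy, rfl⟩ := List.mem_map.1 hx
    rcases hz y hy with rfl | hy'
    · exact Or.inl h0
    · refine Or.inr ((Z_iff hk).1 ?_)
      exact (_root_.isConj_iff.2 ⟨g, (hl y hy).symm⟩ : IsConj (d.co.el y) (d.co.el (m y))).symm.trans
        ((Z_iff hk).2 hy')
  · have h1 := d.co.com_iff.1 hab
    refine d.co.com_iff.2 ?_
    rw [hl a ha, hl b hb]
    calc g * d.co.el a * g⁻¹ * (g * d.co.el b * g⁻¹) = g * (d.co.el a * d.co.el b) * g⁻¹ := by group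
      _ = g * (d.co.el b * d.co.el a) * g⁻¹ := by rw [h1]
      _ = _ := by group
  · rw [heq]
    refine hnd.map_on fun x hx y hy e => d.co.inj ?_
    have := congrArg d.co.el e
    rwa [hl x hx, hl y hy, mul_left_inj, mul_right_inj] at this

end WithK

/-- The subgroup of a list of indices closed under multiplication. -/
def eightUSub (d : Setting G) : Subgroup G where
  carrier := {g | ∃ n ∈ eightU, d.co.el n = g}
  one_mem' := ⟨0, by decide, d.co.el_zero⟩
  mul_mem' := by
    rintro _ _ ⟨a, ha, rfl⟩ ⟨b, hb, rfl⟩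
    exact ⟨_, (eightU_ops ha hb).1, (d.co.mul a b).symm⟩
  inv_mem' := by
    rintro _ ⟨a, ha, rfl⟩
    exact ⟨a, ha, by rw [← d.co.el_inv, (eightU_ops ha ha).2.2.1]⟩

/-- The part of the centraliser normalising the eight group of `x i`. -/
def NU (d : Setting G) : Subgroup G := d.C ⊓ normalizer (d.eightUSub : Set G)

theorem mem_NU_of {g : G} (hg : g ∈ d.C) (h : ∀ e ∈ eightU, ∃ e' ∈ eightU, d.co.el e' = g * d.co.el e * g⁻¹) :
    g ∈ d.NU := ⟨hg, mem_normalizer_fintype fun x hx => by
  obtain ⟨e, he, rfl⟩ := hx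
  exact h e he⟩

/-- The low indices. -/
def low (d : Setting G) : Subgroup G where
  carrier := {g | ∃ n : Fin 64, n.val < 32 ∧ d.co.el n = g}
  one_mem' := ⟨0, by decide, d.co.el_zero⟩
  mul_mem' := by
    rintro _ _ ⟨a, ha, rfl⟩ ⟨b, hb, rfl⟩
    have := of_t64 (of_t64 low_ok.1 a) b
    simp only [Bool.or_eq_true, Bool.and_eq_true, decide_eq_true_eq] at this
    exact ⟨_, (this.resolve_left (by omega)).1, (d.co.mul a b).symm⟩
  inv_mem' := by
    rintro _ ⟨a, ha, rfl⟩
    have := of_t64 (of_t64 low_ok.1 a) a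
    simp only [Bool.or_eq_true, Bool.and_eq_true, decide_eq_true_eq] at this
    exact ⟨_, (this.resolve_left (by omega)).2, d.co.el_inv a⟩

theorem low_le_P : d.low ≤ (d.P : Subgroup G) := by rintro _ ⟨n, -, rfl⟩; exact d.co.mem_el n

theorem low_le_NU : d.low ≤ d.NU := by
  rintro _ ⟨n, hn, rfl⟩
  refine mem_NU_of (el_mem_C n) fun e he => ⟨conjI n e, ?_, d.co.el_conj n e⟩
  have := of_t64 low_ok.2.2.2.1 n
  simp only [Bool.or_eq_true, decide_eq_true_eq, List.all_eq_true, List.contains_iff_mem] at this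
  exact this.resolve_left (by omega) e he

theorem card_P : Nat.card (d.P : Subgroup G) = 64 := by
  let f : Fin 64 → ↥(d.P : Subgroup G) := fun n => ⟨d.co.el n, d.co.mem_el n⟩
  have hf : Function.Bijective f := ⟨fun a b h => d.co.inj (congrArg Subtype.val h), fun x => by
    obtain ⟨n, hn⟩ := (d.co.mem _).1 x.2
    exact ⟨n, Subtype.ext hn⟩⟩
  rw [← Nat.card_congr (Equiv.ofBijective f hf), Nat.card_fin]

theorem card_low : Nat.card d.low = 32 := by
  let f : Fin 32 → ↥d.low := fun n => ⟨d.co.el ⟨n.val, by omega⟩, ⟨n.val, by omega⟩, n.isLt, rfl⟩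
  have hf : Function.Bijective f := ⟨fun a b h => by
      have := congrArg Fin.val (d.co.inj (congrArg Subtype.val h))
      exact Fin.ext this, fun ⟨x, n, hn, hx⟩ => ⟨⟨n.val, hn⟩, Subtype.ext hx⟩⟩
  rw [← Nat.card_congr (Equiv.ofBijective f hf), Nat.card_fin]

end Setting

end Cfsg.Agent.Invol.TwelveType
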