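import Cfsg.Agent.Lib.Invol.M12.M12Side
import Cfsg.Agent.Lib.Grp.GTwoSylow.Builder

/-! A Sylow 2-subgroup of `M₁₂` carries a frame. -/

set_option autoImplicit false
set_option maxRecDepth 100000

noncomputable section

namespace Cfsg.Agent.Invol.TwelveType

open Cfsg.Agent.Invol.M12 Cfsg.Agent.Grp.GTwoSylow

/-- Powers in the table. -/
def powI (x : ℕ) : ℕ → ℕ
  | 0 => 0
  | n + 1 => mL (powI x n) x

theorem m12_facts : powI 22 4 = 0 ∧ powI 38 4 = 0 ∧ mL 22 38 = mL 38 22 ∧ mL 4 4 = 0 ∧ mL 5 5 = 0 ∧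
    mL 5 4 = mL 4 5 ∧ mL 4 22 = mL (iL 22) 4 ∧ mL 4 38 = mL (iL 38) 4 ∧ mL 5 22 = mL 38 5 ∧ mL 5 38 = mL 22 5 ∧
    ((List.range 16).all fun v => v == 0 || mL (powI 22 (v % 4)) (powI 38 (v / 4)) != 0) = true ∧
    ((List.range 4).all fun n => decide (powI 22 n < 192) && decide (powI 38 n < 192)) = true := by decide +kernel

theorem mE_pow {x : ℕ} (hx : x < 192) : ∀ n : ℕ, powI x n < 192 ∧ mE (powI x n) = mE x ^ n := by
  intro n
  induction n with
  | zero => exact ⟨by norm_num [powI], by rw [pow_zero]; exact settingM12.e_zero⟩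
  | succ n ih => exact ⟨mL_lt ih.1 hx, by rw [pow_succ, ← ih.2]; exact mE_mul _ ih.1 _ hx⟩

/-- The relations in `M₁₂`. -/
def relM12 : Rel ↥Cfsg.Spor.M12 := by
  have f1 := m12_facts.1
  have f2 := m12_facts.2.1
  have f3 := m12_facts.2.2.1
  have f4 := m12_facts.2.2.2.1
  have f5 := m12_facts.2.2.2.2.1
  have f6 := m12_facts.2.2.2.2.2.1
  have f7 := m12_facts.2.2.2.2.2.2.1
  have f8 := m12_facts.2.2.2.2.2.2.2.1
  have f9 := m12_facts.2.2.2.2.2.2.2.2.1
  have f10 := m12_facts.2.2.2.2.2.2.2.2.2.1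
  have f11 := m12_facts.2.2.2.2.2.2.2.2.2.2.1
  have hzero : mE 0 = 1 := settingM12.e_zero
  have hm : ∀ i < 192, ∀ j < 192, mE i * mE j = mE (mL i j) := fun i hi j hj => (mE_mul i hi j hj).symm
  have hi : ∀ i < 192, (mE i)⁻¹ = mE (iL i) := fun i hi => (settingM12.e_inv hi).symm
  exact
    { k := 2
      hk := le_rfl
      x := mE 22
      y := mE 38
      i := mE 4
      s := mE 5
      xN := by rw [← (mE_pow (by norm_num) _).2, show (2 : ℕ) ^ 2 = 4 from rfl, f1, hzero]
      yN := by rw [← (mE_pow (by norm_num) _).2, show (2 : ℕ) ^ 2 = 4 from rfl, f2, hzero]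
      xy := by rw [hm _ (by norm_num) _ (by norm_num), hm _ (by norm_num) _ (by norm_num), f3]
      ii := by rw [hm _ (by norm_num) _ (by norm_num), f4, hzero]
      ss := by rw [hm _ (by norm_num) _ (by norm_num), f5, hzero]
      si := by rw [hm _ (by norm_num) _ (by norm_num), hm _ (by norm_num) _ (by norm_num), f6]
      ix := by rw [hi _ (by norm_num), hm _ (by norm_num) _ (by norm_num), hm _ (iL_spec (by norm_num)).1 _ (by norm_num), f7]
      iy := by rw [hi _ (by norm_num), hm _ (by norm_num) _ (by norm_num), hm _ (iL_spec (by norm_num)).1 _ (by norm_num), f8]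
      sx := by rw [hm _ (by norm_num) _ (by norm_num), hm _ (by norm_num) _ (by norm_num), f9]
      sy := by rw [hm _ (by norm_num) _ (by norm_num), hm _ (by norm_num) _ (by norm_num), f10]
      indep := fun a b h => by
        have h4 : mE 22 ^ 4 = 1 ∧ mE 38 ^ 4 = 1 := by
          constructor
          · rw [← (mE_pow (by norm_num) _).2, f1, hzero]
          · rw [← (mE_pow (by norm_num) _).2, f2, hzero]
        have hred : mE 22 ^ (a % 4) * mE 38 ^ (b % 4) = 1 := by
          conv_lhs at h => rw [← Nat.mod_add_div a 4, ← Nat.mod_add_div b 4]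
          rwa [pow_add, pow_mul, h4.1, one_pow, mul_one, pow_add, pow_mul, h4.2, one_pow, mul_one] at h
        rw [← (mE_pow (by norm_num) _).2, ← (mE_pow (by norm_num) _).2,
          hm _ (mE_pow (by norm_num) _).1 _ (mE_pow (by norm_num) _).1, ← hzero] at hred
        have hv := mE_inj _ (mL_lt (mE_pow (by norm_num) _).1 (mE_pow (by norm_num) _).1) _ (by norm_num) hred
        have := List.all_eq_true.1 f11 (a % 4 + 4 * (b % 4)) (List.mem_range.2 (by omega))
        rw [show (a % 4 + 4 * (b % 4)) % 4 = a % 4 by omega, show (a % 4 + 4 * (b % 4)) / 4 = b % 4 by omega, hv] at this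
        simp only [bne_self_eq_false, Bool.or_false, beq_iff_eq] at this
        exact ⟨Nat.dvd_of_mod_eq_zero (by norm_num; omega), Nat.dvd_of_mod_eq_zero (by norm_num; omega)⟩ }

theorem frame_M12 (P : Sylow 2 ↥Cfsg.Spor.M12) : Nonempty (Frame ↥(P : Subgroup ↥Cfsg.Spor.M12)) := by
  refine Frame.nonempty_sylow relM12 ?_ P
  show (Nat.card ↥Cfsg.Spor.M12).factorization 2 = 2 * 2 + 2
  rw [Cfsg.Agent.Fus.Mathieu.card12, show (95040 : ℕ) = 2 ^ 6 * 1485 by norm_num, Nat.factorization_mul (by norm_num) (by norm_num),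
    Nat.Prime.factorization_pow Nat.prime_two]
  simp [Nat.factorization_eq_zero_of_not_dvd]

end Cfsg.Agent.Invol.TwelveType
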