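import Cfsg.Agent.Lib.Invol.TwelveType.Core
import Cfsg.Agent.S3344

/-!
A simple group with Sylow 2-subgroup `(Z/4 × Z/4) ⋊ V₄` and two classes of involutions is `M₁₂`.
-/

set_option autoImplicit false
set_option linter.style.haveILetI false
set_option linter.unusedSectionVars false
set_option maxRecDepth 100000

namespace Cfsg.Agent.Invol.TwelveType

open Subgroup Cfsg.Agent.Grp

universe u

theorem perm_small_eight {n : ℕ} (hn : n ≤ 9) (x : Equiv.Perm (Fin n)) (h : orderOf x = 8) :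
    Equiv.Perm.sign x ≠ 1 := by
  have hsum : x.cycleType.sum ≤ n := by
    rw [Equiv.Perm.sum_cycleType]
    exact (Finset.card_le_univ _).trans (by simp)
  have h8 : 8 ∈ x.cycleType := by
    by_contra hne
    have h4 : x ^ 4 = 1 := by
      rw [← orderOf_dvd_iff_pow_eq_one, ← Equiv.Perm.lcm_cycleType]
      refine Multiset.lcm_dvd.2 fun b hb => ?_
      have h1 : b ∣ 8 := h ▸ Equiv.Perm.lcm_cycleType x ▸ Multiset.dvd_lcm hb
      have h2 : b ≠ 8 := fun e => hne (e ▸ hb)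
      have h3 : b ≤ 8 := Nat.le_of_dvd (by norm_num) h1
      interval_cases b <;> omega
    rw [← orderOf_dvd_iff_pow_eq_one, h] at h4
    norm_num at h4
  obtain ⟨rest, hrest⟩ := Multiset.exists_cons_of_mem h8
  have h0 : rest = 0 := by
    refine Multiset.eq_zero_of_forall_notMem fun b hb => ?_
    have h2 := Equiv.Perm.two_le_of_mem_cycleType (hrest ▸ Multiset.mem_cons_of_mem hb : b ∈ x.cycleType)
    have h3 := Multiset.le_sum_of_mem hb
    rw [hrest, Multiset.sum_cons] at hsum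
    omega
  rw [Equiv.Perm.sign_of_cycleType, hrest, h0]
  decide

theorem not_alternating_eight {G : Type u} [Group G] {n : ℕ} (hn : n ≤ 9) {g : G} (hg : orderOf g = 8) :
    ¬ Nonempty (G ≃* alternatingGroup (Fin n)) := fun ⟨e⟩ =>
  perm_small_eight hn (e g : Equiv.Perm (Fin n)) (by rw [Subgroup.orderOf_coe, show e g = e.toMonoidHom g from rfl, orderOf_injective e.toMonoidHom e.injective g, hg])
    (Equiv.Perm.mem_alternatingGroup.1 (e g).2)

variable {G : Type u} [Group G] [Finite G]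

namespace Setting

variable (d : Setting G) (hk : IsConj (d.co.el 32) (d.co.el 21))

/-- The data of the centraliser itself. -/
noncomputable def quotC : QuotHyp ↥d.C :=
  haveI : Fact (Nat.Prime 2) := ⟨Nat.prime_two⟩
  { T := d.P.subtype P_le_C
    co :=
      { el := d.elC
        inj := fun _ _ e => d.co.inj (congrArg Subtype.val e)
        mul := d.elC_mul
        mem := fun g => by
          show g ∈ (d.P : Subgroup G).subgroupOf d.C ↔ _
          rw [mem_subgroupOf, d.co.mem]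
          exact ⟨fun ⟨n, hn⟩ => ⟨n, Subtype.ext hn⟩, fun ⟨n, hn⟩ => ⟨n, congrArg Subtype.val hn⟩⟩ }
    core := O_eq_bot hk
    central := fun x => Subtype.ext (mem_C.1 x.2)
    closed := fun _ ha g _ hgn => closed hk g.2 ha (congrArg Subtype.val hgn) }

theorem quotC_el (n : Fin 64) : (d.quotC hk).co.el n = d.elC n := rfl

theorem quotC_move : ∃ x, ∀ b, (d.quotC hk).co.el b = x * (d.quotC hk).co.el 2 * x⁻¹ → b ∉ planeP := by
  obtain ⟨g, hg, -, hgP⟩ := exists_mover hk
  exact ⟨⟨g, hg⟩, fun b hb => hgP b (congrArg Subtype.val hb)⟩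

include hk in
theorem isoM12 : Cfsg.Spor.IsoM12 G := by
  haveI : Fact (Nat.Prime 2) := ⟨Nat.prime_two⟩
  haveI : Fact (Nat.Prime 3) := ⟨Nat.prime_three⟩
  haveI := d.simple
  set q := d.quotC hk
  have hmove := quotC_move d hk
  have hQ : Cfsg.pCore 2 ↥d.C = q.Qx := QuotHyp.pCore_eq hmove
  haveI : (Cfsg.pCore 2 ↥d.C).Normal := Grp.pCore_isNormal
  let e : ↥d.C ⧸ Cfsg.pCore 2 ↥d.C ≃* Equiv.Perm (Fin 3) :=
    (QuotientGroup.quotientMulEquivOfEq (hQ.trans QuotHyp.ker_act.symm)).trans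
      (QuotientGroup.quotientKerEquivOfSurjective q.act (QuotHyp.act_surj hmove))
  set Q := (Cfsg.pCore 2 ↥d.C).map d.C.subtype
  have hQel : ∀ n, inQ n = true → d.co.el n ∈ Q := fun n hn =>
    ⟨d.elC n, hQ ▸ (QuotHyp.mem_Qx (q := q)).2 hn, rfl⟩
  have hex : Cfsg.IsExtraspecial 2 Q :=
    Grp.ExtraCentSimple.isExtraspecial_equiv (Subgroup.equivMapOfInjective _ _ d.C.subtype_injective)
      (hQ ▸ QuotHyp.Qx_extraspecial)
  have hcard : Nat.card Q = 32 := by
    rw [Subgroup.card_map_of_injective d.C.subtype_injective, hQ, QuotHyp.card_Qx]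
  let X : Sylow 3 ↥d.C := default
  have hCX : Q ⊓ centralizer (((X : Subgroup ↥d.C).map d.C.subtype : Subgroup G) : Set G) =
      Subgroup.zpowers (d.co.el 10) := by
    refine le_antisymm ?_ (zpowers_le.2 ⟨hQel 10 inQ_ops.2.2.2.2.1, mem_centralizer_iff.2 ?_⟩)
    · rintro _ ⟨⟨u, hu, rfl⟩, huc⟩
      have hX3 : Nat.card (X : Subgroup ↥d.C) = 3 := by
        rw [X.card_eq_multiplicity, QuotHyp.card_X hmove, show (192 : ℕ) = 2 ^ 6 * 3 by norm_num,
          Nat.factorization_mul (by norm_num) (by norm_num), Nat.Prime.factorization_pow Nat.prime_two,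
          Nat.Prime.factorization Nat.prime_three]
        simp
      obtain ⟨x, hx⟩ := exists_prime_orderOf_dvd_card' (G := (X : Subgroup ↥d.C)) 3 (by rw [hX3])
      have hx3 : ((x : ↥d.C)) ^ 3 = 1 := by
        have h1 : x ^ 3 = 1 := orderOf_dvd_iff_pow_eq_one.1 hx.dvd
        simpa using congrArg Subtype.val h1
      have hxQ : (x : ↥d.C) ∉ q.Qx := fun h => by
        obtain ⟨k, hk'⟩ := QuotHyp.Qx_pgroup ⟨(x : ↥d.C), h⟩
        have h1 : orderOf x ∣ 2 ^ k := by
          rw [← Subgroup.orderOf_coe]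
          exact orderOf_dvd_of_pow_eq_one (congrArg Subtype.val hk')
        rw [hx] at h1
        exact absurd (Nat.Prime.dvd_of_dvd_pow Nat.prime_three h1) (by norm_num)
      have hcomm := mem_centralizer_iff.1 huc _ ⟨(x : ↥d.C), x.2, rfl⟩
      rcases QuotHyp.fix_trivial (q := q) hx3 hxQ (hQ ▸ hu) (Subtype.ext hcomm) with e1 | e1
      · rw [e1, map_one]; exact one_mem _
      · rw [e1]; exact mem_zpowers _
    · rintro _ ⟨c, -, rfl⟩
      exact mem_C.1 c.2
  obtain ⟨g, hg⟩ := _root_.isConj_iff.1 (d.z_conj_t.symm)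
  have hnwc : ∃ g : G, g * d.co.el 10 * g⁻¹ ∈ Q ∧ g * d.co.el 10 * g⁻¹ ≠ d.co.el 10 :=
    ⟨g, hg ▸ hQel 2 inQ_ops.2.2.2.1, fun e1 => absurd (d.co.inj (hg.symm.trans e1)) (by decide)⟩
  have h8 : orderOf (d.co.el 33) = 8 := by
    have hp : ∀ n, d.co.el n * d.co.el n = d.co.el (mulI n n) := fun n => d.co.mul n n
    refine orderOf_eq_prime_pow (p := 2) (n := 2) ?_ ?_
    · rw [show (2 : ℕ) ^ 2 = 2 * 2 by rfl, pow_mul, pow_two, pow_two, hp, hp, d.co.el_eq_one]
      decide
    · rw [show (2 : ℕ) ^ (2 + 1) = 2 * 2 * 2 by rfl, pow_mul, pow_mul, pow_two, pow_two, pow_two, hp, hp, hp,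
        d.co.el_eq_one]
      decide
  rcases S3344.result (d.co.el 10) (d.co.orderOf_el (by decide) (by decide)) d.C rfl Q rfl hex hcard e X hCX hnwc
    with ⟨N, hN, -, -, hN8, -⟩ | h | h | h
  · rcases hN.eq_bot_or_eq_top with e1 | e1
    · rw [e1, Subgroup.card_bot] at hN8; exact absurd hN8 (by norm_num)
    · rw [e1, Subgroup.card_top] at hN8
      have := Subgroup.card_subgroup_dvd_card (d.P : Subgroup G)
      rw [card_P, hN8] at this
      exact absurd this (by norm_num)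
  · exact absurd h (not_alternating_eight (by norm_num) h8)
  · exact absurd h (not_alternating_eight (by norm_num) h8)
  · exact h

end Setting

section Frame

open Cfsg.Agent.Grp.GTwoSylow

variable [IsSimpleGroup G] {S : Sylow 2 G} (e : Frame ↥(S : Subgroup G))

include e in
theorem isoM12_of_frame (h2 : ∃ x y : G, orderOf x = 2 ∧ orderOf y = 2 ∧ ¬ IsConj x y) : Cfsg.Spor.IsoM12 G := by
  have hall : ∀ g : G, orderOf g = 2 → IsConj g (e.z : G) ∨ IsConj g (e.s : G) := by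
    intro g hg
    obtain ⟨c, hc⟩ := Invol.exists_conj_mem_sylow (n := 1) (by rw [hg, pow_one]) S
    have hgc : IsConj g (c * g * c⁻¹) := _root_.isConj_iff.2 ⟨c, rfl⟩
    have ho : orderOf (⟨_, hc⟩ : ↥(S : Subgroup G)) = 2 := by
      rw [Subgroup.orderOf_mk, Invol.orderOf_conj_eq, hg]
    obtain ⟨h1, h1'⟩ := Invol.orderOf_two_iff.1 ho
    suffices IsConj (c * g * c⁻¹) (e.z : G) ∨ IsConj (c * g * c⁻¹) (e.s : G) from
      this.imp hgc.trans hgc.trans
    obtain ⟨h, hh⟩ := e.involution_cases h1 h1'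
    have key : ∀ r, h * ⟨_, hc⟩ * h⁻¹ = r → (IsConj (r : G) (e.z : G) ∨ IsConj (r : G) (e.s : G)) →
        IsConj (c * g * c⁻¹) (e.z : G) ∨ IsConj (c * g * c⁻¹) (e.s : G) := fun r hr hor =>
      hor.imp (Grp.GTwoSylow.isConj_of_eq hr).trans (Grp.GTwoSylow.isConj_of_eq hr).trans
    have hfst : ∀ r : ↥(S : Subgroup G), (∃ a b, r = e.pt a b * e.i ∨
        r = e.pt a b * (e.i * e.s)) → (e.cls r).1 ≠ 1 := by
      rintro r ⟨a, b, rfl | rfl⟩
      · rw [e.cls_i]; decide
      · rw [e.cls_is]; decide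
    have hsq : ∀ r, h * (⟨_, hc⟩ : ↥(S : Subgroup G)) * h⁻¹ = r → r * r = 1 := by
      rintro r rfl
      calc h * (⟨_, hc⟩ : ↥(S : Subgroup G)) * h⁻¹ * (h * ⟨_, hc⟩ * h⁻¹)
          = h * ((⟨_, hc⟩ : ↥(S : Subgroup G)) * ⟨_, hc⟩) * h⁻¹ := by group
        _ = 1 := by rw [h1]; group
    rcases hh with h' | h' | h' | h' | h' | h' | h'
    · exact key _ h' (Or.inl (IsConj.refl _))
    · exact key _ h' (Or.inl (Grp.GTwoSylow.z_conj_t e))
    · exact key _ h' (conj_of_fst e (hsq _ h') (hfst _ ⟨0, 0, Or.inl (by rw [e.pt_zero, one_mul])⟩))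
    · exact key _ h' (conj_of_fst e (hsq _ h') (hfst _ ⟨1, 1, Or.inl rfl⟩))
    · exact key _ h' (conj_of_fst e (hsq _ h') (hfst _ ⟨1, 0, Or.inl rfl⟩))
    · exact key _ h' (Or.inr (IsConj.refl _))
    · exact key _ h' (conj_of_fst e (hsq _ h') (hfst _ ⟨0, 0, Or.inr (by rw [e.pt_zero, one_mul])⟩))
  have hs : ¬ IsConj (e.s : G) (e.z : G) := fun hsz => by
    obtain ⟨x, y, hx, hy, hxy⟩ := h2
    have h1 : ∀ g : G, orderOf g = 2 → IsConj g (e.z : G) := fun g hg => (hall g hg).elim id fun h => h.trans hsz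
    exact hxy ((h1 x hx).trans (h1 y hy).symm)
  have hk := k_eq_two e hs
  obtain ⟨c, hc2, -, hc32⟩ := exists_coord e hk
  have hN : e.toRel.N = 4 := by rw [Rel.N, hk]; rfl
  have hm : e.toRel.m.val = 2 := by
    have h : 2 ^ (e.k - 1) = 2 := by rw [hk]; rfl
    rw [Rel.m, h, ZMod.val_natCast, hN]
  have ht : ((e.t : ↥(S : Subgroup G)) : G) = c.el 2 := by
    rw [hc2, Rel.t, Rel.pt, hm, ZMod.val_zero, pow_zero, mul_one]
  have hz : ((e.z : ↥(S : Subgroup G)) : G) = c.el 10 := by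
    rw [show c.el 10 = c.el 2 * c.el 8 by rw [c.mul]; rfl]
    have h8 : c.el 8 = c.el 32 * c.el 2 * (c.el 32)⁻¹ := by
      rw [← c.el_conj]; exact congrArg c.el (by decide)
    rw [h8, hc2, hc32, Rel.z, Rel.pt, hm, ← Subgroup.coe_inv, ← Subgroup.coe_mul, ← Subgroup.coe_mul,
      ← Subgroup.coe_mul]
    refine congrArg Subtype.val ?_
    rw [(SemiconjBy.pow_right (show SemiconjBy e.s e.x e.y from e.sx) 2).eq, mul_inv_cancel_right]
  let d : Setting G :=
    { simple := inferInstance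
      P := S
      frame := e
      co := c
      z_conj_t := by rw [← ht, ← hz]; exact Grp.GTwoSylow.z_conj_t e
      s_not := by rw [hc32, ← hz]; exact hs }
  obtain ⟨d', hd'⟩ := d.exists_normal
  exact d'.isoM12 hd'

end Frame

end Cfsg.Agent.Invol.TwelveType
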