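import Cfsg.Agent.Lib.Grp.GTwoSylow.Frame

/-!
The group `(Z/4 × Z/4) ⋊ V₄` of order 64 on indices `a + 4 b + 16 p + 32 r`, standing for
`x ^ a * y ^ b * i ^ p * s ^ r`, and the isomorphism from a frame with `k = 2`.
-/

set_option autoImplicit false
set_option linter.style.haveILetI false

namespace Cfsg.Agent.Invol.TwelveType

open Cfsg.Agent.Grp.GTwoSylow

/-- Multiplication of indices. -/
def mulI (n m : Fin 64) : Fin 64 :=
  let a := n.val % 4
  let b := n.val / 4 % 4
  let p := n.val / 16 % 2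
  let r := n.val / 32
  let c := if r = 1 then m.val / 4 % 4 else m.val % 4
  let d := if r = 1 then m.val % 4 else m.val / 4 % 4
  let c' := if p = 1 then 4 - c else c
  let d' := if p = 1 then 4 - d else d
  ⟨((a + c') % 4 + 4 * ((b + d') % 4) + 16 * ((p + m.val / 16 % 2) % 2) + 32 * ((r + m.val / 32) % 2)) % 64,
    Nat.mod_lt _ (by norm_num)⟩

/-- Inverse of indices. -/
def invI (n : Fin 64) : Fin 64 :=
  let a := n.val % 4
  let b := n.val / 4 % 4
  let p := n.val / 16 % 2
  let r := n.val / 32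
  let c := if r = 1 then b else a
  let d := if r = 1 then a else b
  ⟨((if p = 1 then c else (4 - c) % 4) + 4 * (if p = 1 then d else (4 - d) % 4) + 16 * p + 32 * r) % 64,
    Nat.mod_lt _ (by norm_num)⟩

/-- Commuting indices. -/
def comI (n m : Fin 64) : Bool := mulI n m == mulI m n

/-- Conjugation of indices. -/
def conjI (h n : Fin 64) : Fin 64 := mulI (mulI h n) (invI h)

theorem invI_mul : ∀ n : Fin 64, mulI n (invI n) = 0 ∧ mulI (invI n) n = 0 := by decide +kernel

variable {S : Type*} [Group S]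

/-- The element of an index. -/
def elt (e : Rel S) (n : Fin 64) : S :=
  e.x ^ (n.val % 4) * e.y ^ (n.val / 4 % 4) * e.i ^ (n.val / 16 % 2) * e.s ^ (n.val / 32)

theorem pow_mod {g : S} {m : ℕ} (hg : g ^ m = 1) (n : ℕ) : g ^ n = g ^ (n % m) := by
  conv_lhs => rw [← Nat.mod_add_div n m, pow_add, pow_mul, hg, one_pow, mul_one]

theorem elt_mul (e : Frame S) (hk : e.k = 2) (n m : Fin 64) :
    elt e.toRel n * elt e.toRel m = elt e.toRel (mulI n m) := by
  have hx : e.x ^ 4 = 1 := by have := e.xN; rwa [hk] at this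
  have hy : e.y ^ 4 = 1 := by have := e.yN; rwa [hk] at this
  have hi : e.i ^ 2 = 1 := by rw [pow_two, e.ii]
  have hs : e.s ^ 2 = 1 := by rw [pow_two, e.ss]
  have hxy : Commute e.x e.y := e.xy
  have hsi : Commute e.s e.i := e.si
  have key : ∀ p r : ℕ, p < 2 → r < 2 → ∀ c d : ℕ, c < 4 → d < 4 → e.i ^ p * e.s ^ r * (e.x ^ c * e.y ^ d) =
      e.x ^ (if p = 1 then 4 - (if r = 1 then d else c) else (if r = 1 then d else c)) *
        e.y ^ (if p = 1 then 4 - (if r = 1 then c else d) else (if r = 1 then c else d)) *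
          (e.i ^ p * e.s ^ r) := by
    have si' : ∀ c d : ℕ, e.s * (e.x ^ c * e.y ^ d) = e.x ^ d * e.y ^ c * e.s := fun c d => by
      rw [← mul_assoc, (SemiconjBy.pow_right (show SemiconjBy e.s e.x e.y from e.sx) c).eq, mul_assoc,
        (SemiconjBy.pow_right (show SemiconjBy e.s e.y e.x from e.sy) d).eq, ← mul_assoc,
        (hxy.symm.pow_pow c d).eq]
    have ii' : ∀ c d : ℕ, c ≤ 4 → d ≤ 4 →
        e.i * (e.x ^ c * e.y ^ d) = e.x ^ (4 - c) * e.y ^ (4 - d) * e.i := fun c d hc hd => by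
      have h1 : (e.x⁻¹) ^ c = e.x ^ (4 - c) := by
        rw [inv_pow, inv_eq_of_mul_eq_one_left]
        rw [← pow_add, Nat.sub_add_cancel hc, hx]
      have h2 : (e.y⁻¹) ^ d = e.y ^ (4 - d) := by
        rw [inv_pow, inv_eq_of_mul_eq_one_left]
        rw [← pow_add, Nat.sub_add_cancel hd, hy]
      rw [← mul_assoc, (SemiconjBy.pow_right (show SemiconjBy e.i e.x e.x⁻¹ from e.ix) c).eq, mul_assoc,
        (SemiconjBy.pow_right (show SemiconjBy e.i e.y e.y⁻¹ from e.iy) d).eq, ← mul_assoc, h1, h2]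
    intro p r hp hr c d hc hd
    interval_cases p <;> interval_cases r <;>
      simp only [pow_zero, pow_one, one_mul, mul_one, ↓reduceIte, Nat.one_ne_zero, zero_ne_one, if_true, if_false]
    · rw [si']
    · rw [ii' c d hc.le hd.le]
    · rw [mul_assoc, si', ← mul_assoc, ii' d c hd.le hc.le, mul_assoc]
  have hn : n.val < 64 := n.isLt
  have hm : m.val < 64 := m.isLt
  simp only [elt]
  set a := n.val % 4
  set b := n.val / 4 % 4
  set p := n.val / 16 % 2 with hp
  set r := n.val / 32 with hr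
  set c := m.val % 4 with hc
  set d := m.val / 4 % 4 with hd
  set q := m.val / 16 % 2 with hq
  set u := m.val / 32 with hu
  rw [show e.x ^ a * e.y ^ b * e.i ^ p * e.s ^ r * (e.x ^ c * e.y ^ d * e.i ^ q * e.s ^ u) =
      e.x ^ a * e.y ^ b * (e.i ^ p * e.s ^ r * (e.x ^ c * e.y ^ d)) * e.i ^ q * e.s ^ u by group,
    key p r (by omega) (by omega) c d (by omega) (by omega)]
  set c' := if p = 1 then 4 - (if r = 1 then d else c) else (if r = 1 then d else c) with hc'
  set d' := if p = 1 then 4 - (if r = 1 then c else d) else (if r = 1 then c else d) with hd'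
  have hval : (mulI n m).val =
      (a + c') % 4 + 4 * ((b + d') % 4) + 16 * ((p + q) % 2) + 32 * ((r + u) % 2) := by
    simp only [mulI, ← hc, ← hd, ← hp, ← hr, ← hq, ← hu]
    rw [← hc', ← hd']
    omega
  rw [hval,
    show ((a + c') % 4 + 4 * ((b + d') % 4) + 16 * ((p + q) % 2) + 32 * ((r + u) % 2)) % 4 = (a + c') % 4 by omega,
    show ((a + c') % 4 + 4 * ((b + d') % 4) + 16 * ((p + q) % 2) + 32 * ((r + u) % 2)) / 4 % 4 = (b + d') % 4 by omega,
    show ((a + c') % 4 + 4 * ((b + d') % 4) + 16 * ((p + q) % 2) + 32 * ((r + u) % 2)) / 16 % 2 = (p + q) % 2 by omega,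
    show ((a + c') % 4 + 4 * ((b + d') % 4) + 16 * ((p + q) % 2) + 32 * ((r + u) % 2)) / 32 = (r + u) % 2 by omega,
    ← pow_mod hx (a + c'), ← pow_mod hy (b + d'), ← pow_mod hi (p + q), ← pow_mod hs (r + u), pow_add, pow_add,
    pow_add, pow_add]
  calc e.x ^ a * e.y ^ b * (e.x ^ c' * e.y ^ d' * (e.i ^ p * e.s ^ r)) * e.i ^ q * e.s ^ u
      = e.x ^ a * (e.y ^ b * e.x ^ c') * e.y ^ d' * e.i ^ p * (e.s ^ r * e.i ^ q) * e.s ^ u := by group
    _ = e.x ^ a * (e.x ^ c' * e.y ^ b) * e.y ^ d' * e.i ^ p * (e.i ^ q * e.s ^ r) * e.s ^ u := by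
      rw [(hxy.symm.pow_pow b c').eq, (hsi.pow_pow r q).eq]
    _ = _ := by group

theorem elt_surj (e : Frame S) (hk : e.k = 2) (g : S) : ∃ n, elt e.toRel n = g := by
  obtain ⟨a, b, ⟨p, r⟩, rfl⟩ := e.nf_surj g
  have hN : e.toRel.N = 4 := by rw [Rel.N, hk]; rfl
  have ha : a.val < 4 := hN ▸ a.val_lt
  have hb : b.val < 4 := hN ▸ b.val_lt
  refine ⟨⟨a.val + 4 * b.val + (if p then 16 else 0) + (if r then 32 else 0),
    by rcases p <;> rcases r <;> simp <;> omega⟩, ?_⟩
  have e1 : (a.val + 4 * b.val + (if p then 16 else 0) + (if r then 32 else 0)) % 4 = a.val := by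
    rcases p <;> rcases r <;> simp <;> omega
  have e2 : (a.val + 4 * b.val + (if p then 16 else 0) + (if r then 32 else 0)) / 4 % 4 = b.val := by
    rcases p <;> rcases r <;> simp <;> omega
  have e3 : (a.val + 4 * b.val + (if p then 16 else 0) + (if r then 32 else 0)) / 16 % 2 = if p then 1 else 0 := by
    rcases p <;> rcases r <;> simp <;> omega
  have e4 : (a.val + 4 * b.val + (if p then 16 else 0) + (if r then 32 else 0)) / 32 = if r then 1 else 0 := by
    rcases p <;> rcases r <;> simp <;> omega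
  simp only [elt, Rel.nf, Rel.pt, e1, e2, e3, e4]
  rcases p <;> rcases r <;> simp [mul_assoc]

/-- Coordinates on a subgroup. -/
structure Coord {G : Type*} [Group G] (S : Subgroup G) where
  el : Fin 64 → G
  inj : Function.Injective el
  mul : ∀ n m, el n * el m = el (mulI n m)
  mem : ∀ g, g ∈ S ↔ ∃ n, el n = g

theorem exists_coord {G : Type*} [Group G] {S : Subgroup G} (e : Frame S) (hk : e.k = 2) :
    ∃ c : Coord S, c.el 2 = ((e.x ^ 2 : S) : G) ∧ c.el 16 = (e.i : G) ∧ c.el 32 = (e.s : G) := by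
  have hinj : Function.Injective (elt e.toRel) := by
    haveI : Finite S := Nat.finite_of_card_ne_zero (by rw [e.card]; positivity)
    exact ((Nat.bijective_iff_surjective_and_card (elt e.toRel)).2
      ⟨elt_surj e hk, by rw [e.card, hk, Nat.card_fin]; rfl⟩).1
  refine ⟨⟨fun n => ((elt (S := S) e.toRel n : S) : G), fun a b h => hinj (Subtype.ext h),
    fun n m => by rw [← Subgroup.coe_mul, elt_mul e hk], fun g => ⟨fun hg => ?_, ?_⟩⟩, ?_, ?_, ?_⟩
  · obtain ⟨n, hn⟩ := elt_surj e hk ⟨g, hg⟩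
    exact ⟨n, congrArg Subtype.val hn⟩
  · rintro ⟨n, rfl⟩
    exact Subtype.coe_prop _
  all_goals simp [elt]

end Cfsg.Agent.Invol.TwelveType
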