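import Cfsg.Agent.Lib.Invol.TwelveType.ClosedMain
import Cfsg.Agent.Lib.Invol.TwelveType.AutFacts

/-! An element of `C` normalising the normal eight group and moving `t` out of the plane. -/

set_option autoImplicit false
set_option linter.style.haveILetI false
set_option linter.unusedSectionVars false

namespace Cfsg.Agent.Invol.TwelveType

open Subgroup Cfsg.Agent.Grp

universe u

variable {G : Type u} [Group G] [Finite G]

theorem planeP_sub : ∀ p ∈ planeP, p ∈ eightI := by decide +kernel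

namespace Setting

/-- Mapping the normal eight group to itself. -/
def FixesI (d : Setting G) (g : G) : Prop := ∀ a ∈ eightI, ∃ b ∈ eightI, d.co.el b = g * d.co.el a * g⁻¹

variable {d : Setting G}

theorem FixesI.mul {g h : G} (hg : d.FixesI g) (hh : d.FixesI h) : d.FixesI (g * h) := fun a ha => by
  obtain ⟨b, hb, e⟩ := hh a ha
  obtain ⟨c, hc, e'⟩ := hg b hb
  exact ⟨c, hc, by rw [e', e]; group⟩

theorem fixesI_el (h : Fin 64) : d.FixesI (d.co.el h) := fun a ha =>
  ⟨conjI h a, List.contains_iff_mem.1 (List.all_eq_true.1 (of_t64 eightI_normal h) a ha), d.co.el_conj h a⟩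

theorem FixesI.surj {g : G} (hg : d.FixesI g) {b : Fin 64} (hb : b ∈ eightI) :
    ∃ a ∈ eightI, d.co.el b = g * d.co.el a * g⁻¹ := by
  classical
  choose f hf hf' using hg
  have hsurj : (eightI.attach.map fun y => f y.1 y.2).toFinset = eightI.toFinset := by
    refine Finset.eq_of_subset_of_card_le (fun x hx => ?_) ?_
    · obtain ⟨y, -, rfl⟩ := List.mem_map.1 (List.mem_toFinset.1 hx)
      exact List.mem_toFinset.2 (hf y.1 y.2)
    · rw [List.toFinset_card_of_nodup (l := eightI.attach.map fun y => f y.1 y.2)]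
      · simp; decide
      · refine (List.nodup_attach.2 (by decide)).map fun p q e' => Subtype.ext (d.co.inj ?_)
        have := congrArg d.co.el e'
        rwa [hf' p.1 p.2, hf' q.1 q.2, mul_left_inj, mul_right_inj] at this
  have he' : b ∈ (eightI.attach.map fun y => f y.1 y.2).toFinset := hsurj ▸ List.mem_toFinset.2 hb
  obtain ⟨y, -, rfl⟩ := List.mem_map.1 (List.mem_toFinset.1 he')
  exact ⟨y.1, y.2, hf' y.1 y.2⟩

theorem FixesI.inv {g : G} (hg : d.FixesI g) : d.FixesI g⁻¹ := fun a ha => by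
  obtain ⟨b, hb, e⟩ := hg.surj ha
  exact ⟨b, hb, by rw [e]; group⟩

variable (hk : IsConj (d.co.el 32) (d.co.el 21))
include hk

/-- An element fixing the eight group and moving the plane. -/
theorem exists_plane_mover : ∃ g : G, d.FixesI g ∧
    ∃ p ∈ planeP, ∀ b, d.co.el b = g * d.co.el p * g⁻¹ → b ∉ planeP := by
  haveI : Fact (Nat.Prime 2) := ⟨Nat.prime_two⟩
  obtain ⟨g0, hg0⟩ := _root_.isConj_iff.1 (Z_i hk)
  set R := ((d.P : Subgroup G) ⊓ centralizer ({d.co.el 16} : Set G)).map (MulAut.conj g0).toMonoidHom with hR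
  have hRC : R ≤ d.C := by
    rintro _ ⟨x, hx, rfl⟩
    refine mem_C.2 ?_
    have hx' : x * d.co.el 16 = d.co.el 16 * x := mem_centralizer_singleton_iff.1 hx.2
    show g0 * x * g0⁻¹ * d.co.el 10 = d.co.el 10 * (g0 * x * g0⁻¹)
    rw [← hg0]
    calc g0 * x * g0⁻¹ * (g0 * d.co.el 16 * g0⁻¹) = g0 * (x * d.co.el 16) * g0⁻¹ := by group
      _ = g0 * (d.co.el 16 * x) * g0⁻¹ := by rw [hx']
      _ = _ := by group
  obtain ⟨h, hhC, hh⟩ := exists_into (d := d) (R := R) ((d.P.isPGroup'.to_le inf_le_left).map _) hRC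
  set g := h * g0 with hg
  have hgi : g * d.co.el 16 * g⁻¹ = d.co.el 10 := by
    rw [hg, show h * g0 * d.co.el 16 * (h * g0)⁻¹ = h * (g0 * d.co.el 16 * g0⁻¹) * h⁻¹ by group, hg0, mem_C.1 hhC]
    group
  have hcom16 : ∀ x ∈ eightI, comI x 16 = true := fun x hx => by
    revert hx; revert x; decide +kernel
  obtain ⟨m, hm⟩ := d.co.exists_map (g := g) (s := fun n => comI n 16) fun n hn => by
    rw [hg, show h * g0 * d.co.el n * (h * g0)⁻¹ = h * (g0 * d.co.el n * g0⁻¹) * h⁻¹ by group]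
    exact hh _ ⟨d.co.el n, ⟨d.co.mem_el n, mem_centralizer_singleton_iff.2 (d.co.com_iff.1 hn)⟩, rfl⟩
  have hl : ∀ x ∈ eightI, d.co.el (m x) = g * d.co.el x * g⁻¹ := fun x hx => hm x (hcom16 x hx)
  have hI : ∀ {a b}, a ∈ eightI → b ∈ eightI → mulI a b ∈ eightI := fun {a b} ha hb => by
    revert ha hb; revert a b; decide +kernel
  have key : ∀ x y, x ∈ eightI → y ∈ eightI → m (mulI x y) = mulI (m x) (m y) := fun x y hx hy => d.co.inj (by
    rw [hl _ (hI hx hy), ← d.co.mul, ← d.co.mul, hl x hx, hl y hy]; group)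
  have hinj : ∀ x ∈ eightI, ∀ y ∈ eightI, m x = m y → x = y := fun x hx y hy e => d.co.inj (by
    have := congrArg d.co.el e
    rwa [hl x hx, hl y hy, mul_left_inj, mul_right_inj] at this)
  have h16 : m 16 = 10 := d.co.inj (by rw [hl 16 (by decide), hgi])
  have h0 : m 0 = 0 := d.co.el_eq_one.1 (by rw [hl 0 (by decide), d.co.el_zero]; group)
  have heq : genList (m 2) (m 10) = [0, 16, 2, 10, 18, 26, 8, 24].map m := by
    simp only [genList, List.map_cons, List.map_nil, h0, h16]
    simp only [show (18 : Fin 64) = mulI 16 2 from by decide, show (26 : Fin 64) = mulI 16 10 from by decide,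
      show (8 : Fin 64) = mulI 2 10 from by decide, show (24 : Fin 64) = mulI 16 (mulI 2 10) from by decide]
    simp only [key 16 2 (by decide) (by decide), key 16 10 (by decide) (by decide), key 2 10 (by decide) (by decide),
      key 16 (mulI 2 10) (by decide) (by decide), h16]
  have hperm : ∀ x, x ∈ [(0 : Fin 64), 16, 2, 10, 18, 26, 8, 24] ↔ x ∈ eightI := by decide +kernel
  have hmem : ∀ y, y ∈ genList (m 2) (m 10) ↔ y ∈ eightI.map m := fun y => by
    rw [heq, List.mem_map, List.mem_map]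
    simp only [hperm]
  have hz : ∀ x ∈ eightI, x ≠ 0 → m x ∈ zList := fun x hx h0' => (Z_iff hk).1
    ((_root_.isConj_iff.2 ⟨g, (hl x hx).symm⟩ : IsConj (d.co.el x) (d.co.el (m x))).symm.trans ((Z_iff hk).2 (by
      simpa [h0'] using List.all_eq_true.1 eight_z.1 x hx)))
  have hpure : sameSet (genList (m 2) (m 10)) eightI = true ∨ sameSet (genList (m 2) (m 10)) eightU = true ∨
      sameSet (genList (m 2) (m 10)) eightU' = true := by
    have := List.all_eq_true.1 (List.all_eq_true.1 pure_all (m 2) (hz 2 (by decide) (by decide))) (m 10)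
      (hz 10 (by decide) (by decide))
    simp only [Bool.or_eq_true, Bool.not_eq_true'] at this
    rcases this with ((hcon | e) | e) | e
    rotate_left
    · exact Or.inl e
    · exact Or.inr (Or.inl e)
    · exact Or.inr (Or.inr e)
    exfalso
    rw [Bool.eq_false_iff] at hcon
    refine hcon ?_
    simp only [Bool.and_eq_true, List.all_eq_true, decide_eq_true_eq, Bool.or_eq_true, beq_iff_eq,
      List.contains_iff_mem]
    refine ⟨⟨fun x hx => ?_, ?_⟩, ?_⟩
    · obtain ⟨y, hy, rfl⟩ := List.mem_map.1 ((hmem x).1 hx)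
      by_cases hy0 : y = 0
      · exact Or.inl (hy0 ▸ h0)
      · exact Or.inr (hz y hy hy0)
    · rw [comI, beq_iff_eq, ← key 2 10 (by decide) (by decide), ← key 10 2 (by decide) (by decide)]
      exact congrArg m (by decide)
    · rw [heq]
      refine List.Nodup.map_on (fun x hx y hy e => hinj x ((hperm x).1 hx) y ((hperm y).1 hy) e) (by decide)
  rcases hpure with hs | hs
  · have hfix : d.FixesI g := fun a ha => ⟨m a, (sameSet_mem hs _).1 ((hmem _).2 (List.mem_map_of_mem ha)), hl a ha⟩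
    refine ⟨g, hfix, ?_⟩
    by_contra hcon
    push Not at hcon
    have hP : ∀ p ∈ planeP, m p ∈ planeP := fun p hp => by
      obtain ⟨b, hb, hbP⟩ := hcon p hp
      rwa [d.co.inj ((hl p (planeP_sub p hp)).trans hb.symm)]
    have hsub : ∀ p ∈ planeP, p ∈ eightI := by decide +kernel
    have : (planeP.map m).toFinset = planeP.toFinset := by
      refine Finset.eq_of_subset_of_card_le (fun x hx => ?_) ?_
      · obtain ⟨p, hp, rfl⟩ := List.mem_map.1 (List.mem_toFinset.1 hx)
        exact List.mem_toFinset.2 (hP p hp)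
      · rw [List.toFinset_card_of_nodup (l := planeP.map m)
          (List.Nodup.map_on (fun x hx y hy e => hinj x (hsub x hx) y (hsub y hy) e) (by decide))]
        simp; decide
    have h10 : m 16 ∈ (planeP.map m).toFinset := by rw [this, h16]; decide
    obtain ⟨p, hp, hpe⟩ := List.mem_map.1 (List.mem_toFinset.1 h10)
    have := hinj p (hsub p hp) 16 (by decide) hpe
    subst this
    exact absurd hp (by decide)
  -- the image is the eight group of `x i` or its conjugate under `s`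
  obtain ⟨k, f, hk', hkU, hk16⟩ : ∃ (k : G) (f : Fin 64 → Fin 64), (∀ x ∈ eightI, d.co.el (f x) = k * d.co.el x * k⁻¹) ∧
      (∀ y, y ∈ eightU ↔ ∃ x ∈ eightI, f x = y) ∧ f 16 = 10 := by
    rcases hs with hs | hs
    · exact ⟨g, m, hl, fun y => ((sameSet_mem hs y).symm.trans (hmem y)).trans List.mem_map, h16⟩
    · refine ⟨d.co.el 32 * g, fun x => conjI 32 (m x), fun x hx => by rw [d.co.el_conj, hl x hx]; group,
        fun y => ⟨fun hy => ?_, ?_⟩, by show conjI 32 (m 16) = 10; rw [h16]; decide +kernel⟩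
      · have hy' : conjI 32 y ∈ eightU' ∧ conjI 32 (conjI 32 y) = y := by revert hy; revert y; decide +kernel
        obtain ⟨x, hx, hxe⟩ := List.mem_map.1 ((hmem _).1 ((sameSet_mem hs _).2 hy'.1))
        exact ⟨x, hx, by show conjI 32 (m x) = y; rw [hxe]; exact hy'.2⟩
      · rintro ⟨x, hx, rfl⟩
        exact List.contains_iff_mem.1 (List.all_eq_true.1 eightU_swap.1 _
          ((sameSet_mem hs _).1 ((hmem _).2 (List.mem_map_of_mem hx))))
  have finj : ∀ x ∈ eightI, ∀ y ∈ eightI, f x = f y → x = y := fun x hx y hy e => d.co.inj (by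
    have := congrArg d.co.el e
    rwa [hk' x hx, hk' y hy, mul_left_inj, mul_right_inj] at this)
  have f0 : f 0 = 0 := d.co.el_eq_one.1 (by rw [hk' 0 (by decide), d.co.el_zero]; group)
  have f10 : f 10 = mulI (f 2) (f 8) := d.co.inj (by
    rw [← d.co.mul, hk' 2 (by decide), hk' 8 (by decide), hk' 10 (by decide),
      show d.co.el 10 = d.co.el 2 * d.co.el 8 by rw [d.co.mul]; rfl]
    group)
  have hU : ∀ x ∈ eightI, f x ∈ eightU := fun x hx => (hkU _).2 ⟨x, hx, rfl⟩
  have hne : ∀ x ∈ eightI, x ≠ 0 → f x ≠ 0 := fun x hx h e => h (finj x hx 0 (by decide) (e.trans f0.symm))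
  have hne10 : ∀ x ∈ eightI, x ≠ 16 → f x ≠ 10 := fun x hx h e => h (finj x hx 16 (by decide) (e.trans hk16.symm))
  have hmv := List.all_eq_true.1 (List.all_eq_true.1 moves_plane (f 2) (hU 2 (by decide))) (f 8) (hU 8 (by decide))
  simp only [beq_eq_false_iff_ne.2 (hne 2 (by decide) (by decide)), beq_eq_false_iff_ne.2 (hne 8 (by decide) (by decide)),
    beq_eq_false_iff_ne.2 (hne10 2 (by decide) (by decide)), beq_eq_false_iff_ne.2 (hne10 8 (by decide) (by decide)),
    beq_eq_false_iff_ne.2 (fun e => absurd (finj 2 (by decide) 8 (by decide) e) (by decide) : f 2 ≠ f 8),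
    ← f10, beq_eq_false_iff_ne.2 (hne10 10 (by decide) (by decide)), Bool.not_false, Bool.and_self, Bool.not_true,
    Bool.false_or] at hmv
  obtain ⟨n, hn⟩ := of_s64 hmv
  simp only [Bool.and_eq_true, decide_eq_true_eq, Bool.or_eq_true, Bool.not_eq_true', ← Bool.not_eq_true,
    List.contains_iff_mem] at hn
  obtain ⟨hn32, hn⟩ := hn
  have hlowU : ∀ a ∈ eightU, conjI n a ∈ eightU := fun a ha => by
    have := of_t64 low_ok.2.2.2.1 n
    simp only [Bool.or_eq_true, decide_eq_true_eq, List.all_eq_true, List.contains_iff_mem] at this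
    exact this.resolve_left (by omega) a ha
  refine ⟨k⁻¹ * d.co.el n * k, fun a ha => ?_, ?_⟩
  · obtain ⟨b, hb, hbe⟩ := (hkU _).1 (hlowU _ (hU a ha))
    refine ⟨b, hb, ?_⟩
    have h1 := hk' b hb
    rw [hbe, d.co.el_conj, hk' a ha] at h1
    calc d.co.el b = k⁻¹ * (k * d.co.el b * k⁻¹) * k := by group
      _ = _ := by rw [← h1]; group
  · have hout : ∀ p ∈ [(2 : Fin 64), 8], conjI n (f p) ∉ [0, f 2, f 8, f 10] →
        ∀ b, d.co.el b = (k⁻¹ * d.co.el n * k) * d.co.el p * (k⁻¹ * d.co.el n * k)⁻¹ → b ∉ planeP := by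
      intro p hp hnot b hb hbP
      have hbI : b ∈ eightI := planeP_sub b hbP
      have hpI : p ∈ eightI := by rcases (by simpa using hp : p = 2 ∨ p = 8) with e | e <;> subst e <;> decide
      have he : f b = conjI n (f p) := d.co.inj (by rw [hk' b hbI, d.co.el_conj, hk' p hpI, hb]; group)
      rw [← he] at hnot
      rcases (by simpa [planeP] using hbP : b = 0 ∨ b = 2 ∨ b = 8 ∨ b = 10) with e | e | e | e <;>
        rw [e] at hnot <;> simp [f0] at hnot
    rcases hn with hn | hn
    · exact ⟨2, by decide, hout 2 (by decide) hn⟩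
    · exact ⟨8, by decide, hout 8 (by decide) hn⟩

/-- The element of `C`. -/
theorem exists_mover : ∃ g ∈ d.C, d.FixesI g ∧ ∀ b, d.co.el b = g * d.co.el 2 * g⁻¹ → b ∉ planeP := by
  obtain ⟨g, hg, p, hp, hpb⟩ := exists_plane_mover hk
  classical
  have hgx : ∀ a, ∃ b, a ∈ eightI → b ∈ eightI ∧ d.co.el b = g * d.co.el a * g⁻¹ := fun a => by
    by_cases ha : a ∈ eightI
    · obtain ⟨b, hb, e⟩ := hg a ha; exact ⟨b, fun _ => ⟨hb, e⟩⟩
    · exact ⟨0, fun e => absurd e ha⟩
  choose f hf using hgx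
  have key : ∀ x y, x ∈ eightI → y ∈ eightI → mulI x y ∈ eightI → f (mulI x y) = mulI (f x) (f y) :=
    fun x y hx hy hxy => d.co.inj (by
      rw [(hf _ hxy).2, ← d.co.mul, ← d.co.mul, (hf x hx).2, (hf y hy).2]; group)
  have hext : ∀ n ∈ eightI, ext8 (f 10) (f 2) (f 16) n = f n := by
    have h0 : f 0 = 0 := d.co.el_eq_one.1 (by rw [(hf 0 (by decide)).2, d.co.el_zero]; group)
    have e8 := key 10 2 (by decide) (by decide) (by decide)
    have e26 := key 10 16 (by decide) (by decide) (by decide)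
    have e18 := key 2 16 (by decide) (by decide) (by decide)
    have e24 := key (mulI 10 2) 16 (by decide) (by decide) (by decide)
    rw [e8] at e24
    intro n hn
    rcases (by simpa [eightI] using hn : n = 0 ∨ n = 2 ∨ n = 8 ∨ n = 10 ∨ n = 16 ∨ n = 18 ∨ n = 24 ∨ n = 26) with
      e | e | e | e | e | e | e | e <;> subst e
    exacts [h0.symm, rfl, e8.symm, rfl, rfl, e18.symm, e24.symm, e26.symm]
  have hgood := List.all_eq_true.1 (List.all_eq_true.1 (List.all_eq_true.1 good_word (f 10) (hf 10 (by decide)).1)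
    (f 2) (hf 2 (by decide)).1) (f 16) (hf 16 (by decide)).1
  have hmap : eightI.map (ext8 (f 10) (f 2) (f 16)) = eightI.map f := List.map_congr_left hext
  have hsubP : ∀ p ∈ planeP, p ∈ eightI := by decide +kernel
  have hcond : ((eightI.map (ext8 (f 10) (f 2) (f 16))).all (fun x => eightI.contains x) &&
      decide (eightI.map (ext8 (f 10) (f 2) (f 16))).Nodup &&
      planeP.any (fun p => !planeP.contains (ext8 (f 10) (f 2) (f 16) p))) = true := by
    simp only [hmap, Bool.and_eq_true, List.all_eq_true, List.contains_iff_mem, decide_eq_true_eq, List.any_eq_true,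
      Bool.not_eq_true', ← Bool.not_eq_true]
    refine ⟨⟨fun x hx => ?_, ?_⟩, p, hp, ?_⟩
    · obtain ⟨a, ha, rfl⟩ := List.mem_map.1 hx
      exact (hf a ha).1
    · refine List.Nodup.map_on (fun x hx y hy e => d.co.inj ?_) (by decide)
      have := congrArg d.co.el e
      rwa [(hf x hx).2, (hf y hy).2, mul_left_inj, mul_right_inj] at this
    · rw [hext p (hsubP p hp)]
      exact hpb _ (hf p (hsubP p hp)).2
  rw [hcond, Bool.not_true, Bool.false_or] at hgood
  set F := ext8 (f 10) (f 2) (f 16) with hF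
  have hFel : ∀ n ∈ eightI, d.co.el (F n) = g * d.co.el n * g⁻¹ := fun n hn => by rw [hext n hn]; exact (hf n hn).2
  have hinv : ∀ {n}, n ∈ eightI → d.co.el n = g⁻¹ * d.co.el (F n) * g := fun {n} hn => by rw [hFel n hn]; group
  have hmemI : ∀ n ∈ eightI, F n ∈ eightI := fun n hn => by rw [hext n hn]; exact (hf n hn).1
  have hconjmem : ∀ h n, n ∈ eightI → conjI h n ∈ eightI := fun h n hn =>
    List.contains_iff_mem.1 (List.all_eq_true.1 (of_t64 eightI_normal h) n hn)
  have hout : ∀ {k : G} {y : Fin 64}, k * d.co.el 10 * k⁻¹ = d.co.el 10 → d.FixesI k →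
      k * d.co.el 2 * k⁻¹ = d.co.el y → y ∉ planeP →
      ∃ g ∈ d.C, d.FixesI g ∧ ∀ b, d.co.el b = g * d.co.el 2 * g⁻¹ → b ∉ planeP := by
    intro k y h10 hkI h2 hy
    refine ⟨k, mem_C.2 (mul_inv_eq_iff_eq_mul.1 h10), hkI, fun b hb => ?_⟩
    rwa [d.co.inj (hb.trans h2)]
  simp only [goodWord, Bool.or_eq_true, Bool.and_eq_true, beq_iff_eq, Bool.not_eq_true', ← Bool.not_eq_true,
    List.any_eq_true, List.contains_iff_mem] at hgood
  rcases hgood with ⟨h1, h2⟩ | hgood
  · exact hout (k := g) (by rw [← hFel 10 (by decide), h1]) hg (hFel 2 (by decide)).symm h2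
  obtain ⟨h, hgood⟩ := of_s64 hgood
  simp only [Bool.or_eq_true, Bool.and_eq_true, beq_iff_eq, Bool.not_eq_true', ← Bool.not_eq_true,
    List.any_eq_true, List.contains_iff_mem] at hgood
  rcases hgood with (⟨h1, h2⟩ | ⟨y, hy, ⟨hyP, h1⟩, h2⟩) |
    ⟨x, hx, h1, w, hw, h2, ⟨h3, h4⟩ | ⟨h3, y, hy, hyP, h4⟩⟩
  · refine hout (k := g * d.co.el h * g) ?_ ((hg.mul (fixesI_el h)).mul hg) ?_ h2
    · conv_rhs => rw [← h1, hFel _ (hconjmem h _ (hmemI 10 (by decide))), d.co.el_conj, hFel 10 (by decide)]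
      group
    · rw [hFel _ (hconjmem h _ (hmemI 2 (by decide))), d.co.el_conj, hFel 2 (by decide)]; group
  · refine hout (k := g⁻¹ * d.co.el h * g) ?_ ((hg.inv.mul (fixesI_el h)).mul hg) ?_ hyP
    · rw [hinv (n := 10) (by decide)]
      nth_rewrite 2 [← h1]
      rw [d.co.el_conj]; group
    · rw [hinv hy, ← h2, d.co.el_conj, hFel 2 (by decide)]; group
  · refine hout (k := g * d.co.el h * g⁻¹) ?_ ((hg.mul (fixesI_el h)).mul hg.inv) ?_ h4
    · conv_rhs => rw [← h3, hFel _ (hconjmem h _ hx), d.co.el_conj, hinv hx, h1]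
      group
    · rw [hFel _ (hconjmem h _ hw), d.co.el_conj, hinv hw, h2]; group
  · refine hout (k := g⁻¹ * d.co.el h * g⁻¹) ?_ ((hg.inv.mul (fixesI_el h)).mul hg.inv) ?_ hyP
    · rw [show g⁻¹ * d.co.el h * g⁻¹ * d.co.el 10 * (g⁻¹ * d.co.el h * g⁻¹)⁻¹ =
        g⁻¹ * (d.co.el h * (g⁻¹ * d.co.el 10 * g) * (d.co.el h)⁻¹) * g by group]
      nth_rewrite 1 [← h1]
      rw [← hinv hx, ← d.co.el_conj, ← h3, ← hinv (n := 10) (by decide)]
    · rw [show g⁻¹ * d.co.el h * g⁻¹ * d.co.el 2 * (g⁻¹ * d.co.el h * g⁻¹)⁻¹ =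
        g⁻¹ * (d.co.el h * (g⁻¹ * d.co.el 2 * g) * (d.co.el h)⁻¹) * g by group]
      nth_rewrite 1 [← h2]
      rw [← hinv hw, ← d.co.el_conj, ← h4, ← hinv hy]

end Setting

end Cfsg.Agent.Invol.TwelveType
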