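import Cfsg.Agent.Lib.Invol.TwelveType.LocalFacts

/-! Finite facts for the centraliser modulo its odd core. -/

set_option autoImplicit false
set_option maxRecDepth 100000

namespace Cfsg.Agent.Invol.TwelveType

theorem cent_eight : t64 (fun n => !(eightI.all fun a => comI n a) || eightI.contains n) = true ∧
    t64 (fun n => !(comI n 2 && comI n 16) || eightI.contains n) = true := by decide +kernel

theorem twist_sq : t64 (fun n => !(eightI.all fun a => [0, 10].contains (mulI (conjI n a) a)) ||
    [0, 10].contains (mulI n n)) = true := by decide +kernel

theorem step_z : eightI.all (fun a => a == 0 || a == 10 || s64 fun h => mulI a (conjI h a) == 10 ||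
    s64 fun h' => mulI (mulI a (conjI h a)) (conjI h' (mulI a (conjI h a))) == 10) = true := by decide +kernel

theorem eight_ops : eightI.all (fun a => eightI.all fun b => eightI.contains (mulI a b) && comI a b &&
    invI a == a && mulI a a == 0) = true := by decide +kernel

theorem eight_basis : eightI.all (fun a => a == 0 || a == 10 || a == 2 || a == mulI 10 2 || a == 16 ||
    a == mulI 10 16 || a == mulI 2 16 || a == mulI 10 (mulI 2 16)) = true := by decide +kernel

theorem mul_assocI : t64 (fun a => eightI.all fun b => eightI.all fun c => !(eightI.contains a) ||
    mulI a (mulI b c) == mulI (mulI a b) c) = true := by decide +kernel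

theorem pairs_count : ((eightI.flatMap fun a => eightI.map fun b => (a, b)).filter fun p =>
    !(p.1 == 0) && !(p.1 == 10) && !([0, 10, p.1, mulI 10 p.1].contains p.2)).length = 24 := by decide +kernel

theorem fix_plane : t64 (fun h => [0, 2, 8, 10].contains (conjI h 2)) = true := by decide +kernel

end Cfsg.Agent.Invol.TwelveType
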