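import Cfsg.Agent.Lib.Invol.TwelveType.Setting
import Cfsg.Agent.Lib.Invol.TwelveType.QuotFacts
import Cfsg.Agent.Lib.Fus.Goldschmidt.Main
import Cfsg.Agent.Lib.Grp.Subnormal

/-!
A group without odd core whose Sylow 2-subgroup is of the indexed type, with a central involution and
with the normal eight group strongly closed: the eight group is normal and self-centralising.
-/

set_option autoImplicit false
set_option linter.style.haveILetI false
set_option linter.unusedSectionVars false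

namespace Cfsg.Agent.Invol.TwelveType

open Subgroup Cfsg.Agent.Grp

universe u

theorem eight_ops' {a b : Fin 64} (ha : a ∈ eightI) (hb : b ∈ eightI) :
    mulI a b ∈ eightI ∧ comI a b = true ∧ invI a = a ∧ mulI a a = 0 := by
  have h := List.all_eq_true.1 (List.all_eq_true.1 eight_ops a ha) b hb
  simp only [Bool.and_eq_true, List.contains_iff_mem, beq_iff_eq, decide_eq_true_eq] at h
  exact ⟨h.1.1.1, h.1.1.2, h.1.2, h.2⟩

variable {X : Type u} [Group X] [Finite X]

/-- The data. -/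
structure QuotHyp (X : Type u) [Group X] [Finite X] where
  T : Sylow 2 X
  co : Coord (T : Subgroup X)
  core : Cfsg.pPrimeCore 2 X = ⊥
  central : ∀ x : X, x * co.el 10 = co.el 10 * x
  closed : ∀ a ∈ eightI, ∀ (g : X) (n : Fin 64), co.el n = g * co.el a * g⁻¹ → n ∈ eightI

namespace QuotHyp

variable (q : QuotHyp X)

/-- The eight group. -/
def E : Subgroup X where
  carrier := {g | ∃ n ∈ eightI, q.co.el n = g}
  one_mem' := ⟨0, by decide, q.co.el_zero⟩
  mul_mem' := by
    rintro _ _ ⟨a, ha, rfl⟩ ⟨b, hb, rfl⟩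
    exact ⟨_, (eight_ops' ha hb).1, (q.co.mul a b).symm⟩
  inv_mem' := by
    rintro _ ⟨a, ha, rfl⟩
    exact ⟨a, ha, by rw [← q.co.el_inv, (eight_ops' ha ha).2.2.1]⟩

variable {q}

theorem el_mem_E {n : Fin 64} : q.co.el n ∈ q.E ↔ n ∈ eightI :=
  ⟨fun ⟨_, ha, e⟩ => q.co.inj e ▸ ha, fun h => ⟨n, h, rfl⟩⟩

theorem E_le : q.E ≤ (q.T : Subgroup X) := by rintro _ ⟨n, -, rfl⟩; exact q.co.mem_el n

theorem E_elem : Cfsg.IsElementaryAbelian 2 q.E := by
  refine ⟨⟨⟨?_⟩⟩, ?_⟩
  · rintro ⟨_, a, ha, rfl⟩ ⟨_, b, hb, rfl⟩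
    exact Subtype.ext (q.co.com_iff.1 (eight_ops' ha hb).2.1)
  · rintro _ ⟨a, ha, rfl⟩
    rw [pow_two, q.co.mul, (eight_ops' ha ha).2.2.2, q.co.el_zero]

theorem card_E : Nat.card q.E = 8 := by
  let f : {a : Fin 64 // a ∈ eightI} → ↥q.E := fun a => ⟨q.co.el a, a, a.2, rfl⟩
  have hf : Function.Bijective f := ⟨fun a b h => Subtype.ext (q.co.inj (congrArg Subtype.val h)),
    fun ⟨x, a, ha, hx⟩ => ⟨⟨a, ha⟩, Subtype.ext hx⟩⟩
  rw [← Nat.card_congr (Equiv.ofBijective f hf), Nat.card_eq_fintype_card]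
  rfl

theorem localHyp : Fus.Gold.LocalHyp X q.E := by
  haveI : Fact (Nat.Prime 2) := ⟨Nat.prime_two⟩
  refine ⟨q.core, E_elem, ?_, fun K hK => ?_⟩
  · intro T hT hET x hx g hg
    obtain ⟨P, hP⟩ := hT.exists_le_sylow
    obtain ⟨h, hh⟩ := MulAction.exists_smul_eq X P q.T
    have hmem : ∀ t ∈ T, h * t * h⁻¹ ∈ (q.T : Subgroup X) := fun t ht => by
      rw [← hh, Sylow.coe_subgroup_smul, ← Grp.map_conj_eq_smul]
      exact ⟨t, hP ht, rfl⟩
    have hcl : ∀ a ∈ q.E, ∀ k : X, k * a * k⁻¹ ∈ (q.T : Subgroup X) → k * a * k⁻¹ ∈ q.E := by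
      rintro _ ⟨a, ha, rfl⟩ k hk
      obtain ⟨n, hn⟩ := (q.co.mem _).1 hk
      exact ⟨n, q.closed a ha k n hn, hn⟩
    have hN : h ∈ normalizer (q.E : Set X) := mem_normalizer_fintype fun a ha => hcl a ha h (hmem a (hET ha))
    refine (mem_normalizer_iff.1 hN _).2 ?_
    have h1 := hcl x hx (h * g) (by
      rw [show h * g * x * (h * g)⁻¹ = h * (g * x * g⁻¹) * h⁻¹ by group]; exact hmem _ hg)
    rwa [show h * (g * x * g⁻¹) * h⁻¹ = h * g * x * (h * g)⁻¹ by group]
  · haveI := hK.2.2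
    exact Fus.Gold.conclusion_all _ hK.2.2 (Fus.Gold.not_comm_quotient hK)

theorem el_ten_cent (K : Subgroup X) : q.co.el 10 ∈ centralizer (K : Set X) :=
  mem_centralizer_iff.2 fun k _ => q.central k

/-- No component. -/
theorem no_component (q : QuotHyp X) {K : Subgroup X} (hK : Cfsg.IsComponent K) : False := by
  haveI : Fact (Nat.Prime 2) := ⟨Nat.prime_two⟩
  have h := localHyp (q := q)
  have hT : q.E ≤ (q.T : Subgroup X) := E_le
  have hnE : ∀ n, (∀ a ∈ eightI, comI n a = true) → n ∈ eightI := fun n hn => by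
    have := of_t64 cent_eight.1 n
    simpa [List.all_eq_true.2 hn] using this
  by_cases hm : q.E ≤ centralizer (K : Set X)
  · obtain ⟨P, hP⟩ := Fus.Gold.exists_sylow_quotient h hT hK
    have hbot : (P : Subgroup (↥K ⧸ center ↥K)) = ⊥ := by
      rw [eq_bot_iff]
      intro p hp
      obtain ⟨k, rfl⟩ := QuotientGroup.mk_surjective p
      obtain ⟨n, hn⟩ := (q.co.mem _).1 ((hP k).1 hp)
      rw [mem_bot, Fus.Gold.mk_eq_one hK, ← hn]
      refine hm (el_mem_E.2 (hnE n fun a ha => q.co.com_iff.2 ?_))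
      have h1 := mem_centralizer_iff.1 (hm (el_mem_E.2 ha)) (k : X) k.2
      rwa [← hn] at h1
    have h2 := P.dvd_card_of_dvd_card (Fus.Gold.two_dvd_quotient h hK)
    rw [hbot, Subgroup.card_bot] at h2
    omega
  obtain ⟨P, hP, -, -, -, -, hinv, -, -⟩ := Fus.Gold.exists_data h hK hT hm
  set F := q.E ⊓ centralizer (K : Set X) with hF
  have hz : q.co.el 10 ∈ F := ⟨el_mem_E.2 (by decide), el_ten_cent K⟩
  have hF2 : ∀ a, a ∈ eightI → q.co.el a ∈ centralizer (K : Set X) → a = 0 ∨ a = 10 := by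
    intro a ha hc
    by_contra hne
    push Not at hne
    have h4 := Fus.Gold.local_four h hK hm
    rw [card_E] at h4
    let f : Fin 3 → ↥(q.E ⊓ centralizer (K : Set X)) := ![1, ⟨_, hz⟩, ⟨_, el_mem_E.2 ha, hc⟩]
    have e1 : (1 : X) ≠ q.co.el 10 := fun e => absurd (q.co.el_eq_one.1 e.symm) (by decide)
    have e2 : (1 : X) ≠ q.co.el a := fun e => hne.1 (q.co.el_eq_one.1 e.symm)
    have e3 : q.co.el 10 ≠ q.co.el a := fun e => hne.2 (q.co.inj e).symm
    have hf : Function.Injective f := by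
      intro i j e
      fin_cases i <;> fin_cases j <;> simp [f, Subtype.ext_iff, e1, e2, e3, e1.symm, e2.symm, e3.symm] at e ⊢
    have := Nat.card_le_card_of_injective f hf
    rw [Nat.card_fin] at this
    omega
  -- the Sylow subgroup of `K` is modulo the centre inside the image of the eight group
  have hsyl : ∀ n, q.co.el n ∈ K → ∃ a ∈ eightI, q.co.el a ∈ K ∧
      (q.co.el a)⁻¹ * q.co.el n ∈ centralizer (K : Set X) := by
    intro n hnK
    have htw : ∀ a ∈ eightI, mulI (conjI n a) a ∈ [0, 10] := fun a ha => by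
      have h1 := Fus.Gold.twist h hK hT hm (q.co.el n) (q.co.mem_el n) hnK (q.co.el a) (el_mem_E.2 ha)
      rw [← q.co.el_conj, ← q.co.el_inv, (eight_ops' ha ha).2.2.1, q.co.mul] at h1
      have hcI : conjI n a ∈ eightI := q.closed a ha (q.co.el n) _ (q.co.el_conj n a)
      rcases hF2 _ (eight_ops' hcI ha).1 h1 with e | e <;> simp [e]
    have hsq : mulI n n ∈ [0, 10] := by
      have := of_t64 twist_sq n
      simp only [List.all_eq_true.2 fun a ha => List.contains_iff_mem.2 (htw a ha), Bool.not_true,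
        Bool.false_or] at this
      exact List.contains_iff_mem.1 this
    have hp2 : ((⟨q.co.el n, hnK⟩ : ↥K) : ↥K ⧸ center ↥K) * ((⟨q.co.el n, hnK⟩ : ↥K) : ↥K ⧸ center ↥K) = 1 := by
      rw [← QuotientGroup.mk_mul, Fus.Gold.mk_eq_one hK, Subgroup.coe_mul, q.co.mul]
      rcases (by simpa using hsq : mulI n n = 0 ∨ mulI n n = 10) with e | e <;> rw [e]
      · rw [q.co.el_zero]; exact one_mem _
      · exact el_ten_cent K
    obtain ⟨⟨e, heK⟩, he', hte⟩ := hinv _ ((hP ⟨q.co.el n, hnK⟩).2 (q.co.mem_el n)) hp2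
    obtain ⟨a, ha, rfl⟩ := (mem_subgroupOf.1 he').1
    exact ⟨a, ha, heK, (Fus.Gold.mk_eq_mk hK).1 hte⟩
  -- the central involution lies in `K`
  have hz10 : q.co.el 10 ∈ K := by
    by_contra hzK
    have hcardK : 4 ≤ Nat.card ↥(q.E ⊓ K) := by
      rw [Fus.Gold.card_inf_eq hK]
      exact (Fus.Gold.four_le_kbar h hK hm).trans (Nat.le_mul_of_pos_right _ Nat.card_pos)
    have hfix : ∀ n, K.map (MulAut.conj (q.co.el n)).toMonoidHom = K := by
      intro n
      by_contra hne
      have hK' := IsComponent.conj hK (q.co.el n)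
      have hcomm := IsComponent.commute hK hK' (Ne.symm hne)
      set K' := K.map (MulAut.conj (q.co.el n)).toMonoidHom with hK'def
      have hint : ∀ x, x ∈ q.E ⊓ K → x ∈ K' → x = 1 := by
        intro x hx hx'
        obtain ⟨a, ha, rfl⟩ := hx.1
        have hc : q.co.el a ∈ centralizer (K : Set X) := mem_centralizer_iff.2 fun k hk =>
          (mem_centralizer_iff.1 (hcomm hk) _ hx').symm
        rcases hF2 a ha hc with e | e
        · rw [e, q.co.el_zero]
        · exact absurd (e ▸ hx.2) hzK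
      have hcardK' : 4 ≤ Nat.card ↥(q.E ⊓ K') := by
        refine hcardK.trans (Nat.card_le_card_of_injective
          (fun x => (⟨q.co.el n * x.1 * (q.co.el n)⁻¹, ?_, ⟨x.1, x.2.2, rfl⟩⟩ : ↥(q.E ⊓ K'))) ?_)
        · obtain ⟨a, ha, e⟩ := x.2.1
          exact ⟨conjI n a, q.closed a ha (q.co.el n) _ (q.co.el_conj n a), by rw [q.co.el_conj, e]⟩
        · intro x y e
          have := congrArg Subtype.val e
          simp only [mul_left_inj, mul_right_inj] at this
          exact Subtype.ext this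
      have hbot : (q.E ⊓ K) ⊓ (q.E ⊓ K') = ⊥ := by
        rw [eq_bot_iff]
        exact fun x hx => mem_bot.2 (hint x hx.1 hx.2.2)
      have hnorm : q.E ⊓ K ≤ normalizer ((q.E ⊓ K' : Subgroup X) : Set X) :=
        h.le_normalizer_of_le inf_le_left inf_le_left
      have h1 := Grp.card_sup_mul_card_inf hnorm
      rw [hbot, Subgroup.card_bot, mul_one] at h1
      have h2 := Subgroup.card_le_of_le (sup_le inf_le_left inf_le_left : q.E ⊓ K ⊔ q.E ⊓ K' ≤ q.E)
      rw [h1, card_E] at h2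
      have := Nat.mul_le_mul hcardK hcardK'
      omega
    have hconjK : ∀ {a n}, q.co.el a ∈ K → q.co.el (mulI a (conjI n a)) ∈ K := fun {a n} ha => by
      rw [← q.co.mul]
      refine K.mul_mem ha (by rw [← hfix n]; exact ⟨q.co.el a, ha, (q.co.el_conj n a).symm⟩)
    obtain ⟨⟨x, hx⟩, hx1⟩ := (q.E ⊓ K).ne_bot_iff_exists_ne_one.1 (fun e => by
      rw [e, Subgroup.card_bot] at hcardK; omega)
    obtain ⟨a, ha, rfl⟩ := hx.1
    have ha0 : a ≠ 0 := fun e => hx1 (Subtype.ext (by simp [e, q.co.el_zero]))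
    have ha10 : a ≠ 10 := fun e => hzK (e ▸ hx.2)
    obtain ⟨n, hn⟩ := of_s64 (by simpa [ha0, ha10] using List.all_eq_true.1 step_z a ha)
    simp only [Bool.or_eq_true, beq_iff_eq] at hn
    rcases hn with hn | hn
    · exact hzK (hn ▸ hconjK hx.2)
    · obtain ⟨n', hn'⟩ := of_s64 hn
      exact hzK (beq_iff_eq.1 hn' ▸ hconjK (hconjK hx.2))
  -- hence the eight group lies in `K`
  have hEK : q.E ≤ K := by
    have hcardF : 2 ≤ Nat.card ↥((q.E ⊓ centralizer (K : Set X)) ⊓ (q.E ⊓ K)) := by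
      have hmem : q.co.el 10 ∈ (q.E ⊓ centralizer (K : Set X)) ⊓ (q.E ⊓ K) := ⟨hz, el_mem_E.2 (by decide), hz10⟩
      haveI : Nontrivial ↥((q.E ⊓ centralizer (K : Set X)) ⊓ (q.E ⊓ K)) :=
        ⟨⟨⟨_, hmem⟩, 1, fun e => absurd (q.co.el_eq_one.1 (congrArg Subtype.val e)) (by decide)⟩⟩
      exact Finite.one_lt_card
    have h1 := Fus.Gold.card_inf_eq (Ab := q.E) hK
    have h2 : 8 ≤ Nat.card ↥(q.E ⊓ K) := by
      rw [h1]; exact (Nat.mul_le_mul (Fus.Gold.four_le_kbar h hK hm) hcardF)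
    exact (eq_of_le_of_card_ge inf_le_left (by rwa [card_E])).ge.trans inf_le_right
  have habl : ∀ n, q.co.el n ∈ K → n ∈ eightI := fun n hn => by
    obtain ⟨a, ha, haK, hc⟩ := hsyl n hn
    have h1 : mulI a n ∈ eightI := hnE _ fun b hb => q.co.com_iff.2 (by
      rw [← q.co.mul, show q.co.el a = (q.co.el a)⁻¹ by rw [← q.co.el_inv, (eight_ops' ha ha).2.2.1]]
      exact (mem_centralizer_iff.1 hc _ (hEK (el_mem_E.2 hb))).symm)
    refine (el_mem_E (q := q)).1 ?_
    rw [show q.co.el n = q.co.el a * q.co.el (mulI a n) by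
      rw [← q.co.mul, ← mul_assoc, q.co.mul, (eight_ops' ha ha).2.2.2, q.co.el_zero, one_mul]]
    exact q.E.mul_mem (el_mem_E.2 ha) (el_mem_E.2 h1)
  obtain ⟨P', hP'⟩ := Fus.Gold.exists_sylow_component (T := q.T) hK
  have habel : ∀ a ∈ (P' : Subgroup ↥K), ∀ b ∈ (P' : Subgroup ↥K), a * b = b * a := by
    intro a ha b hb
    rw [hP', mem_subgroupOf] at ha hb
    obtain ⟨n, hn⟩ := (q.co.mem _).1 ha
    obtain ⟨m, hm'⟩ := (q.co.mem _).1 hb
    refine Subtype.ext ?_
    rw [Subgroup.coe_mul, Subgroup.coe_mul, ← hn, ← hm']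
    exact q.co.com_iff.1 (eight_ops' (habl n (hn ▸ a.2)) (habl m (hm' ▸ b.2))).2.1
  have h1 := Fus.Gold.eq_one_of_abelian_sylow hK.2.1.commutator_eq_top P' habel (z := ⟨q.co.el 10, hz10⟩)
    (by rw [hP', mem_subgroupOf]; exact q.co.mem_el 10)
    (mem_center_iff.2 fun k => Subtype.ext (q.central k))
  exact absurd (q.co.el_eq_one.1 (congrArg Subtype.val h1)) (by decide)

/-- The eight group is normal. -/
theorem E_normal (x : X) {a : Fin 64} (ha : a ∈ eightI) : ∃ b ∈ eightI, q.co.el b = x * q.co.el a * x⁻¹ := by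
  have h := Fus.Gold.local_cover (localHyp (q := q))
  have hlay : Cfsg.layer X = ⊥ := le_bot_iff.1 (sSup_le fun K hK => (no_component q hK).elim)
  rw [hlay, bot_sup_eq] at h
  exact mem_conj_normalizer (h ▸ mem_top x) (el_mem_E.2 ha)

/-- The eight group is self-centralising. -/
theorem centralizer_E : centralizer (q.E : Set X) = q.E := by
  haveI : Fact (Nat.Prime 2) := ⟨Nat.prime_two⟩
  set N := centralizer (q.E : Set X) with hN
  haveI hNn : N.Normal := ⟨fun n hn x => mem_centralizer_iff.2 fun e he => by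
    obtain ⟨a, ha, rfl⟩ := he
    obtain ⟨b, hb, hbe⟩ := E_normal (q := q) x⁻¹ ha
    have := mem_centralizer_iff.1 hn _ (el_mem_E.2 hb)
    rw [hbe, inv_inv] at this
    calc q.co.el a * (x * n * x⁻¹) = x * ((x⁻¹ * q.co.el a * x) * n) * x⁻¹ := by group
      _ = x * (n * (x⁻¹ * q.co.el a * x)) * x⁻¹ := by rw [this]
      _ = _ := by group⟩
  have hEN : q.E ≤ N := fun x hx => mem_centralizer_iff.2 fun y hy => (Grp.elemAb_comm E_elem x hx y hy).symm
  have hTN : ∀ n, q.co.el n ∈ N → n ∈ eightI := fun n hn => by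
    have := of_t64 cent_eight.1 n
    simpa [List.all_eq_true.2 fun a ha => q.co.com_iff.2
      (mem_centralizer_iff.1 hn _ (el_mem_E.2 ha)).symm] using this
  have hpN : IsPGroup 2 ((q.T : Subgroup X).subgroupOf N) := q.T.isPGroup'.comap_of_injective _ (subtype_injective _)
  set P := hpN.toSylow (not_dvd_relIndex_sylow q.T hNn.isSubnormal) with hPdef
  have hPE : ∀ p ∈ (P : Subgroup ↥N), (p : X) ∈ q.E := fun p hp => by
    obtain ⟨n, hn⟩ := (q.co.mem _).1 (mem_subgroupOf.1 hp)
    rw [← hn]; exact el_mem_E.2 (hTN n (hn ▸ p.2))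
  have hP : normalizer ((P : Subgroup ↥N) : Set ↥N) ≤ centralizer ((P : Subgroup ↥N) : Set ↥N) := fun m _ =>
    mem_centralizer_iff.2 fun p hp => Subtype.ext (mem_centralizer_iff.1 m.2 _ (hPE p hp))
  have hcompl := MonoidHom.ker_transferSylow_isComplement' P hP
  set K := (MonoidHom.transferSylow P hP).ker with hKdef
  have hcop : (Nat.card K).Coprime 2 := by
    rw [Nat.coprime_comm, Nat.prime_two.coprime_iff_not_dvd]
    exact MonoidHom.not_dvd_card_ker_transferSylow P hP
  have hKbot : K = ⊥ := by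
    have hsub : (K.map N.subtype).IsSubnormal :=
      Subgroup.IsSubnormal.trans' (inferInstance : K.Normal).isSubnormal hNn.isSubnormal
    have := Grp.le_pPrimeCore_of_isSubnormal (p := 2) hsub
      (by rwa [Subgroup.card_map_of_injective N.subtype_injective])
    rw [q.core, le_bot_iff, Subgroup.map_eq_bot_iff_of_injective _ N.subtype_injective] at this
    exact this
  rw [hKbot] at hcompl
  have htop : (P : Subgroup ↥N) = ⊤ := Subgroup.isComplement'_bot_left.1 hcompl
  exact le_antisymm (fun x hx => hPE ⟨x, hx⟩ (htop ▸ mem_top _)) hEN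

/-- The images of the two basic involutions determine an element up to the eight group. -/
theorem index_le : q.E.index ≤ 24 := by
  classical
  have hex : ∀ (x : X) (a : Fin 64), ∃ b, a ∈ eightI → b ∈ eightI ∧ q.co.el b = x * q.co.el a * x⁻¹ := fun x a => by
    by_cases ha : a ∈ eightI
    · obtain ⟨b, hb, e⟩ := E_normal (q := q) x ha; exact ⟨b, fun _ => ⟨hb, e⟩⟩
    · exact ⟨0, fun e => absurd e ha⟩
  choose im him using hex
  let L := (eightI.flatMap fun a => eightI.map fun b => (a, b)).filter fun p =>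
    !(p.1 == 0) && !(p.1 == 10) && !([0, 10, p.1, mulI 10 p.1].contains p.2)
  have h10 : ∀ x : X, q.co.el 10 = x * q.co.el 10 * x⁻¹ := fun x => by rw [q.central x]; group
  have hinj : ∀ (x : X) {a b c : Fin 64}, q.co.el c = x * q.co.el a * x⁻¹ → q.co.el c = x * q.co.el b * x⁻¹ → a = b :=
    fun x a b c h h' => q.co.inj (mul_left_cancel (mul_right_cancel (h.symm.trans h')))
  have hmemL : ∀ x, (im x 2, im x 16) ∈ L := by
    intro x
    obtain ⟨h2, e2⟩ := him x 2 (by decide)
    obtain ⟨h16, e16⟩ := him x 16 (by decide)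
    refine List.mem_filter.2 ⟨List.mem_flatMap.2 ⟨_, h2, List.mem_map.2 ⟨_, h16, rfl⟩⟩, ?_⟩
    have n0 : im x 2 ≠ 0 := fun e => absurd (hinj x e2 (b := 0) (by rw [e, q.co.el_zero]; group)) (by decide)
    have n10 : im x 2 ≠ 10 := fun e => absurd (hinj x e2 (b := 10) (e ▸ h10 x)) (by decide)
    have m0 : im x 16 ≠ 0 := fun e => absurd (hinj x e16 (b := 0) (by rw [e, q.co.el_zero]; group)) (by decide)
    have m10 : im x 16 ≠ 10 := fun e => absurd (hinj x e16 (b := 10) (e ▸ h10 x)) (by decide)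
    have m2 : im x 16 ≠ im x 2 := fun e => absurd (hinj x e16 (e ▸ e2)) (by decide)
    have m3 : im x 16 ≠ mulI 10 (im x 2) := fun e => by
      refine absurd (hinj x e16 (b := mulI 10 2) ?_) (by decide)
      rw [e, ← q.co.mul, ← q.co.mul, e2,
        show x * (q.co.el 10 * q.co.el 2) * x⁻¹ = (x * q.co.el 10 * x⁻¹) * (x * q.co.el 2 * x⁻¹) by group, ← h10]
    simp [n0, n10, m0, m10, m2, m3]
  have hkey : ∀ x y : X, im x 2 = im y 2 → im x 16 = im y 16 → x⁻¹ * y ∈ q.E := by
    intro x y h2 h16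
    rw [← centralizer_E (q := q)]
    refine mem_centralizer_iff.2 ?_
    rintro _ ⟨a, ha, rfl⟩
    have hg : ∀ a ∈ eightI, im x a = im y a → Commute (q.co.el a) (x⁻¹ * y) := fun a ha e => by
      obtain ⟨-, e1⟩ := him x a ha
      obtain ⟨-, e2⟩ := him y a ha
      rw [e, e2] at e1
      show q.co.el a * (x⁻¹ * y) = x⁻¹ * y * q.co.el a
      calc q.co.el a * (x⁻¹ * y) = x⁻¹ * (x * q.co.el a * x⁻¹) * y := by group
        _ = x⁻¹ * (y * q.co.el a * y⁻¹) * y := by rw [← e1]
        _ = _ := by group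
    have c2 := hg 2 (by decide) h2
    have c16 := hg 16 (by decide) h16
    have c10 : Commute (q.co.el 10) (x⁻¹ * y) := (q.central _).symm
    have := List.all_eq_true.1 eight_basis a ha
    simp only [Bool.or_eq_true, beq_iff_eq] at this
    rcases this with ((((((e | e) | e) | e) | e) | e) | e) | e <;> subst e
    all_goals try simp only [← q.co.mul, q.co.el_zero]
    exacts [(Commute.one_left _).eq, c10.eq, c2.eq, (c10.mul_left c2).eq, c16.eq, (c10.mul_left c16).eq,
      (c2.mul_left c16).eq, (c10.mul_left (c2.mul_left c16)).eq]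
  let f : X ⧸ q.E → {p // p ∈ L} := fun c => ⟨(im c.out 2, im c.out 16), hmemL _⟩
  have hf : Function.Injective f := fun c c' e => by
    have h := congrArg Subtype.val e
    simp only [f, Prod.mk.injEq] at h
    rw [← QuotientGroup.out_eq' c, ← QuotientGroup.out_eq' c']
    exact QuotientGroup.eq.2 (hkey _ _ h.1 h.2)
  refine (Nat.card_le_card_of_injective f hf).trans ?_
  rw [Nat.card_eq_fintype_card, Fintype.card_of_subtype L.toFinset fun p => List.mem_toFinset]
  exact (List.toFinset_card_le L).trans_eq pairs_count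

end QuotHyp

end Cfsg.Agent.Invol.TwelveType
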