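import Cfsg.Agent.Lib.Invol.TwelveType.Facts
import Cfsg.Agent.Lib.Grp.GTwoSylow.Fusion

/-! A group with Sylow 2-subgroup of the indexed type: basic API and carrying maps. -/

set_option autoImplicit false
set_option linter.style.haveILetI false

namespace Cfsg.Agent.Invol.TwelveType

open Subgroup

universe u

variable {G : Type u} [Group G] [Finite G]

/-- The setting: coordinates on a Sylow 2-subgroup of a simple group, with two classes of involutions. -/
structure Setting (G : Type u) [Group G] [Finite G] where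
  simple : IsSimpleGroup G
  P : Sylow 2 G
  frame : Grp.GTwoSylow.Frame ↥(P : Subgroup G)
  co : Coord (P : Subgroup G)
  z_conj_t : IsConj (co.el 2) (co.el 10)
  s_not : ¬ IsConj (co.el 32) (co.el 10)

namespace Coord

variable {S : Subgroup G} (c : Coord S)

omit [Finite G] in
theorem mem_el (n : Fin 64) : c.el n ∈ S := (c.mem _).2 ⟨n, rfl⟩

omit [Finite G] in
theorem el_zero : c.el 0 = 1 := by
  have := c.mul 0 0
  rw [show mulI 0 0 = 0 from rfl] at this
  exact mul_eq_left.1 this

omit [Finite G] in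
theorem el_inv (n : Fin 64) : c.el (invI n) = (c.el n)⁻¹ :=
  eq_inv_of_mul_eq_one_left (by rw [c.mul, (invI_mul n).2, c.el_zero])

omit [Finite G] in
theorem el_conj (h n : Fin 64) : c.el (conjI h n) = c.el h * c.el n * (c.el h)⁻¹ := by
  rw [conjI, ← c.el_inv, c.mul, c.mul]

omit [Finite G] in
theorem com_iff {n m : Fin 64} : comI n m = true ↔ c.el n * c.el m = c.el m * c.el n := by
  rw [c.mul, c.mul, c.inj.eq_iff, comI, beq_iff_eq]

omit [Finite G] in
theorem el_eq_one {n : Fin 64} : c.el n = 1 ↔ n = 0 := by rw [← c.el_zero, c.inj.eq_iff]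

omit [Finite G] in
theorem conj_rep (h n : Fin 64) : IsConj (c.el n) (c.el (conjI h n)) :=
  _root_.isConj_iff.2 ⟨c.el h, (c.el_conj h n).symm⟩

omit [Finite G] in
theorem orderOf_el {n : Fin 64} (h : mulI n n = 0) (h1 : n ≠ 0) : orderOf (c.el n) = 2 :=
  orderOf_eq_prime (by rw [pow_two, c.mul, h, c.el_zero]) fun e => h1 (c.el_eq_one.1 e)

omit [Finite G] in
theorem sq_zero {n : Fin 64} (h : c.el n * c.el n = 1) : mulI n n = 0 := by
  rwa [c.mul, c.el_eq_one] at h

omit [Finite G] in
/-- Conjugation by `g` on a set of indices. -/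
theorem exists_map {g : G} {s : Fin 64 → Bool} (h : ∀ n, s n = true → g * c.el n * g⁻¹ ∈ S) :
    ∃ m : Fin 64 → Fin 64, ∀ n, s n = true → c.el (m n) = g * c.el n * g⁻¹ := by
  classical
  have : ∀ n, ∃ k, s n = true → c.el k = g * c.el n * g⁻¹ := fun n => by
    by_cases hs : s n = true
    · obtain ⟨k, hk⟩ := (c.mem _).1 (h n hs)
      exact ⟨k, fun _ => hk⟩
    · exact ⟨0, fun e => absurd e hs⟩
  choose m hm using this
  exact ⟨m, hm⟩

end Coord

namespace Setting

variable (d : Setting G)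

/-- Being conjugate to the central involution. -/
def Z (n : Fin 64) : Prop := IsConj (d.co.el n) (d.co.el 10)

variable {d}

theorem Z_conj (h n : Fin 64) : d.Z (conjI h n) ↔ d.Z n :=
  ⟨fun e => (d.co.conj_rep h n).trans e, fun e => (d.co.conj_rep h n).symm.trans e⟩

theorem Z_ten : d.Z 10 := IsConj.refl _

theorem Z_two : d.Z 2 := d.z_conj_t

theorem not_Z_of_conj {n m : Fin 64} (h : IsConj (d.co.el n) (d.co.el m)) (hn : ¬ d.Z n) : ¬ d.Z m :=
  fun e => hn (h.trans e)

theorem Z_inv {n : Fin 64} (h : d.Z n) : mulI n n = 0 ∧ n ≠ 0 := by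
  obtain ⟨g, hg⟩ := _root_.isConj_iff.1 h.symm
  have h10 : d.co.el 10 * d.co.el 10 = 1 := by rw [d.co.mul, show mulI 10 10 = 0 from rfl, d.co.el_zero]
  refine ⟨d.co.sq_zero ?_, fun e => ?_⟩
  · rw [← hg, show g * d.co.el 10 * g⁻¹ * (g * d.co.el 10 * g⁻¹) = g * (d.co.el 10 * d.co.el 10) * g⁻¹ by group,
      h10]
    group
  · rw [e, d.co.el_zero, conj_eq_one_iff, d.co.el_eq_one] at hg
    exact absurd hg (by decide)

variable (d)

/-- Transfer: an involution outside the kernel of a character fuses into it with its centraliser. -/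
theorem transfer (χ : Fin 64 → Bool) (hχ : ∀ n m, χ (mulI n m) = xor (χ n) (χ m)) {u : Fin 64}
    (hu : mulI u u = 0) (hu1 : χ u = true) :
    ∃ g v, χ v = false ∧ d.co.el v = g * d.co.el u * g⁻¹ ∧
      ∀ c, comI c u = true → g * d.co.el c * g⁻¹ ∈ (d.P : Subgroup G) := by
  classical
  haveI := d.simple
  have hex : ∀ x : ↥(d.P : Subgroup G), ∃ n, d.co.el n = (x : G) := fun x => (d.co.mem _).1 x.2
  choose idx hidx using hex
  have hidx' : ∀ n h, idx ⟨d.co.el n, h⟩ = n := fun n h => d.co.inj (hidx ⟨d.co.el n, h⟩)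
  have hmul : ∀ x y, idx (x * y) = mulI (idx x) (idx y) := fun x y => d.co.inj (by
    rw [hidx, ← d.co.mul, hidx, hidx]; rfl)
  let φ : ↥(d.P : Subgroup G) →* Multiplicative (ZMod 2) :=
    MonoidHom.mk' (fun x => Grp.GTwoSylow.Frame.bit (χ (idx x))) fun x y => by
      show Grp.GTwoSylow.Frame.bit _ = _
      rw [hmul, hχ, Grp.GTwoSylow.Frame.bit_xor]
  obtain ⟨x, v, hv, hφ, hc⟩ := Grp.GTwoSylow.transfer_conj d.frame φ
    (u := ⟨d.co.el u, d.co.mem_el u⟩) (Subtype.ext (by simp [d.co.mul, hu, d.co.el_zero]))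
    (by
      show Grp.GTwoSylow.Frame.bit (χ (idx _)) ≠ 1
      rw [hidx', hu1]; decide)
  refine ⟨x⁻¹, idx v, ?_, ?_, fun c hc' => ?_⟩
  · have h1 : Grp.GTwoSylow.Frame.bit (χ (idx v)) = 1 := hφ
    revert h1
    cases χ (idx v) <;> decide
  · rw [hidx, hv, inv_inv]
  · rw [inv_inv]
    exact hc ⟨d.co.el c, d.co.mem_el c⟩ (Subtype.ext (d.co.com_iff.1 hc'))

omit d in
/-- A carrying map lands in the centraliser of the image and does not decrease centralisers. -/
theorem map_facts {d : Setting G} {g : G} {u v : Fin 64} (hv : d.co.el v = g * d.co.el u * g⁻¹)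
    (m : Fin 64 → Fin 64) (hm : ∀ n, comI n u = true → d.co.el (m n) = g * d.co.el n * g⁻¹) :
    (∀ n, comI n u = true → comI (m n) v = true ∧ (d.Z (m n) ↔ d.Z n)) ∧
    (∀ n n', comI n u = true → comI n' u = true → m n = m n' → n = n') ∧
    centCard u ≤ centCard v := by
  have h1 : ∀ n, comI n u = true → comI (m n) v = true ∧ (d.Z (m n) ↔ d.Z n) := fun n hn => by
    refine ⟨d.co.com_iff.2 ?_, ?_⟩
    · rw [hv, hm n hn]
      have := d.co.com_iff.1 hn
      calc g * d.co.el n * g⁻¹ * (g * d.co.el u * g⁻¹) = g * (d.co.el n * d.co.el u) * g⁻¹ := by group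
        _ = g * (d.co.el u * d.co.el n) * g⁻¹ := by rw [this]
        _ = _ := by group
    · have hc : IsConj (d.co.el n) (d.co.el (m n)) := _root_.isConj_iff.2 ⟨g, (hm n hn).symm⟩
      exact ⟨fun e => hc.trans e, fun e => hc.symm.trans e⟩
  have h2 : ∀ n n', comI n u = true → comI n' u = true → m n = m n' → n = n' := fun n n' hn hn' e => by
    have := congrArg d.co.el e
    rw [hm n hn, hm n' hn', mul_left_inj, mul_right_inj] at this
    exact d.co.inj this
  refine ⟨h1, h2, ?_⟩
  have hcard : ∀ w, centCard w = (Finset.univ.filter fun c => comI c w = true).card := fun w => by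
    rw [centCard, List.countP_eq_length_filter, ← List.toFinset_card_of_nodup
      ((List.nodup_finRange 64).filter _), List.toFinset_filter, List.toFinset_finRange]
  rw [hcard, hcard]
  refine Finset.card_le_card_of_injOn m (fun n hn => ?_) fun n hn n' hn' e => ?_
  · simp only [Finset.coe_filter, Finset.mem_univ, true_and, Set.mem_setOf_eq] at hn ⊢
    exact (h1 n hn).1
  · simp only [Finset.coe_filter, Finset.mem_univ, true_and, Set.mem_setOf_eq] at hn hn'
    exact h2 n n' hn hn' e

end Setting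

end Cfsg.Agent.Invol.TwelveType
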