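import Cfsg.Agent.Lib.Invol.TwelveType.QuotFacts
import Cfsg.Agent.Lib.Invol.TwelveType.AutFacts

/-! Finite facts for the shape of the centraliser. -/

set_option autoImplicit false
set_option maxRecDepth 100000

namespace Cfsg.Agent.Invol.TwelveType

/-- Acting trivially on the eight group modulo `z`. -/
def inQ (n : Fin 64) : Bool := eightI.all fun a => [0, 10].contains (mulI (conjI n a) a)

/-- The three classes modulo `z`. -/
def cls3 (a : Fin 64) : Fin 3 :=
  if a == 2 || a == 8 then 0 else if a == 16 || a == 26 then 1 else 2

theorem inQ_count : (List.finRange 64).countP inQ = 32 := by decide +kernel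

theorem inQ_ops : t64 (fun n => t64 fun m => !(inQ n && inQ m) ||
    (inQ (mulI n m) && [0, 10].contains (mulI (mulI n m) (invI (mulI m n))))) = true ∧
    t64 (fun n => !(inQ n) || (inQ (invI n) && [0, 10].contains (mulI n n))) = true ∧
    t64 (fun n => !(inQ n) || n == 0 || n == 10 || s64 (fun m => inQ m && !(comI n m))) = true ∧
    inQ 2 = true ∧ inQ 10 = true ∧ inQ 32 = true ∧ comI 2 32 = false := by decide +kernel

theorem centCard_plane : [(2 : Fin 64), 8, 10].all (fun a => centCard a ≥ 32) = true ∧
    eightI.all (fun a => planeP.contains a || centCard a < 32) = true := by decide +kernel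

theorem cls3_ok : eightI.all (fun a => a == 0 || a == 10 || (eightI.all fun b => b == 0 || b == 10 ||
    !(cls3 a == cls3 b) || b == a || b == mulI 10 a)) = true ∧
    eightI.all (fun a => a == 0 || a == 10 || cls3 (mulI 10 a) == cls3 a) = true ∧
    cls3 2 = 0 ∧ cls3 16 = 1 ∧ cls3 18 = 2 := by decide +kernel

theorem equal_defect : t64 (fun n => !(inQ n) || !((comI n 2 == comI n 16) && (comI n 16 == comI n 18)) ||
    eightI.contains n) = true := by decide +kernel

end Cfsg.Agent.Invol.TwelveType
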