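import Cfsg.Agent.Lib.Invol.TwelveType.Quot
import Cfsg.Agent.Lib.Invol.TwelveType.ShapeFacts
import Cfsg.Agent.Lib.Grp.SymplecticType
import Cfsg.Agent.Lib.Grp.LargeExtraImage
import Cfsg.Agent.Lib.Grp.Cores

/-! The centraliser modulo its odd core is an extension of an extraspecial group of order 32 by `S₃`. -/

set_option autoImplicit false
set_option linter.style.haveILetI false
set_option linter.unusedSectionVars false

namespace Cfsg.Agent.Invol.TwelveType

open Subgroup Cfsg.Agent.Grp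
open scoped commutatorElement

universe u

variable {X : Type u} [Group X] [Finite X]

theorem inQ_mul {n m : Fin 64} (hn : inQ n = true) (hm : inQ m = true) :
    inQ (mulI n m) = true ∧ mulI (mulI n m) (invI (mulI m n)) ∈ [0, 10] := by
  have := of_t64 (of_t64 inQ_ops.1 n) m
  simp only [hn, hm, Bool.and_self, Bool.not_true, Bool.false_or, Bool.and_eq_true, List.contains_iff_mem] at this
  exact this

namespace QuotHyp

variable {q : QuotHyp X}

theorem card_T (q : QuotHyp X) : Nat.card (q.T : Subgroup X) = 64 := by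
  let f : Fin 64 → ↥(q.T : Subgroup X) := fun n => ⟨q.co.el n, q.co.mem_el n⟩
  have hf : Function.Bijective f := ⟨fun a b h => q.co.inj (congrArg Subtype.val h), fun x => by
    obtain ⟨n, hn⟩ := (q.co.mem _).1 x.2
    exact ⟨n, Subtype.ext hn⟩⟩
  rw [← Nat.card_congr (Equiv.ofBijective f hf), Nat.card_fin]

/-- Acting trivially on the eight group modulo `z`. -/
def Qx (q : QuotHyp X) : Subgroup X where
  carrier := {x | ∀ a ∈ eightI, x * q.co.el a * x⁻¹ * q.co.el a = 1 ∨ x * q.co.el a * x⁻¹ * q.co.el a = q.co.el 10}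
  one_mem' := fun a ha => Or.inl (by rw [one_mul, inv_one, mul_one, q.co.mul, (eight_ops' ha ha).2.2.2, q.co.el_zero])
  mul_mem' := by
    intro x y hx hy a ha
    obtain ⟨b, hb, hbe⟩ := E_normal (q := q) y ha
    have h1 := hx b hb
    have h2 := hy a ha
    have e : x * y * q.co.el a * (x * y)⁻¹ * q.co.el a =
        (x * q.co.el b * x⁻¹ * q.co.el b) * (y * q.co.el a * y⁻¹ * q.co.el a) := by
      rw [hbe]
      have hbb : q.co.el b * q.co.el b = 1 := by rw [q.co.mul, (eight_ops' hb hb).2.2.2, q.co.el_zero]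
      rw [hbe] at hbb
      calc x * y * q.co.el a * (x * y)⁻¹ * q.co.el a =
          x * (y * q.co.el a * y⁻¹) * x⁻¹ * ((y * q.co.el a * y⁻¹) * (y * q.co.el a * y⁻¹)) * q.co.el a := by
            rw [hbb]; group
        _ = _ := by group
    rw [e]
    have h10 : q.co.el 10 * q.co.el 10 = 1 := by rw [q.co.mul, show mulI 10 10 = 0 from rfl, q.co.el_zero]
    rcases h1 with h1 | h1 <;> rcases h2 with h2 | h2 <;> rw [h1, h2] <;> simp [h10]
  inv_mem' := by
    intro x hx a ha
    obtain ⟨b, hb, hbe⟩ := E_normal (q := q) x⁻¹ ha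
    have h1 := hx b hb
    have hba : x * q.co.el b * x⁻¹ = q.co.el a := by rw [hbe]; group
    rw [hba, q.co.com_iff.1 (eight_ops' ha hb).2.1] at h1
    rw [← hbe]
    exact h1

theorem Qx_normal : q.Qx.Normal := ⟨fun x hx y a ha => by
  obtain ⟨b, hb, hbe⟩ := E_normal (q := q) y⁻¹ ha
  have h1 := hx b hb
  have hba : y * q.co.el b * y⁻¹ = q.co.el a := by rw [hbe]; group
  have e : y * x * y⁻¹ * q.co.el a * (y * x * y⁻¹)⁻¹ * q.co.el a =
      y * (x * q.co.el b * x⁻¹ * q.co.el b) * y⁻¹ := by rw [← hba]; group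
  rw [e]
  rcases h1 with h1 | h1 <;> rw [h1]
  · left; group
  · right; rw [q.central y]; group⟩

theorem mem_Qx {n : Fin 64} : q.co.el n ∈ q.Qx ↔ inQ n = true := by
  simp only [inQ, List.all_eq_true, List.contains_iff_mem]
  refine forall_congr' fun a => imp_congr_right fun _ => ?_
  rw [← q.co.el_conj, q.co.mul, q.co.el_eq_one, q.co.inj.eq_iff]
  simp

theorem Qx_pgroup : IsPGroup 2 q.Qx := by
  intro ⟨x, hx⟩
  have hsq : x * x ∈ q.E := by
    rw [← centralizer_E (q := q)]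
    refine mem_centralizer_iff.2 ?_
    rintro _ ⟨a, ha, rfl⟩
    have haa : q.co.el a * q.co.el a = 1 := by rw [q.co.mul, (eight_ops' ha ha).2.2.2, q.co.el_zero]
    have hainv : (q.co.el a)⁻¹ = q.co.el a := inv_eq_of_mul_eq_one_right haa
    have h10 : x * q.co.el 10 * x⁻¹ = q.co.el 10 := by rw [q.central x]; group
    have hz : q.co.el 10 * q.co.el 10 = 1 := by rw [q.co.mul, show mulI 10 10 = 0 from rfl, q.co.el_zero]
    suffices hs : x * x * q.co.el a * (x * x)⁻¹ = q.co.el a by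
      calc q.co.el a * (x * x) = (x * x * q.co.el a * (x * x)⁻¹) * (x * x) := by rw [hs]
        _ = _ := by group
    rcases hx a ha with e | e
    · have e' : x * q.co.el a * x⁻¹ = q.co.el a := (eq_inv_of_mul_eq_one_left e).trans hainv
      rw [show x * x * q.co.el a * (x * x)⁻¹ = x * (x * q.co.el a * x⁻¹) * x⁻¹ by group, e', e']
    · have e' : x * q.co.el a * x⁻¹ = q.co.el 10 * q.co.el a := by
        calc x * q.co.el a * x⁻¹ = (x * q.co.el a * x⁻¹ * q.co.el a) * q.co.el a := by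
              rw [mul_assoc (x * q.co.el a * x⁻¹), haa, mul_one]
          _ = _ := by rw [e]
      rw [show x * x * q.co.el a * (x * x)⁻¹ = x * (x * q.co.el a * x⁻¹) * x⁻¹ by group, e',
        show x * (q.co.el 10 * q.co.el a) * x⁻¹ = (x * q.co.el 10 * x⁻¹) * (x * q.co.el a * x⁻¹) by group, h10, e',
        ← mul_assoc, hz, one_mul]
  obtain ⟨a, ha, hae⟩ := hsq
  refine ⟨2, Subtype.ext ?_⟩
  show x ^ 2 ^ 2 = 1
  rw [show (2 : ℕ) ^ 2 = 2 * 2 from rfl, pow_mul, pow_two, pow_two, ← hae, q.co.mul, (eight_ops' ha ha).2.2.2,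
    q.co.el_zero]

theorem card_Qx : Nat.card q.Qx = 32 := by
  have hle : q.Qx ≤ (q.T : Subgroup X) := by
    haveI : Fact (Nat.Prime 2) := ⟨Nat.prime_two⟩
    exact (Grp.le_pCore Qx_normal Qx_pgroup).trans (Grp.pCore_le_sylow q.T)
  let f : {n : Fin 64 // inQ n = true} → ↥q.Qx := fun n => ⟨q.co.el n, mem_Qx.2 n.2⟩
  have hf : Function.Bijective f := ⟨fun a b h => Subtype.ext (q.co.inj (congrArg Subtype.val h)), fun x => by
    obtain ⟨n, hn⟩ := (q.co.mem _).1 (hle x.2)
    exact ⟨⟨n, mem_Qx.1 (hn ▸ x.2)⟩, Subtype.ext hn⟩⟩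
  rw [← Nat.card_congr (Equiv.ofBijective f hf), Nat.card_eq_fintype_card, Fintype.card_subtype]
  rw [← List.toFinset_finRange, ← List.toFinset_filter,
    List.toFinset_card_of_nodup ((List.nodup_finRange 64).filter _), ← List.countP_eq_length_filter]
  exact inQ_count

theorem Qx_le : q.Qx ≤ (q.T : Subgroup X) := by
  haveI : Fact (Nat.Prime 2) := ⟨Nat.prime_two⟩
  exact (Grp.le_pCore Qx_normal Qx_pgroup).trans (Grp.pCore_le_sylow q.T)

theorem Qx_extraspecial : Cfsg.IsExtraspecial 2 q.Qx := by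
  haveI : Fact (Nat.Prime 2) := ⟨Nat.prime_two⟩
  set z : ↥q.Qx := ⟨q.co.el 10, mem_Qx.2 inQ_ops.2.2.2.2.1⟩
  have hz1 : z ≠ 1 := fun e => absurd (q.co.el_eq_one.1 (congrArg Subtype.val e)) (by decide)
  have hzz : z ^ 2 = 1 := Subtype.ext (by
    show q.co.el 10 ^ 2 = 1
    rw [pow_two, q.co.mul, show mulI 10 10 = 0 from rfl, q.co.el_zero])
  have hmem : ∀ (x : ↥q.Qx) (n : Fin 64), (x : X) = q.co.el n → n ∈ [(0 : Fin 64), 10] → x ∈ zpowers z := by
    intro x n hx hn
    rcases (by simpa using hn : n = 0 ∨ n = 10) with e | e <;> subst e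
    · rw [show x = 1 from Subtype.ext (hx.trans q.co.el_zero)]; exact one_mem _
    · rw [show x = z from Subtype.ext hx]; exact mem_zpowers z
  have key : Cfsg.IsExtraspecial 2 ↥(⊤ : Subgroup ↥q.Qx) := by
    refine Grp.Symplectic.mkExtra Qx_pgroup ⊤ (zpowers z) ?_ ?_ le_top ?_ ?_ ?_ ?_
    · rw [Nat.card_zpowers, orderOf_eq_prime hzz hz1]
    · rw [zpowers_le]
      exact mem_center_iff.2 fun x => Subtype.ext (q.central x)
    · intro hle
      have h2 := hle (mem_top (⟨q.co.el 2, mem_Qx.2 inQ_ops.2.2.2.1⟩ : ↥q.Qx))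
      obtain ⟨i, hi⟩ := mem_zpowers_iff.1 h2
      have hsq : z * z = 1 := by rw [← pow_two]; exact hzz
      rcases Int.even_or_odd i with ⟨j, rfl⟩ | ⟨j, rfl⟩
      · rw [zpow_add, ← (Commute.refl z).mul_zpow, hsq, one_zpow] at hi
        exact absurd (q.co.el_eq_one.1 (congrArg Subtype.val hi).symm) (by decide)
      · rw [zpow_add, zpow_mul, zpow_ofNat, pow_two, hsq, one_zpow, one_mul, zpow_one] at hi
        exact absurd (q.co.inj (congrArg Subtype.val hi)) (by decide)
    · rintro ⟨x, hx⟩ ⟨-, hxc⟩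
      obtain ⟨n, rfl⟩ := (q.co.mem _).1 (Qx_le hx)
      have hn := mem_Qx.1 hx
      have := of_t64 inQ_ops.2.2.1 n
      simp only [hn, Bool.not_true, Bool.false_or, Bool.or_eq_true, beq_iff_eq] at this
      rcases this with (e | e) | e
      · exact hmem _ n rfl (by simp [e])
      · exact hmem _ n rfl (by simp [e])
      · obtain ⟨m, hm⟩ := of_s64 e
        simp only [Bool.and_eq_true, Bool.not_eq_true', ← Bool.not_eq_true] at hm
        exact absurd (q.co.com_iff.2 (congrArg Subtype.val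
          (mem_centralizer_iff.1 hxc ⟨q.co.el m, mem_Qx.2 hm.1⟩ (mem_top _))).symm) hm.2
    · rintro ⟨a, ha⟩ - ⟨b, hb⟩ -
      obtain ⟨n, rfl⟩ := (q.co.mem _).1 (Qx_le ha)
      obtain ⟨m, rfl⟩ := (q.co.mem _).1 (Qx_le hb)
      refine hmem _ _ ?_ (inQ_mul (mem_Qx.1 ha) (mem_Qx.1 hb)).2
      show (⁅(⟨q.co.el n, ha⟩ : ↥q.Qx), ⟨q.co.el m, hb⟩⁆ : ↥q.Qx).1 = _
      rw [commutatorElement_def, ← q.co.mul, q.co.el_inv, ← q.co.mul, ← q.co.mul]
      simp [mul_assoc]
    · rintro ⟨a, ha⟩ -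
      obtain ⟨n, rfl⟩ := (q.co.mem _).1 (Qx_le ha)
      have := of_t64 inQ_ops.2.1 n
      simp only [mem_Qx.1 ha, Bool.not_true, Bool.false_or, Bool.and_eq_true, List.contains_iff_mem] at this
      refine hmem _ _ ?_ this.2
      show q.co.el n ^ 2 = _
      rw [pow_two, q.co.mul]
  exact Grp.ExtraCentSimple.isExtraspecial_equiv Subgroup.topEquiv key

end QuotHyp

end Cfsg.Agent.Invol.TwelveType
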