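import Cfsg.Agent.Lib.Invol.TwelveType.LocalFacts

/-! Finite facts for the non-central involutions. -/

set_option autoImplicit false
set_option maxRecDepth 100000

namespace Cfsg.Agent.Invol.TwelveType

/-- A non-central involution, the pure part of its centraliser with it, and an outer element. -/
def triples : List (Fin 64 × List (Fin 64) × Fin 64) :=
  [(32, [0, 10, 16, 26, 32, 42, 48, 58], 21), (21, [0, 2, 8, 10, 21, 23, 29, 31], 32),
    (48, [0, 10, 16, 26, 32, 42, 48, 58], 23)]

/-- The properties of a triple. -/
def tripleOk (a : Fin 64) (F : List (Fin 64)) (b : Fin 64) : Bool :=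
  !zList.contains a && mulI a a == 0 && !zList.contains b && mulI b b == 0 && comI b a && !F.contains b &&
    F.contains a && F.contains 10 && F.length == 8 && decide F.Nodup &&
  (F.all fun n => comI n a && mulI n n == 0 && invI n == n && (F.all fun m => comI n m && F.contains (mulI n m)) &&
    (n == 0 || n == a || zList.contains n != zList.contains (mulI a n))) &&
  ((F.filter fun n => zList.contains n).all fun n => eightI.contains n) &&
  ((F.filter fun n => zList.contains n).length == 3) &&
  (t64 fun n => !(comI n a) || ((!(zList.contains n) || F.contains n) &&
    [0, 10].contains (mulI n n) &&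
    (F.contains n || !(mulI n n == 0) || (!(zList.contains n) && !(zList.contains (mulI a n)) &&
      s64 fun h => comI h a && (conjI h n == b || conjI h n == mulI a b))) &&
    (t64 fun h => !(comI h a) || [n, mulI 10 n].contains (conjI h n))))

theorem triples_ok : triples.all (fun p => tripleOk p.1 p.2.1 p.2.2) = true ∧
    (t64 fun n => zList.contains n || !(mulI n n == 0) || n == 0 ||
      (decide (centCard n ≤ 16) && s64 fun h => (triples.map Prod.fst).contains (conjI h n))) = true ∧
    (t64 fun n => !(zList.contains n) ||
      s64 fun h => [10, 2, 16, 17].contains (conjI h n)) = true ∧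
    (eightI.all fun n => [0, 2, 8, 10].contains n || n == 0 || s64 fun h => conjI h n == 16) = true := by decide +kernel

end Cfsg.Agent.Invol.TwelveType
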