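import Cfsg.Agent.Lib.Invol.TwelveType.Cent
import Cfsg.Agent.Lib.Invol.TwelveType.TripleFacts
import Cfsg.Agent.Lib.Invol.CentRank.Five
import Cfsg.Agent.Lib.Invol.Bender.Tools
import Cfsg.Agent.Lib.Grp.CoprimeAbelian
import Cfsg.Agent.S0217

/-! The signalizer functor on pure eight groups and the normalizer of its closure. -/

set_option autoImplicit false
set_option linter.style.haveILetI false
set_option linter.unusedSectionVars false
set_option maxRecDepth 100000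

namespace Cfsg.Agent.Invol.TwelveType

open Subgroup Cfsg.Agent.Grp

universe u

/-- A list of commuting involutions closed under products. -/
def subOk (L : List (Fin 64)) : Bool :=
  L.contains 0 && L.all fun a => invI a == a && mulI a a == 0 && L.all fun b => comI a b && L.contains (mulI a b)

theorem subOk_iff {L : List (Fin 64)} (h : subOk L = true) :
    0 ∈ L ∧ ∀ a ∈ L, invI a = a ∧ mulI a a = 0 ∧ ∀ b ∈ L, comI a b = true ∧ mulI a b ∈ L := by
  simp only [subOk, Bool.and_eq_true, List.all_eq_true, List.contains_iff_mem, beq_iff_eq] at h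
  exact ⟨h.1, fun a ha => ⟨(h.2 a ha).1.1, (h.2 a ha).1.2, (h.2 a ha).2⟩⟩

theorem eights_subOk : subOk eightI = true ∧ subOk eightU = true ∧ subOk planeP = true ∧
    eightI.Nodup ∧ eightU.Nodup ∧ planeP.Nodup ∧ (∀ p ∈ planeP, p ∈ eightI ∧ p ∈ eightU) := by decide +kernel

variable {G : Type u} [Group G] [Finite G]

namespace Setting

variable (d : Setting G)

/-- The subgroup of a list of indices. -/
def sub (L : List (Fin 64)) (h : subOk L = true) : Subgroup G where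
  carrier := {g | ∃ n ∈ L, d.co.el n = g}
  one_mem' := ⟨0, (subOk_iff h).1, d.co.el_zero⟩
  mul_mem' := by
    rintro _ _ ⟨a, ha, rfl⟩ ⟨b, hb, rfl⟩
    exact ⟨_, (((subOk_iff h).2 a ha).2.2 b hb).2, (d.co.mul a b).symm⟩
  inv_mem' := by
    rintro _ ⟨a, ha, rfl⟩
    exact ⟨a, ha, by rw [← d.co.el_inv, ((subOk_iff h).2 a ha).1]⟩

/-- The signalizer. -/
abbrev θ (g : G) : Subgroup G := Cfsg.centralizerPPrimeCore 2 g

variable {d}

theorem θ_le (g : G) : θ g ≤ centralizer ({g} : Set G) := map_subtype_le _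

theorem θ_odd (g : G) : Odd (Nat.card (θ g)) := by
  rw [θ, Cfsg.centralizerPPrimeCore, Subgroup.card_map_of_injective (Subgroup.subtype_injective _)]
  exact Nat.Coprime.odd_of_right pPrimeCore_coprime

theorem θ_conj {g a x : G} (hx : x ∈ θ a) : g * x * g⁻¹ ∈ θ (g * a * g⁻¹) := CentRank.core_conj hx

theorem sub_comm {L : List (Fin 64)} {h : subOk L = true} {a b : G} (ha : a ∈ d.sub L h) (hb : b ∈ d.sub L h) :
    a * b = b * a := by
  obtain ⟨n, hn, rfl⟩ := ha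
  obtain ⟨m, hm, rfl⟩ := hb
  exact d.co.com_iff.1 (((subOk_iff h).2 n hn).2.2 m hm).1

theorem sub_pgroup {L : List (Fin 64)} {h : subOk L = true} : IsPGroup 2 (d.sub L h) :=
  d.P.isPGroup'.to_le fun _ ⟨n, _, e⟩ => e ▸ d.co.mem_el n

theorem card_sub {L : List (Fin 64)} {h : subOk L = true} (hnd : L.Nodup) : Nat.card (d.sub L h) = L.length := by
  let f : {a : Fin 64 // a ∈ L} → ↥(d.sub L h) := fun a => ⟨d.co.el a, a, a.2, rfl⟩
  have hf : Function.Bijective f := ⟨fun a b e => Subtype.ext (d.co.inj (congrArg Subtype.val e)),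
    fun ⟨x, a, ha, hx⟩ => ⟨⟨a, ha⟩, Subtype.ext hx⟩⟩
  rw [← Nat.card_congr (Equiv.ofBijective f hf), Nat.card_eq_fintype_card,
    Fintype.card_of_subtype L.toFinset fun p => List.mem_toFinset, List.toFinset_card_of_nodup hnd]

/-- The signalizer closure on a list. -/
def Wof (d : Setting G) (L : List (Fin 64)) : Subgroup G := ⨆ n ∈ {n | n ∈ L ∧ n ≠ 0}, θ (d.co.el n)

/-- The signalizer closure on the plane. -/
def W (d : Setting G) : Subgroup G := d.Wof planeP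

/-- Its normalizer. -/
def M (d : Setting G) : Subgroup G := normalizer (d.W : Set G)

section WithK

variable (hk : IsConj (d.co.el 32) (d.co.el 21))
include hk

/-- An odd subgroup of the centraliser of a conjugate of `z`, normalised by an eight group, lies in the core. -/
theorem odd_le_θ {n : Fin 64} (hn : n ∈ zList) {A U : Subgroup G} (hA : IsPGroup 2 A)
    (hAc : ∀ a ∈ A, ∀ b ∈ A, a * b = b * a) (hAcard : 8 ≤ Nat.card A)
    (hAC : A ≤ centralizer ({d.co.el n} : Set G)) (hUC : U ≤ centralizer ({d.co.el n} : Set G))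
    (hUo : Odd (Nat.card U)) (hAU : A ≤ normalizer (U : Set G)) : U ≤ θ (d.co.el n) := by
  obtain ⟨g, hg⟩ := _root_.isConj_iff.1 ((Z_iff hk).2 hn)
  have hC : ∀ {X : Subgroup G}, X ≤ centralizer ({d.co.el n} : Set G) → X.map (MulAut.conj g).toMonoidHom ≤ d.C := by
    rintro X hX _ ⟨x, hx, rfl⟩
    refine mem_C.2 ?_
    show g * x * g⁻¹ * d.co.el 10 = d.co.el 10 * (g * x * g⁻¹)
    rw [← hg]
    have := mem_centralizer_singleton_iff.1 (hX hx)
    calc g * x * g⁻¹ * (g * d.co.el n * g⁻¹) = g * (x * d.co.el n) * g⁻¹ := by group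
      _ = g * (d.co.el n * x) * g⁻¹ := by rw [this]
      _ = _ := by group
  have hcard : ∀ X : Subgroup G, Nat.card (X.map (MulAut.conj g).toMonoidHom) = Nat.card X := fun X =>
    Subgroup.card_map_of_injective (f := (MulAut.conj g).toMonoidHom) (MulAut.conj g).injective
  have h1 := d.odd_le_O hk (A := A.map (MulAut.conj g).toMonoidHom) (U := U.map (MulAut.conj g).toMonoidHom)
    (hA.map _) (by
      rintro _ ⟨a, ha, rfl⟩ _ ⟨b, hb, rfl⟩
      rw [← map_mul, ← map_mul, hAc a ha b hb]) (by rwa [hcard]) (hC hAC) (hC hUC) (by rwa [hcard]) (by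
      rintro _ ⟨a, ha, rfl⟩
      refine mem_normalizer_fintype ?_
      rintro _ ⟨x, hx, rfl⟩
      exact ⟨a * x * a⁻¹, mem_conj_normalizer (hAU ha) hx, by simp [mul_assoc]⟩)
  intro x hx
  have h2 : g * x * g⁻¹ ∈ θ (d.co.el 10) := h1 ⟨x, hx, rfl⟩
  have h3 := θ_conj (g := g⁻¹) h2
  rw [← hg] at h3
  simpa [mul_assoc] using h3

/-- Signalizer functor theorem for a pure eight group. -/
theorem sft {L : List (Fin 64)} (h : subOk L = true) (hnd : L.Nodup) (hlen : L.length = 8)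
    (hz : ∀ n ∈ L, n ≠ 0 → n ∈ zList) :
    Odd (Nat.card (d.Wof L)) ∧ ∀ n ∈ L, n ≠ 0 → d.Wof L ⊓ centralizer ({d.co.el n} : Set G) = θ (d.co.el n) := by
  haveI : Fact (Nat.Prime 2) := ⟨Nat.prime_two⟩
  set A := d.sub L h
  have hcA : Nat.card A = 8 := by rw [card_sub hnd, hlen]
  have hidx : ∀ a ∈ A, a ≠ 1 → ∃ n ∈ L, n ≠ 0 ∧ n ∈ zList ∧ d.co.el n = a := by
    rintro _ ⟨n, hn, rfl⟩ h1
    have hn0 : n ≠ 0 := fun e => h1 (by rw [e, d.co.el_zero])
    exact ⟨n, hn, hn0, hz n hn hn0, rfl⟩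
  have hinv : ∀ a ∈ A, ∀ b ∈ A, ∀ x ∈ θ a, b * x * b⁻¹ ∈ θ a := fun a ha b hb x hx => by
    have := θ_conj (g := b) hx
    rwa [sub_comm hb ha, mul_inv_cancel_right] at this
  have hres := S0217.result (p := 2) A (fun a ha b hb => sub_comm ha hb)
    (fun a ha => by
      obtain ⟨n, hn, rfl⟩ := ha
      rw [pow_two, d.co.mul, ((subOk_iff h).2 n hn).2.1, d.co.el_zero])
    (by rw [hcA]; norm_num) (fun g => θ g) (fun a _ _ => θ_le a)
    (fun a _ _ h' => (Nat.not_even_iff_odd.2 (θ_odd a)) (even_iff_two_dvd.2 h'))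
    (fun a ha _ b hb x hx => hinv a ha b hb x hx) (fun a _ _ => Invol.Bender.solvable_of_odd (θ_odd a))
    (fun a ha ha1 b hb hb1 => by
      obtain ⟨n, -, -, hnz, rfl⟩ := hidx b hb hb1
      refine odd_le_θ hk hnz (A := A) (sub_pgroup) (fun x hx y hy => sub_comm hx hy) hcA.ge
        (fun x hx => mem_centralizer_singleton_iff.2 (sub_comm hx hb)) inf_le_right
        ((θ_odd a).of_dvd_nat (Subgroup.card_dvd_of_le inf_le_left)) fun x hx => ?_
      refine mem_normalizer_fintype fun y hy => ⟨hinv a ha x hx y hy.1, mem_centralizer_singleton_iff.2 ?_⟩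
      have h1 := mem_centralizer_singleton_iff.1 hy.2
      have h2 : x * d.co.el n * x⁻¹ = d.co.el n := by rw [sub_comm hx hb, mul_inv_cancel_right]
      calc x * y * x⁻¹ * d.co.el n = x * y * x⁻¹ * (x * d.co.el n * x⁻¹) := by rw [h2]
        _ = x * (y * d.co.el n) * x⁻¹ := by group
        _ = x * (d.co.el n * y) * x⁻¹ := by rw [h1]
        _ = x * d.co.el n * x⁻¹ * (x * y * x⁻¹) := by group
        _ = _ := by rw [h2])
  have heq : d.Wof L = ⨆ a : {a : G // a ∈ A ∧ a ≠ 1}, θ (a : G) := by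
    refine le_antisymm (iSup₂_le fun n hn => ?_) (iSup_le fun a => ?_)
    · exact le_iSup_of_le ⟨d.co.el n, ⟨n, hn.1, rfl⟩, fun e => hn.2 (d.co.el_eq_one.1 e)⟩ le_rfl
    · obtain ⟨n, hn, hn0, -, he⟩ := hidx a a.2.1 a.2.2
      rw [← he]
      exact le_iSup₂_of_le n ⟨hn, hn0⟩ le_rfl
  refine ⟨?_, fun n hn hn0 => ?_⟩
  · rw [heq, ← Nat.not_even_iff_odd, even_iff_two_dvd]
    exact hres.1
  · rw [heq]
    exact hres.2 _ ⟨n, hn, rfl⟩ fun e => hn0 (d.co.el_eq_one.1 e)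

omit hk in
theorem Wof_le_normalizer {L : List (Fin 64)} (h : subOk L = true) :
    d.sub L h ≤ normalizer (d.Wof L : Set G) := by
  intro b hb
  refine mem_normalizer_fintype fun x hx => ?_
  have hle : (d.Wof L).map (MulAut.conj b).toMonoidHom ≤ d.Wof L := by
    rw [map_le_iff_le_comap]
    refine iSup₂_le fun n hn y hy => ?_
    have := θ_conj (g := b) hy
    rw [sub_comm hb (show d.co.el n ∈ d.sub L h from ⟨n, hn.1, rfl⟩), mul_inv_cancel_right] at this
    exact le_iSup₂ (f := fun n (_ : n ∈ {n | n ∈ L ∧ n ≠ 0}) => θ (d.co.el n)) n hn this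
  exact hle ⟨x, hx, rfl⟩

/-- The closure is generated on the plane. -/
theorem Wof_eq {L : List (Fin 64)} (h : subOk L = true) (hnd : L.Nodup) (hlen : L.length = 8)
    (hz : ∀ n ∈ L, n ≠ 0 → n ∈ zList) (hP : ∀ p ∈ planeP, p ∈ L) : d.Wof L = d.W := by
  haveI : Fact (Nat.Prime 2) := ⟨Nat.prime_two⟩
  obtain ⟨hodd, hW⟩ := sft hk h hnd hlen hz
  refine le_antisymm ?_ (iSup₂_le fun n hn =>
    le_iSup₂ (f := fun n (_ : n ∈ {n | n ∈ L ∧ n ≠ 0}) => θ (d.co.el n)) n ⟨hP n hn.1, hn.2⟩)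
  set B := d.sub planeP eights_subOk.2.2.1
  haveI : IsMulCommutative B := ⟨⟨fun a b => Subtype.ext (sub_comm a.2 b.2)⟩⟩
  have hcB : Nat.card B = 4 := by rw [card_sub eights_subOk.2.2.2.2.2.1]; rfl
  have hB : ¬ IsCyclic B := fun hc => by
    obtain ⟨⟨_, n, hn, rfl⟩, hgen⟩ := hc.exists_ofOrder_eq_natCard
    rw [hcB] at hgen
    have h2 : (⟨d.co.el n, n, hn, rfl⟩ : ↥B) ^ 2 = 1 := Subtype.ext (by
      show d.co.el n ^ 2 = 1
      rw [pow_two, d.co.mul, ((subOk_iff eights_subOk.2.2.1).2 n hn).2.1, d.co.el_zero])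
    have := orderOf_dvd_of_pow_eq_one h2
    rw [hgen] at this
    exact absurd this (by norm_num)
  rw [← Grp.generated_by_centralizers B (d.Wof L) hB (le_trans (show B ≤ d.sub L h from fun _ ⟨n, hn, e⟩ => ⟨n, hP n hn, e⟩)
    (Wof_le_normalizer h)) (by rw [hcB]; exact (Nat.Coprime.pow_left 2 hodd.coprime_two_left : Nat.Coprime (2 ^ 2) _))]
  refine iSup₂_le fun a ha => ?_
  obtain ⟨⟨n, hn, rfl⟩, ha1⟩ := ha
  have hn0 : n ≠ 0 := fun e => ha1 (by rw [e, d.co.el_zero])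
  rw [hW n (hP n hn) hn0]
  exact le_iSup₂ (f := fun n (_ : n ∈ {n | n ∈ planeP ∧ n ≠ 0}) => θ (d.co.el n)) n ⟨hn, hn0⟩

theorem eight_data : (∀ n ∈ eightI, n ≠ 0 → n ∈ zList) ∧ ∀ n ∈ eightU, n ≠ 0 → n ∈ zList :=
  ⟨fun n hn h0 => by simpa [h0] using List.all_eq_true.1 eight_z.1 n hn,
    fun n hn h0 => by simpa [h0] using List.all_eq_true.1 eight_z.2.2 n hn⟩

theorem W_odd : Odd (Nat.card d.W) := by
  rw [← Wof_eq hk eights_subOk.1 eights_subOk.2.2.2.1 rfl (eight_data hk).1 fun p hp => (eights_subOk.2.2.2.2.2.2 p hp).1]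
  exact (sft hk eights_subOk.1 eights_subOk.2.2.2.1 rfl (eight_data hk).1).1

theorem W_inf {L : List (Fin 64)} (hL : L = eightI ∨ L = eightU) {n : Fin 64} (hn : n ∈ L) (hn0 : n ≠ 0) :
    d.W ⊓ centralizer ({d.co.el n} : Set G) = θ (d.co.el n) := by
  rcases hL with rfl | rfl
  · rw [← Wof_eq hk eights_subOk.1 eights_subOk.2.2.2.1 rfl (eight_data hk).1
      fun p hp => (eights_subOk.2.2.2.2.2.2 p hp).1]
    exact (sft hk eights_subOk.1 eights_subOk.2.2.2.1 rfl (eight_data hk).1).2 n hn hn0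
  · rw [← Wof_eq hk eights_subOk.2.1 eights_subOk.2.2.2.2.1 rfl (eight_data hk).2
      fun p hp => (eights_subOk.2.2.2.2.2.2 p hp).2]
    exact (sft hk eights_subOk.2.1 eights_subOk.2.2.2.2.1 rfl (eight_data hk).2).2 n hn hn0

/-- An element carrying an eight group to an eight group lies in `M`. -/
theorem mem_M_of_map {L L' : List (Fin 64)} (hL : L = eightI ∨ L = eightU) (hL' : L' = eightI ∨ L' = eightU) {g : G}
    (hg : ∀ a ∈ L, ∃ b ∈ L', d.co.el b = g * d.co.el a * g⁻¹) : g ∈ d.M := by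
  have hW : ∀ {L}, L = eightI ∨ L = eightU → d.Wof L = d.W := by
    rintro L (rfl | rfl)
    · exact Wof_eq hk eights_subOk.1 eights_subOk.2.2.2.1 rfl (eight_data hk).1
        fun p hp => (eights_subOk.2.2.2.2.2.2 p hp).1
    · exact Wof_eq hk eights_subOk.2.1 eights_subOk.2.2.2.2.1 rfl (eight_data hk).2
        fun p hp => (eights_subOk.2.2.2.2.2.2 p hp).2
  have hle : d.W.map (MulAut.conj g).toMonoidHom ≤ d.W := by
    nth_rewrite 1 [← hW hL]
    rw [← hW hL', map_le_iff_le_comap]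
    refine iSup₂_le fun n hn y hy => ?_
    obtain ⟨b, hb, hbe⟩ := hg n hn.1
    have := θ_conj (g := g) hy
    rw [← hbe] at this
    refine le_iSup₂ (f := fun n (_ : n ∈ {n | n ∈ L' ∧ n ≠ 0}) => θ (d.co.el n)) b ⟨hb, fun e => hn.2 ?_⟩ this
    rwa [e, d.co.el_zero, eq_comm, conj_eq_one_iff, d.co.el_eq_one] at hbe
  exact mem_normalizer_fintype fun x hx => hle ⟨x, hx, rfl⟩

theorem P_le_M : (d.P : Subgroup G) ≤ d.M := fun x hx => by
  obtain ⟨h, rfl⟩ := (d.co.mem x).1 hx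
  exact mem_M_of_map hk (Or.inl rfl) (Or.inl rfl) (fixesI_el h)

theorem θ_le_M {n : Fin 64} (hn : n ∈ eightI) (hn0 : n ≠ 0) : θ (d.co.el n) ≤ d.M := by
  rw [← W_inf hk (Or.inl rfl) hn hn0]
  exact inf_le_left.trans le_normalizer

/-- The centraliser of the central involution lies in `M`. -/
theorem C_le_M : d.C ≤ d.M := by
  haveI : Fact (Nat.Prime 2) := ⟨Nat.prime_two⟩
  haveI : d.O.Normal := pPrimeCore_isNormal
  set E := (d.sub eightI eights_subOk.1).subgroupOf d.C with hE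
  have hOM : d.O.map d.C.subtype ≤ d.M := θ_le_M hk (n := 10) (by decide) (by decide)
  have hEp : IsPGroup 2 E := (sub_pgroup).comap_of_injective _ d.C.subtype_injective
  have hPE : ∀ x, x ∈ E.map (QuotientGroup.mk' d.O) ↔ ∃ a ∈ eightI, (d.elC a : ↥d.C ⧸ d.O) = x := by
    intro x
    constructor
    · rintro ⟨⟨y, hyC⟩, hy, rfl⟩
      obtain ⟨a, ha, rfl⟩ := mem_subgroupOf.1 hy
      exact ⟨a, ha, rfl⟩
    · rintro ⟨a, ha, rfl⟩
      exact ⟨d.elC a, mem_subgroupOf.2 ⟨a, ha, rfl⟩, rfl⟩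
  intro x hx
  have hnorm : QuotientGroup.mk' d.O ⟨x, hx⟩ ∈ normalizer (E.map (QuotientGroup.mk' d.O) : Set (↥d.C ⧸ d.O)) := by
    refine mem_normalizer_fintype fun y hy => ?_
    obtain ⟨a, ha, rfl⟩ := (hPE y).1 hy
    obtain ⟨b, hb, hbe⟩ := QuotHyp.E_normal (q := d.quot hk) (QuotientGroup.mk' d.O ⟨x, hx⟩) ha
    exact (hPE _).2 ⟨b, hb, hbe⟩
  rw [← map_normalizer_pGroup hEp] at hnorm
  obtain ⟨m, hm, hme⟩ := hnorm
  have hmM : (m : G) ∈ d.M := mem_M_of_map hk (Or.inl rfl) (Or.inl rfl) fun a ha => by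
    obtain ⟨b, hb, hbe⟩ : (m : G) * d.co.el a * (m : G)⁻¹ ∈ d.sub eightI eights_subOk.1 :=
      mem_subgroupOf.1 ((mem_normalizer_iff.1 hm (d.elC a)).1 (mem_subgroupOf.2 ⟨a, ha, rfl⟩))
    exact ⟨b, hb, hbe⟩
  have hd : (m⁻¹ * ⟨x, hx⟩ : ↥d.C) ∈ d.O := QuotientGroup.eq.1 hme
  have := d.M.mul_mem hmM (hOM ⟨_, hd, rfl⟩)
  simpa using this

end WithK

end Setting

end Cfsg.Agent.Invol.TwelveType
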